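import Cfsg.Agent.Lib.GlaubermanTwo54.Main54
import Cfsg.Agent.Lib.ConjFunctor.Main
import Cfsg.Agent.Lib.Transfer.InvolvesS4
import Mathlib.GroupTheory.Transfer

/-!
# A strongly closed abelian subgroup in a `Sym(4)`-free group

`A`, the normal closure of `Ω₁Z(S)` in `N(J(S))`, lies in `Ω₁Z(Ĵ(S))` and is strongly closed in `S`.

Owner: helper54.
-/

set_option autoImplicit false
set_option linter.style.haveILetI false
set_option linter.unusedSectionVars false

namespace Cfsg.Agent.Lib.GlaubermanTwo54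

open PLocal
open Cfsg.Agent.Lib.Fusion.Alperin
open Cfsg.Agent.Lib.ConjFunctor.Basic
open Cfsg.Agent.Lib.ConjFunctor.Reach
open Cfsg.Agent.Lib.ConjFunctor.Local
open Cfsg.Agent.Lib.ConjFunctor.Section

universe u

variable {G : Type u} [Group G]

/-- The composition factors of the constrained sections are `TypOdd`. -/
def SecTyp (G : Type u) [Group G] : Prop :=
  ∀ (K : Subgroup G) (O : Subgroup ↥K) [O.Normal], Constrained 2 (↥K ⧸ O) →
    Cfsg.IsCompositionKGroupWith (fun (X : Type u) [Group X] => TypOdd X) (↥K ⧸ O)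

theorem secTyp_of [Finite G]
    (h : ∀ (K R : Subgroup G) [(R.subgroupOf K).Normal],
      Subgroup.centralizer (Cfsg.pCore 2 (↥K ⧸ R.subgroupOf K) : Set (↥K ⧸ R.subgroupOf K)) ≤
          Cfsg.pCore 2 (↥K ⧸ R.subgroupOf K) →
        Cfsg.IsCompositionKGroupWith Cfsg.IsSuzukiOrPSL2OddPowerThree (↥K ⧸ R.subgroupOf K)) :
    SecTyp G := by
  intro K O _ hc
  have he : (O.map K.subtype).subgroupOf K = O :=
    Subgroup.comap_map_eq_self_of_injective K.subtype_injective _
  haveI : ((O.map K.subtype).subgroupOf K).Normal := by rw [he]; infer_instance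
  let e := QuotientGroup.quotientMulEquivOfEq he
  haveI : Fact (Nat.Prime 2) := ⟨Nat.prime_two⟩
  refine (KnownSimple.compKGroup_congr isoInvariant_typOdd e).1 ?_
  exact fun H hH N _ hs hna => Or.inl (h K _ (constrained_congr e.symm hc) H hH N hs hna)

theorem free_quotient [Finite G] (h : ¬ Cfsg.Involves (Equiv.Perm (Fin 4)) G) (K : Subgroup G)
    (O : Subgroup ↥K) [O.Normal] : ¬ Cfsg.Involves (Equiv.Perm (Fin 4)) (↥K ⧸ O) := fun h' =>
  free_subgroup h K (Transfer.InvolvesS4.involves_of_surjective _ (QuotientGroup.mk'_surjective O) h')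

section Finite

variable [Finite G]

/-- Elements of odd order in a normal subgroup with central Sylow 2-subgroup lie in `O(G)`. -/
theorem odd_mem_pPrimeCore (C : Subgroup G) [C.Normal] (S : Sylow 2 G)
    (hc : (S : Subgroup G) ⊓ C ≤ Subgroup.centralizer (C : Set G)) {b : G} (hb : b ∈ C)
    (hbo : (orderOf b).Coprime 2) : b ∈ Cfsg.pPrimeCore 2 G := by
  haveI : Fact (Nat.Prime 2) := ⟨Nat.prime_two⟩
  obtain ⟨T, hT⟩ := exists_sylow_inf S C
  have hN : Subgroup.normalizer ((T : Subgroup ↥C) : Set ↥C) ≤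
      Subgroup.centralizer ((T : Subgroup ↥C) : Set ↥C) := by
    intro g _
    refine Subgroup.mem_centralizer_iff.2 fun t ht => Subtype.ext ?_
    have ht' : (t : G) ∈ (S : Subgroup G) ⊓ C := hT ▸ Subgroup.mem_map_of_mem C.subtype ht
    exact (Subgroup.mem_centralizer_iff.1 (hc ht') g g.2).symm
  set f := MonoidHom.transferSylow T hN with hf
  have hodd : ∀ y : ↥C, (orderOf (y : G)).Coprime 2 → y ∈ f.ker := by
    intro y hy
    rw [MonoidHom.mem_ker, ← orderOf_eq_one_iff]
    obtain ⟨j, hj⟩ := IsPGroup.iff_orderOf.1 T.2 (f y)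
    refine Nat.eq_one_of_dvd_coprimes (hy.pow_right j) ?_ (dvd_of_eq hj)
    rw [Subgroup.orderOf_coe]
    exact orderOf_map_dvd f y
  have hK : ¬ 2 ∣ Nat.card f.ker := MonoidHom.not_dvd_card_ker_transferSylow T hN
  set K : Subgroup G := f.ker.map C.subtype with hKdef
  have hKc : (Nat.card K).Coprime 2 := by
    rw [hKdef, Subgroup.card_map_of_injective C.subtype_injective]
    exact ((Nat.Prime.coprime_iff_not_dvd Nat.prime_two).2 hK).symm
  have hKm : ∀ x ∈ C, (orderOf x).Coprime 2 → x ∈ K := fun x hx hxo => ⟨⟨x, hx⟩, hodd _ hxo, rfl⟩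
  haveI : K.Normal := by
    refine ⟨fun x hx g => hKm _ ?_ ?_⟩
    · exact (inferInstance : C.Normal).conj_mem x (Subgroup.map_subtype_le _ hx) g
    · have : orderOf (g * x * g⁻¹) = orderOf x :=
        orderOf_injective (MulAut.conj g).toMonoidHom (MulAut.conj g).injective x
      rw [this]
      exact hKc.coprime_dvd_left (Subgroup.orderOf_dvd_natCard _ hx)
  exact Cores.le_pPrimeCore hKc (hKm b hb hbo)

/-- A subgroup with a normal 2-subgroup whose centraliser has central trace on a Sylow subgroup is of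
characteristic 2 modulo its odd core. -/
theorem constrained_quotient_pPrimeCore (S : Sylow 2 G) {P : Subgroup G} [P.Normal]
    (hP : P ≤ (S : Subgroup G)) (hC : (S : Subgroup G) ⊓ Subgroup.centralizer (P : Set G) ≤ P) :
    Constrained 2 (G ⧸ Cfsg.pPrimeCore 2 G) := by
  haveI : Fact (Nat.Prime 2) := ⟨Nat.prime_two⟩
  set O := Cfsg.pPrimeCore 2 G with hO
  set π := QuotientGroup.mk' O with hπ
  set C := Subgroup.centralizer (P : Set G) with hCdef
  haveI : C.Normal := Subgroup.normal_centralizer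
  haveI : (P.map π).Normal := (inferInstance : P.Normal).map π (QuotientGroup.mk'_surjective O)
  have hPp : IsPGroup 2 P := S.2.to_le hP
  have hPQ : P.map π ≤ Cfsg.pCore 2 (G ⧸ O) := Cores.le_pCore (hPp.map π)
  intro y hy
  obtain ⟨x, rfl⟩ : ∃ x, π x = y := QuotientGroup.mk'_surjective O y
  have hy' := Subgroup.centralizer_le hPQ hy
  have hx : x ∈ C := by
    refine Subgroup.mem_centralizer_iff.2 fun q hq => ?_
    have h1 := Subgroup.mem_centralizer_iff.1 hy' (π q) ⟨q, hq, rfl⟩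
    have h2 : q * x * q⁻¹ * x⁻¹ ∈ O := by
      refine (QuotientGroup.eq_one_iff _).1 ?_
      show π (q * x * q⁻¹ * x⁻¹) = 1
      rw [map_mul, map_mul, map_mul, h1, map_inv, map_inv]
      group
    have h3 : q * x * q⁻¹ * x⁻¹ ∈ P := by
      rw [show q * x * q⁻¹ * x⁻¹ = q * (x * q⁻¹ * x⁻¹) by group]
      exact P.mul_mem hq ((inferInstance : P.Normal).conj_mem _ (inv_mem hq) x)
    have h4 : orderOf (q * x * q⁻¹ * x⁻¹) = 1 := by
      obtain ⟨j, hj⟩ := IsPGroup.iff_orderOf.1 hPp ⟨_, h3⟩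
      rw [← Subgroup.orderOf_coe] at hj
      exact Nat.eq_one_of_dvd_coprimes ((Cores.pPrimeCore_coprime 2).pow_right j)
        (Subgroup.orderOf_dvd_natCard _ h2) (dvd_of_eq hj)
    rw [orderOf_eq_one_iff, mul_inv_eq_one, mul_inv_eq_iff_eq_mul] at h4
    exact h4
  have hcen : (S : Subgroup G) ⊓ C ≤ Subgroup.centralizer (C : Set G) := fun z hz =>
    Subgroup.mem_centralizer_iff.2 fun c hc => (Subgroup.mem_centralizer_iff.1 hc z (hC hz)).symm
  obtain ⟨a, b, ha, hb, hab, -, ⟨j, hj⟩, hbo⟩ :=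
    Transfer.PResidual.exists_pPart_mul_pPrimePart (p := 2) x (isOfFinOrder_of_finite x)
  have haC : a ∈ C := Subgroup.zpowers_le.2 hx ha
  have hbC : b ∈ C := Subgroup.zpowers_le.2 hx hb
  have hbO := odd_mem_pPrimeCore C S hcen hbC hbo
  have haP : a ∈ P := by
    obtain ⟨T, hT⟩ := exists_sylow_inf S C
    have hp : IsPGroup 2 (Subgroup.zpowers (⟨a, haC⟩ : C)) := by
      rintro ⟨w, i, rfl⟩
      refine ⟨j, Subtype.ext ?_⟩
      have h1 : (⟨a, haC⟩ : C) ^ 2 ^ j = 1 := Subtype.ext (by simpa using hj)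
      show ((⟨a, haC⟩ : C) ^ i) ^ 2 ^ j = 1
      rw [← zpow_natCast, ← zpow_mul, mul_comm, zpow_mul, zpow_natCast, h1, one_zpow]
    obtain ⟨R, hR⟩ := hp.exists_le_sylow
    obtain ⟨c, hc⟩ := MulAction.exists_smul_eq C R T
    have h5 : c * ⟨a, haC⟩ * c⁻¹ ∈ (T : Subgroup C) := by
      rw [← hc, Sylow.coe_subgroup_smul]
      exact Subgroup.mem_map_of_mem (MulAut.conj c).toMonoidHom (hR (Subgroup.mem_zpowers _))
    have h6 : (c : G) * a * (c : G)⁻¹ ∈ (S : Subgroup G) ⊓ C :=
      hT ▸ Subgroup.mem_map_of_mem C.subtype h5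
    have h7 := Subgroup.mem_centralizer_iff.1 (hcen h6) c c.2
    have h8 : (c : G) * a * (c : G)⁻¹ = a := by
      have h9 := mul_left_cancel (h7.trans (by group : (c : G) * a * (c : G)⁻¹ * c = c * a))
      exact h9
    rw [h8] at h6
    exact hC h6
  have hπb : π b = 1 := (QuotientGroup.eq_one_iff b).2 hbO
  rw [← hab, map_mul, hπb, mul_one]
  exact hPQ (Subgroup.mem_map_of_mem π haP)

/-- Fusion splits into steps from a normal subgroup and from the normaliser of its trace. -/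
theorem frattini_chain {p : ℕ} [Fact p.Prime] (T : Sylow p G) (K : Subgroup G) [K.Normal]
    {A : Set G} {h : G} (hA : A ⊆ (T : Subgroup G)) (hhA : cimg h A ⊆ (T : Subgroup G)) :
    Chain ((K : Set G) ∪ (Subgroup.normalizer (((T : Subgroup G) ⊓ K : Subgroup G) : Set G) : Set G))
      (T : Subgroup G) A h := by
  set M := Subgroup.normalizer (((T : Subgroup G) ⊓ K : Subgroup G) : Set G) with hM
  have hTM : (T : Subgroup G) ≤ M := (le_inf Subgroup.le_normalizer (pCore_le_normalizer K _)).trans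
    Subgroup.inf_normalizer_le_normalizer_inf
  obtain ⟨k, hk, m, hm, rfl⟩ : ∃ k ∈ K, ∃ m ∈ M, h = k * m := by
    have hh : h ∈ K ⊔ M := by rw [sup_comm, hM, normalizer_inf_sup_eq_top]; trivial
    obtain ⟨k, hk, m, hm, e⟩ := Subgroup.mem_sup_of_normal_left.mp hh
    exact ⟨k, hk, m, hm, e.symm⟩
  set U := (K ⊔ (T : Subgroup G)) ⊓ M with hU
  have hTU : (T : Subgroup G) ≤ U := le_inf le_sup_right hTM
  have hB : conjS m (Subgroup.closure A) ≤ U := by
    rw [conjS, MonoidHom.map_closure, Subgroup.closure_le]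
    rintro _ ⟨x, hx, rfl⟩
    refine Subgroup.mem_inf.2 ⟨?_, mul_mem (mul_mem hm (hTM (hA hx))) (inv_mem hm)⟩
    have h3 : k⁻¹ * (k * m * x * (k * m)⁻¹) * k ∈ K ⊔ (T : Subgroup G) :=
      mul_mem (mul_mem (Subgroup.mem_sup_left (inv_mem hk))
        (Subgroup.mem_sup_right (hhA (mem_cimg hx)))) (Subgroup.mem_sup_left hk)
    rwa [show k⁻¹ * (k * m * x * (k * m)⁻¹) * k = m * x * m⁻¹ by group] at h3
  obtain ⟨d, hd, hdB⟩ := ((isSyl_top T).mono hTU le_top).exists_conj_le
    ((T.2.to_le ((Subgroup.closure_le _).2 hA)).map _) hB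
  obtain ⟨hd1, hd2⟩ := Subgroup.mem_inf.1 hd
  obtain ⟨s, hs, n, hn, rfl⟩ : ∃ s ∈ (T : Subgroup G), ∃ n ∈ K, d = s * n := by
    rw [sup_comm] at hd1
    obtain ⟨s, hs, n, hn, e⟩ := Subgroup.mem_sup_of_normal_right.mp hd1
    exact ⟨s, hs, n, hn, e.symm⟩
  have hnM : n ∈ M := by simpa using mul_mem (inv_mem (hTM hs)) hd2
  have hnm : cimg (n * m) A ⊆ (T : Subgroup G) := by
    rintro _ ⟨x, hx, rfl⟩
    have h3 := hdB (conj_mem_conjS (conj_mem_conjS (Subgroup.subset_closure hx)))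
    have h4 := mul_mem (mul_mem (inv_mem hs) h3) hs
    rwa [show s⁻¹ * (s * n * (m * x * m⁻¹) * (s * n)⁻¹) * s = n * m * x * (n * m)⁻¹ by group] at h4
  have c := (Chain.single (X := (K : Set G) ∪ (M : Set G)) (Or.inr (mul_mem hnM hm)) hA hnm).comp
    (Chain.single (x := k * n⁻¹) (Or.inl (mul_mem hk (inv_mem hn))) hnm (by
      rw [← cimg_mul, show k * n⁻¹ * (n * m) = k * m by group]; exact hhA))
  rwa [show k * n⁻¹ * (n * m) = k * m by group] at c

theorem normalizer_le_normalizer_zOne (P : Subgroup G) :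
    Subgroup.normalizer (P : Set G) ≤ Subgroup.normalizer (zOne P : Set G) := fun g hg =>
  PGroups.mem_normalizer_of_map_conj_eq (by
    rw [map_zOne _ (MulAut.conj g).injective, PGroups.map_conj_eq_of_mem_normalizer hg])

end Finite

/-! ### The two functors -/

/-- `Ω₁Z(Ĵ(Q))` as a functor. -/
def wZ : ∀ (Q : Type u) [Group Q], Subgroup Q := fun Q _ => zOne (⊤ : Subgroup Q)

/-- `J(Q)` as a functor. -/
def wJ : ∀ (Q : Type u) [Group Q], Subgroup Q := fun Q _ => Cfsg.thompsonSubgroupOf 2 (⊤ : Subgroup Q)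

/-- The two functors. -/
def wSet : Set (∀ (Q : Type u) [Group Q], Subgroup Q) := {wZ, wJ}

theorem inducedFunctor_wZ (P : Subgroup G) : Cfsg.inducedFunctor wZ P = zOne P := by
  show (zOne (⊤ : Subgroup ↥P)).map P.subtype = zOne P
  rw [map_zOne P.subtype P.subtype_injective, ← MonoidHom.range_eq_map, Subgroup.range_subtype]

theorem inducedFunctor_wJ (P : Subgroup G) :
    Cfsg.inducedFunctor wJ P = Cfsg.thompsonSubgroupOf 2 P := by
  show (Cfsg.thompsonSubgroupOf 2 (⊤ : Subgroup ↥P)).map P.subtype = _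
  rw [PGroups.map_thompsonSubgroupOf P.subtype P.subtype_injective, ← MonoidHom.range_eq_map,
    Subgroup.range_subtype]

theorem isCharPFunctor_wSet : ∀ W ∈ (wSet : Set (∀ (Q : Type u) [Group Q], Subgroup Q)),
    Cfsg.IsCharPFunctor.{u} 2 W := by
  rintro W (rfl | rfl)
  · constructor
    · intro Q _ _ hQ hne
      have h1 : (⊤ : Subgroup Q) ≠ ⊥ := top_ne_bot
      have hT : IsPGroup 2 (⊤ : Subgroup Q) := hQ.to_subgroup ⊤
      refine SFourFree.omegaCenterOf_ne_bot (hT.to_le (jHatOf_le _)) fun h => ?_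
      exact SFourFree.thompsonSubgroupOf_ne_bot hT h1 (le_bot_iff.1 (thompson_le_jHatOf.trans h.le))
    · intro Q R _ _ _ _ φ
      show (zOne (⊤ : Subgroup Q)).map φ.toMonoidHom = zOne (⊤ : Subgroup R)
      rw [map_zOne _ φ.injective, Subgroup.map_top_of_surjective _ φ.surjective]
  · constructor
    · intro Q _ _ hQ hne
      exact SFourFree.thompsonSubgroupOf_ne_bot (hQ.to_subgroup ⊤) top_ne_bot
    · intro Q R _ _ _ _ φ
      show (Cfsg.thompsonSubgroupOf 2 (⊤ : Subgroup Q)).map φ.toMonoidHom = _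
      rw [PGroups.map_thompsonSubgroupOf _ φ.injective, Subgroup.map_top_of_surjective _ φ.surjective]
      rfl

theorem mem_steps_iff [Finite G] {S : Subgroup G} {x : G} :
    x ∈ stepSet (nFam (indSet wSet G)) ⊤ S ↔
      x ∈ Subgroup.normalizer (zOne S : Set G) ∨
        x ∈ Subgroup.normalizer (Cfsg.thompsonSubgroupOf 2 S : Set G) := by
  rw [mem_stepSet_nFam]
  constructor
  · rintro ⟨_, ⟨W, rfl | rfl, rfl⟩, -, hx⟩
    · left; simp only [inducedFunctor_wZ] at hx; exact hx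
    · right; simp only [inducedFunctor_wJ] at hx; exact hx
  · rintro (h | h)
    · exact ⟨_, ⟨wZ, Or.inl rfl, rfl⟩, trivial, by simp only [inducedFunctor_wZ]; exact h⟩
    · exact ⟨_, ⟨wJ, Or.inr rfl, rfl⟩, trivial, by simp only [inducedFunctor_wJ]; exact h⟩

section Finite

variable [Finite G]

/-- The two functors control fusion in a constrained group. -/
theorem sf_of_hyp (h : Hyp G) : SF wSet 2 G := by
  intro T A x _ hA hxA
  set J := Cfsg.thompsonSubgroupOf 2 (T : Subgroup G) with hJ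
  set H := Subgroup.normalClosure (J : Set G) with hHdef
  have hH : H ≤ Subgroup.centralizer (zOne (T : Subgroup G) : Set G) := by
    refine (Subgroup.closure_le _).2 fun z hz => ?_
    obtain ⟨a, ha, haz⟩ := Group.mem_conjugatesOfSet_iff.1 hz
    obtain ⟨c, rfl⟩ := isConj_iff.1 haz
    exact conj_of_hyp_aux _ G rfl h T c a ha
  haveI : Fact (Nat.Prime 2) := ⟨Nat.prime_two⟩
  refine (frattini_chain T H hA hxA).weaken ?_ le_rfl
  rintro z (hz | hz)
  · exact mem_steps_iff.2 (Or.inl (Subgroup.centralizer_le_normalizer _ (hH hz)))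
  · exact mem_steps_iff.2 (Or.inr (normalizer_inf_le_thompson Subgroup.subset_normalClosure hz))

/-- The two functors control fusion in the whole group. -/
theorem sf_of_sec (hfree : ¬ Cfsg.Involves (Equiv.Perm (Fin 4)) G) (hsec : SecTyp G) :
    SF wSet 2 G := by
  haveI : Fact (Nat.Prime 2) := ⟨Nat.prime_two⟩
  refine ConjFunctor.Main.sf_of_loc isCharPFunctor_wSet (fun K R _ hc => ?_) G (IsSection.refl G)
  exact sf_of_hyp ⟨hc, free_quotient hfree K _, hsec K _ hc⟩

/-- The normal closure of `Ω₁Z(S)` in `N(J(S))`. -/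
def ncZ (S N : Subgroup G) : Subgroup G :=
  (Subgroup.normalClosure (((omegaCenterOf 2 S).subgroupOf N : Subgroup ↥N) : Set ↥N)).map N.subtype

theorem ncZ_le {S N X : Subgroup G} (h : omegaCenterOf 2 S ≤ X)
    (hn : N ≤ Subgroup.normalizer (X : Set G)) : ncZ S N ≤ X := by
  rw [ncZ, Subgroup.map_le_iff_le_comap]
  refine (Subgroup.closure_le _).2 fun z hz => ?_
  obtain ⟨a, ha, haz⟩ := Group.mem_conjugatesOfSet_iff.1 hz
  obtain ⟨c, rfl⟩ := isConj_iff.1 haz
  exact (Subgroup.mem_normalizer_iff.1 (hn c.2) a).1 (h ha)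

theorem le_ncZ {S N : Subgroup G} (h : omegaCenterOf 2 S ≤ N) : omegaCenterOf 2 S ≤ ncZ S N :=
  fun x hx => ⟨⟨x, h hx⟩, Subgroup.subset_normalClosure hx, rfl⟩

theorem le_normalizer_ncZ (S N : Subgroup G) : N ≤ Subgroup.normalizer (ncZ S N : Set G) := by
  intro n hn
  refine mem_normalizer_of_forall fun a ha => ?_
  obtain ⟨a', ha', rfl⟩ := ha
  exact ⟨⟨n, hn⟩ * a' * ⟨n, hn⟩⁻¹, Subgroup.normalClosure_normal.conj_mem a' ha' _, rfl⟩

variable (S : Sylow 2 G)

local notation "JS" => Cfsg.thompsonSubgroupOf 2 (S : Subgroup G)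
local notation "NJ" => Subgroup.normalizer
  ((Cfsg.thompsonSubgroupOf 2 (S : Subgroup G) : Subgroup G) : Set G)

theorem ncZ_le_omega : ncZ (S : Subgroup G) NJ ≤ omegaCenterOf 2 JS := by
  refine ncZ_le (fun z hz => ?_) (fun n hn => PGroups.mem_normalizer_of_map_conj_eq (by
    rw [map_omegaCenterOf _ (MulAut.conj n).injective, PGroups.map_conj_eq_of_mem_normalizer hn]))
  have hel := omegaCenterOf_elemAb (p := 2) (S : Subgroup G)
  have hJS : JS ≤ (S : Subgroup G) := PGroups.thompsonSubgroupOf_le 2 _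
  have hJc := hJS.trans (le_centralizer_omegaCenterOf (p := 2) (S : Subgroup G))
  refine PGroups.mem_omegaOne_of_pow ⟨?_, ?_⟩ (hel.2 z hz)
  · exact le_thompson_of_centralized hel (omegaCenterOf_le _) hJc hz
  · exact Subgroup.le_centralizer_iff.mp hJc hz

/-- The crucial bound: `A` has the E-property in `S`. -/
theorem eprop_ncZ (hfree : ¬ Cfsg.Involves (Equiv.Perm (Fin 4)) G) (hsec : SecTyp G) :
    EProp (ncZ (S : Subgroup G) NJ) (S : Subgroup G) := by
  haveI : Fact (Nat.Prime 2) := ⟨Nat.prime_two⟩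
  set J := JS with hJdef
  set N := NJ with hNdef
  set A := ncZ (S : Subgroup G) N with hAdef
  have hJS : J ≤ (S : Subgroup G) := PGroups.thompsonSubgroupOf_le 2 _
  have hSN : (S : Subgroup G) ≤ N :=
    Subgroup.le_normalizer.trans (PGroups.normalizer_le_normalizer_thompson _)
  set C := Subgroup.centralizer (J : Set G) with hCdef
  set D := (S : Subgroup G) ⊓ C with hDdef
  set P := J ⊔ D with hPdef
  have hPS : P ≤ (S : Subgroup G) := sup_le hJS inf_le_left
  have hCN : C ≤ N := Subgroup.centralizer_le_normalizer _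
  have hNC : N ≤ Subgroup.normalizer (C : Set G) := fun x hx =>
    mem_normalizer_of_conjS_eq (by rw [conjS_centralizer, conjS_eq_of_mem_normalizer hx])
  set N1 := N ⊓ Subgroup.normalizer (P : Set G) with hN1
  have hSD : (S : Subgroup G) ≤ Subgroup.normalizer (D : Set G) :=
    (le_inf Subgroup.le_normalizer (hSN.trans hNC)).trans Subgroup.inf_normalizer_le_normalizer_inf
  have hmP : ∀ m ∈ N, m ∈ Subgroup.normalizer (D : Set G) → m ∈ Subgroup.normalizer (P : Set G) :=
    fun m h1 h2 => mem_normalizer_of_conjS_eq (by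
      rw [hPdef, conjS_sup, conjS_eq_of_mem_normalizer h1, conjS_eq_of_mem_normalizer h2])
  have hSN1 : (S : Subgroup G) ≤ N1 := le_inf hSN fun s hs => hmP s (hSN hs) (hSD hs)
  have hAJ : A ≤ omegaCenterOf 2 J := ncZ_le_omega S
  have hZA : omegaCenterOf 2 (S : Subgroup G) ≤ A := le_ncZ ((omegaCenterOf_le _).trans hSN)
  have hAS : A ≤ (S : Subgroup G) := (hAJ.trans (omegaCenterOf_le _)).trans hJS
  have hA1 : A ≤ N1 := hAS.trans hSN1
  -- `A` is generated by the `N1`-conjugates of `Ω₁Z(S)`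
  set S1 : Sylow 2 ↥N1 := S.subtype hSN1 with hS1
  set V : Subgroup ↥N1 := A.subgroupOf N1 with hVdef
  haveI : V.Normal := (Subgroup.normal_subgroupOf_iff_le_normalizer hA1).2
    (inf_le_left.trans (le_normalizer_ncZ _ _))
  have hVel : Cfsg.IsElementaryAbelian 2 V := PGroups.elemAb_comap N1.subtype N1.subtype_injective
    (PGroups.elemAb_mono (omegaCenterOf_elemAb J) hAJ)
  have hgen : V ≤ ⨆ T : Sylow 2 ↥N1, V ⊓ Subgroup.centralizer ((T : Subgroup ↥N1) : Set ↥N1) := by
    rw [← Subgroup.map_le_map_iff_of_injective N1.subtype_injective, hVdef,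
      Subgroup.map_subgroupOf_eq_of_le hA1]
    refine Subgroup.map_le_iff_le_comap.2 ((Subgroup.closure_le _).2 fun z hz => ?_)
    obtain ⟨a, ha, haz⟩ := Group.mem_conjugatesOfSet_iff.1 hz
    obtain ⟨w, rfl⟩ := isConj_iff.1 haz
    obtain ⟨c, hc, m, hm, e⟩ := ((isSyl_top S).mono hSN le_top).frattini hCN hNC w.2
    have hm1 : m ∈ N1 := ⟨hm.1, hmP m hm.1 hm.2⟩
    have haA : (a : G) ∈ A := hZA ha
    have hb : m * (a : G) * m⁻¹ ∈ A :=
      (Subgroup.mem_normalizer_iff.1 (le_normalizer_ncZ _ _ hm.1) _).1 haA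
    have hbc := Subgroup.mem_centralizer_iff.1 hc _ (omegaCenterOf_le _ (hAJ hb))
    have hwa : N.subtype (w * a * w⁻¹) = m * (a : G) * m⁻¹ := by
      show (w : G) * a * (w : G)⁻¹ = _
      rw [e, show c * m * (a : G) * (c * m)⁻¹ = c * (m * a * m⁻¹) * c⁻¹ by group, ← hbc]
      group
    rw [SetLike.mem_coe, Subgroup.mem_comap, hwa]
    refine ⟨⟨m * a * m⁻¹, hA1 hb⟩, ?_, rfl⟩
    refine Subgroup.mem_iSup_of_mem ((⟨m, hm1⟩ : N1) • S1) ⟨hb, Subgroup.mem_centralizer_iff.2 ?_⟩
    intro y hy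
    rw [SetLike.mem_coe, Sylow.coe_subgroup_smul] at hy
    obtain ⟨s, hs, rfl⟩ := hy
    have hs' : (s : G) ∈ (S : Subgroup G) := hs
    have h1 : (a : G) * s = s * a :=
      (Subgroup.mem_centralizer_iff.1 (le_centralizer_omegaCenterOf (p := 2) _ hs') a ha)
    refine Subtype.ext ?_
    show m * (s : G) * m⁻¹ * (m * a * m⁻¹) = m * a * m⁻¹ * (m * (s : G) * m⁻¹)
    rw [show m * (s : G) * m⁻¹ * (m * a * m⁻¹) = m * (s * a) * m⁻¹ by group, ← h1]
    group
  have hred : Cfsg.pCore 2 (↥N1 ⧸ Subgroup.centralizer (V : Set ↥N1)) = ⊥ :=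
    SFourFree.pCore_quotient_eq_bot _ fun E hE hle ⟨k, hk⟩ => by
      haveI := hE
      exact eq_centralizer_of_generated hgen E hle hk
  -- composition factors of `N1`
  set P1 : Subgroup ↥N1 := P.subgroupOf N1 with hP1
  haveI : P1.Normal := (Subgroup.normal_subgroupOf_iff_le_normalizer (hPS.trans hSN1)).2 inf_le_right
  have hP1S : P1 ≤ (S1 : Subgroup ↥N1) := fun x hx => hPS hx
  have hC1 : (S1 : Subgroup ↥N1) ⊓ Subgroup.centralizer (P1 : Set ↥N1) ≤ P1 := by
    rintro x ⟨hxS, hxc⟩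
    refine (le_sup_right : D ≤ P) ⟨hxS, Subgroup.mem_centralizer_iff.2 fun j hj => ?_⟩
    exact congrArg Subtype.val (Subgroup.mem_centralizer_iff.1 hxc
      ⟨j, hSN1 (hJS hj)⟩ ((le_sup_left : J ≤ P) hj))
  have hcomp : Cfsg.IsCompositionKGroupWith (fun (X : Type u) [Group X] => TypOdd X) ↥N1 :=
    KnownSimple.compKGroup_extension isoInvariant_typOdd (Cfsg.pPrimeCore 2 ↥N1)
      (comp_of_odd (Nat.coprime_two_right.mp (Cores.pPrimeCore_coprime 2)))
      (hsec N1 _ (constrained_quotient_pPrimeCore S1 hP1S hC1))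
  have hp := (eprop_of_reduced' (free_subgroup hfree N1) hcomp V hVel hred).mono
    (le_top : (S1 : Subgroup ↥N1) ≤ ⊤)
  rw [← eprop_map_iff N1.subtype N1.subtype_injective, hVdef, Subgroup.map_subgroupOf_eq_of_le hA1,
    hS1, Sylow.coe_subtype, Subgroup.map_subgroupOf_eq_of_le hSN1] at hp
  exact hp

theorem ncZ_le_zOne (hfree : ¬ Cfsg.Involves (Equiv.Perm (Fin 4)) G) (hsec : SecTyp G) :
    ncZ (S : Subgroup G) NJ ≤ zOne (S : Subgroup G) := by
  have hAJ := ncZ_le_omega S
  have hel := PGroups.elemAb_mono (omegaCenterOf_elemAb (p := 2) JS) hAJ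
  have hn : (S : Subgroup G) ≤ Subgroup.normalizer (ncZ (S : Subgroup G) NJ : Set G) :=
    (Subgroup.le_normalizer.trans (PGroups.normalizer_le_normalizer_thompson _)).trans
      (le_normalizer_ncZ _ _)
  have hc := jHatOf_le_centralizer hel (hAJ.trans (omegaCenterOf_le _)) hn (eprop_ncZ S hfree hsec)
  exact fun a ha => PGroups.mem_omegaOne_of_pow
    ⟨thompson_le_jHatOf (omegaCenterOf_le _ (hAJ ha)), Subgroup.le_centralizer_iff.mp hc ha⟩
    (hel.2 a ha)

/-- `A` is strongly closed. -/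
theorem isStronglyClosed_ncZ (hfree : ¬ Cfsg.Involves (Equiv.Perm (Fin 4)) G) (hsec : SecTyp G) :
    Cfsg.IsStronglyClosed (ncZ (S : Subgroup G) NJ) (S : Subgroup G) := by
  haveI : Fact (Nat.Prime 2) := ⟨Nat.prime_two⟩
  set J := JS with hJdef
  set A := ncZ (S : Subgroup G) NJ with hAdef
  have hJS : J ≤ (S : Subgroup G) := PGroups.thompsonSubgroupOf_le 2 _
  have hAS : A ≤ (S : Subgroup G) := ((ncZ_le_omega S).trans (omegaCenterOf_le _)).trans hJS
  refine ⟨hAS, fun a ha g hg => ?_⟩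
  set M := Subgroup.normalizer (zOne (S : Subgroup G) : Set G) with hM
  set C := Subgroup.centralizer (zOne (S : Subgroup G) : Set G) with hC
  have hCM : C ≤ M := Subgroup.centralizer_le_normalizer _
  have hMC : M ≤ Subgroup.normalizer (C : Set G) := fun x hx =>
    mem_normalizer_of_conjS_eq (by rw [conjS_centralizer, conjS_eq_of_mem_normalizer hx])
  have hSM : (S : Subgroup G) ≤ M := Subgroup.le_normalizer.trans (normalizer_le_normalizer_zOne _)
  have key : ∀ x ∈ stepSet (nFam (indSet wSet G)) ⊤ (S : Subgroup G), ∀ b ∈ A, x * b * x⁻¹ ∈ A := by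
    intro x hx b hb
    have hJn : ∀ m ∈ Subgroup.normalizer (J : Set G), m * b * m⁻¹ ∈ A := fun m hm =>
      (Subgroup.mem_normalizer_iff.1 (le_normalizer_ncZ _ _ hm) b).1 hb
    rcases mem_steps_iff.1 hx with hx | hx
    · obtain ⟨c, hc, m, hm, rfl⟩ := ((isSyl_top S).mono hSM le_top).frattini hCM hMC hx
      have hb' := hJn m (normalizer_inf_le_thompson (thompson_le_centralizer_zOne _) hm.2)
      have h1 := Subgroup.mem_centralizer_iff.1 hc _ (ncZ_le_zOne S hfree hsec hb')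
      rw [show c * m * b * (c * m)⁻¹ = c * (m * b * m⁻¹) * c⁻¹ by group, ← h1,
        mul_inv_cancel_right]
      exact hb'
    · exact hJn x hx
  have c := sf_of_sec hfree hsec S {a} g trivial (Set.singleton_subset_iff.2 (hAS ha))
    (by rintro _ ⟨_, rfl, rfl⟩; exact hg)
  suffices H : ∀ h, Chain (stepSet (nFam (indSet wSet G)) ⊤ (S : Subgroup G)) (S : Subgroup G) {a} h →
      h * a * h⁻¹ ∈ A from H g c
  intro h hh
  induction hh with
  | refl _ e => rw [e a rfl]; exact ha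
  | @step x g₀ h' _ hx _ e ih =>
    rw [← e a rfl, show x * g₀ * a * (x * g₀)⁻¹ = x * (g₀ * a * g₀⁻¹) * x⁻¹ by group]
    exact key x hx _ ih

end Finite

end Cfsg.Agent.Lib.GlaubermanTwo54
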