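import Cfsg.Agent.Lib.GlaubermanTwo54.Pair
import Cfsg.Agent.Lib.LAEven65.RankOneModule
import Cfsg.Agent.Lib.SFourFree.Transvection
import Cfsg.Agent.Lib.SFourFree.ThreeSection

/-!
# The quadratic bound

If `G` acts faithfully on the elementary abelian 2-group `V`, `O₂(G) = 1`, no element of `G` acts as a transvection
inverting an element of odd order on a section of `V`, and `G` has pairs, then every elementary abelian
2-subgroup `A` satisfies `|A|² |C_V(A)| ≤ |V|` and `|A|² ≤ |[V, A]|`.

Owner: helper54.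
-/

set_option autoImplicit false
set_option linter.style.haveILetI false
set_option linter.unusedSectionVars false

namespace Cfsg.Agent.Lib.GlaubermanTwo54

open PLocal
open scoped commutatorElement

universe u

variable {L : Type u} [Group L]

theorem comm_of_elem {V : Subgroup L} (hV : Cfsg.IsElementaryAbelian 2 V) : IsMulCommutative ↥V := hV.1

/-- `{w ∈ W | [w, a] ∈ N}`. -/
def secFix {W : Subgroup L} (hW : Cfsg.IsElementaryAbelian 2 W) (N : Subgroup L) (a : L)
    (ha : a ∈ Subgroup.normalizer (W : Set L)) : Subgroup ↥W :=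
  (N.subgroupOf W).comap (commHom (comm_of_elem hW) a ha)

theorem mem_secFix {W : Subgroup L} (hW : Cfsg.IsElementaryAbelian 2 W) {N : Subgroup L} {a : L}
    (ha : a ∈ Subgroup.normalizer (W : Set L)) {w : W} : w ∈ secFix hW N a ha ↔ ⁅(w : L), a⁆ ∈ N := Iff.rfl

/-- No transvection on a section of `V` inverts a nontrivial element of odd order. -/
def NoT (V G : Subgroup L) : Prop :=
  ∀ (N W : Subgroup L) (hW : Cfsg.IsElementaryAbelian 2 W) (a k : L) (ha : a ∈ Subgroup.normalizer (W : Set L)),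
    N ≤ W → W ≤ V → a ∈ G → k ∈ G → k ∈ Subgroup.normalizer (W : Set L) →
    a ∈ Subgroup.normalizer (N : Set L) → k ∈ Subgroup.normalizer (N : Set L) → a * a = 1 → Odd (orderOf k) →
    a * k * a⁻¹ = k⁻¹ → (∃ w ∈ W, ⁅w, k⁆ ∉ N) → 2 * Nat.card (secFix hW N a ha) < Nat.card W

/-- `C_W(k) = 1` for `W = [V, k]`. -/
theorem fix_commRange_eq_bot {V : Subgroup L} (hV : Cfsg.IsElementaryAbelian 2 V) {k : L}
    (hk : k ∈ Subgroup.normalizer (V : Set L)) (hodd : Odd (orderOf k)) :
    ∀ x ∈ commRange (comm_of_elem hV) k hk, k * x = x * k → x = 1 := by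
  intro x hx hxk
  obtain ⟨v, hv, rfl⟩ := (mem_commRange _ hk).1 hx
  have hinv : ⁅v, k⁆⁻¹ = k * v * k⁻¹ * v⁻¹ := by simp only [commutatorElement_def]; group
  have hc : k * ⁅v, k⁆⁻¹ * k⁻¹ = ⁅v, k⁆⁻¹ := by
    rw [((show Commute k ⁅v, k⁆ from hxk).inv_right).eq, mul_inv_cancel_right]
  rw [hinv] at hc
  have h2 : (k * v * k⁻¹ * v⁻¹) ^ 2 ^ 1 = 1 := by
    rw [pow_one, ← hinv, inv_pow, hV.2 _ (commutatorElement_mem hk hv), inv_one]
  have := SFourFree.conj_eq_self_of_odd hodd 1 hc h2
  rw [← inv_eq_one, hinv, this, mul_inv_cancel]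

/-- An element of `N(V)` commuting with `k` normalises `[V, k]`. -/
theorem mem_normalizer_commRange [Finite L] {V : Subgroup L} (hV : Cfsg.IsElementaryAbelian 2 V) {k g : L}
    (hk : k ∈ Subgroup.normalizer (V : Set L)) (hg : g ∈ Subgroup.normalizer (V : Set L))
    (hgk : ∀ v ∈ V, ∃ w ∈ V, g * ⁅v, k⁆ * g⁻¹ = ⁅w, k⁆) :
    g ∈ Subgroup.normalizer (commRange (comm_of_elem hV) k hk : Set L) := by
  refine Subgroup.mem_normalizer_iff_map_conj_eq.2 (Subgroup.eq_of_le_of_card_ge ?_
    (Subgroup.card_map_of_injective (MulAut.conj g).injective).ge)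
  rintro _ ⟨x, hx, rfl⟩
  obtain ⟨v, hv, rfl⟩ := (mem_commRange _ hk).1 hx
  obtain ⟨w, hw, he⟩ := hgk v hv
  exact (mem_commRange _ hk).2 ⟨w, hw, he.symm⟩

theorem normalizes_commRange_of_commute [Finite L] {V : Subgroup L} (hV : Cfsg.IsElementaryAbelian 2 V) {k g : L}
    (hk : k ∈ Subgroup.normalizer (V : Set L)) (hg : g ∈ Subgroup.normalizer (V : Set L))
    (hc : g * k = k * g) : g ∈ Subgroup.normalizer (commRange (comm_of_elem hV) k hk : Set L) := by
  refine mem_normalizer_commRange hV hk hg fun v hv =>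
    ⟨g * v * g⁻¹, (Subgroup.mem_normalizer_iff.1 hg v).1 hv, ?_⟩
  have e : ⁅g * v * g⁻¹, g * k * g⁻¹⁆ = g * ⁅v, k⁆ * g⁻¹ := by simp only [commutatorElement_def]; group
  rw [hc, mul_inv_cancel_right] at e
  exact e.symm

theorem normalizes_commRange_of_invert [Finite L] {V : Subgroup L} (hV : Cfsg.IsElementaryAbelian 2 V) {k g : L}
    (hk : k ∈ Subgroup.normalizer (V : Set L)) (hg : g ∈ Subgroup.normalizer (V : Set L))
    (hc : g * k * g⁻¹ = k⁻¹) : g ∈ Subgroup.normalizer (commRange (comm_of_elem hV) k hk : Set L) := by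
  refine mem_normalizer_commRange hV hk hg fun v hv => ?_
  set u := g * v * g⁻¹
  have hu : u ∈ V := (Subgroup.mem_normalizer_iff.1 hg v).1 hv
  refine ⟨(k⁻¹ * u * k)⁻¹, inv_mem ((Subgroup.mem_normalizer_iff''.1 hk u).1 hu), ?_⟩
  have e : g * ⁅v, k⁆ * g⁻¹ = ⁅u, k⁻¹⁆ := by
    rw [← hc]; simp only [u, commutatorElement_def]; group
  have hw : k⁻¹ * u⁻¹ * k ∈ V := (Subgroup.mem_normalizer_iff''.1 hk u⁻¹).1 (inv_mem hu)
  rw [e]
  calc ⁅u, k⁻¹⁆ = u * (k⁻¹ * u⁻¹ * k) := by simp only [commutatorElement_def]; group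
    _ = k⁻¹ * u⁻¹ * k * u := PGroups.elemAb_comm hV hu hw
    _ = _ := by simp only [commutatorElement_def]; group

/-- `B` and `k` of coprime orders commuting: if `k` moves `V`, it moves `C_V(B)`. -/
theorem exists_fix_moved [Finite L] {V B : Subgroup L} (hV : Cfsg.IsElementaryAbelian 2 V)
    (hB : IsPGroup 2 B) (hBV : B ≤ Subgroup.normalizer (V : Set L)) {k : L}
    (hk : k ∈ Subgroup.normalizer (V : Set L)) (hodd : Odd (orderOf k)) (hkB : ∀ b ∈ B, b * k = k * b)
    (hne : k ∉ Subgroup.centralizer (V : Set L)) : ∃ v ∈ fixOn V B, k * v ≠ v * k := by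
  haveI : Fact (Nat.Prime 2) := ⟨Nat.prime_two⟩
  by_contra hcon
  push Not at hcon
  set X := commRange (comm_of_elem hV) k hk with hX
  have hXV : X ≤ V := Subgroup.map_subtype_le _
  have hXne : X ≠ ⊥ := by
    intro h0
    refine hne (Subgroup.mem_centralizer_iff.2 fun v hv => ?_)
    have h1 : ⁅v, k⁆ ∈ X := (mem_commRange _ hk).2 ⟨v, hv, rfl⟩
    rw [h0, Subgroup.mem_bot] at h1
    exact commutatorElement_eq_one_iff_mul_comm.1 h1
  have hBX : B ≤ Subgroup.normalizer (X : Set L) := fun b hb =>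
    normalizes_commRange_of_commute hV hk (hBV hb) (hkB b hb)
  have := fixOn_ne_bot (p := 2) hBX (pActsOn_of_isPGroup hB)
    (PGroups.elemAb_isPGroup (PGroups.elemAb_mono hV hXV)) hXne
  obtain ⟨x, hx, hx1⟩ := (Subgroup.bot_or_exists_ne_one _).resolve_left this
  exact hx1 (fix_commRange_eq_bot hV hk hodd x hx.1 (hcon x ⟨hXV hx.1, hx.2⟩))

/-- The size of a section on which `k` is fixed point free. -/
theorem size_section [Finite L] {N W : Subgroup L} (hW : Cfsg.IsElementaryAbelian 2 W) {a k : L}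
    (ha : a ∈ Subgroup.normalizer (W : Set L)) (hk : k ∈ Subgroup.normalizer (W : Set L))
    (hkN : k ∈ Subgroup.normalizer (N : Set L))
    (haN : a ∈ Subgroup.normalizer (N : Set L)) (hNW : N ≤ W) (ha2 : a * a = 1)
    (hinv : a * k * a⁻¹ = k⁻¹) (hp : (orderOf k).Prime) (hp2 : orderOf k ≠ 2)
    (hfpf : ∀ w ∈ W, k * w = w * k → w = 1) (hne : ¬ W ≤ N)
    (hnt : 2 * Nat.card (secFix hW N a ha) < Nat.card W) {f : ℕ} (hf : SizeR f (orderOf k)) :
    f ^ 2 * Nat.card (secFix hW N a ha) ≤ Nat.card W := by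
  haveI : Fact (Nat.Prime 2) := ⟨Nat.prime_two⟩
  set F := secFix hW N a ha with hFdef
  have hFc : Nat.card F = Nat.card ↥(F.map W.subtype) :=
    (Subgroup.card_map_of_injective W.subtype_injective).symm
  obtain ⟨i, hi⟩ := PGroups.elemAb_card_eq_pow (p := 2) hW
  obtain ⟨j, hj⟩ := PGroups.elemAb_card_eq_pow (p := 2)
    (PGroups.elemAb_mono hW (Subgroup.map_subtype_le F))
  rw [← hFc] at hj
  rcases hf with hf | ⟨q, hfq, hq⟩
  · have hlt := hnt
    rw [hi, hj, ← pow_succ'] at hlt
    have hij := (Nat.pow_lt_pow_iff_right (by norm_num : 1 < 2)).mp hlt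
    calc f ^ 2 * Nat.card F ≤ 2 ^ 2 * 2 ^ j := by rw [hj]; exact Nat.mul_le_mul_right _ (Nat.pow_le_pow_left hf 2)
      _ = 2 ^ (2 + j) := (pow_add _ _ _).symm
      _ ≤ _ := by rw [hi]; exact Nat.pow_le_pow_right (by norm_num) (by omega)
  -- stabilisers of cosets
  have hstab : ∀ g h : L, g ∈ Subgroup.normalizer (N : Set L) → ∀ w : L, ⁅w, g⁆ ∈ N → ⁅w, h⁆ ∈ N →
      ⁅w, g * h⁆ ∈ N := by
    intro g h hg w h1 h2
    have e : ⁅w, g * h⁆ = ⁅w, g⁆ * (g * ⁅w, h⁆ * g⁻¹) := by simp only [commutatorElement_def]; group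
    rw [e]
    exact mul_mem h1 ((Subgroup.mem_normalizer_iff.1 hg _).1 h2)
  have hnk : ∀ x ∈ N, ⁅x, k⁆ ∈ N := fun x hx => commutatorElement_mem hkN hx
  have hNel := PGroups.elemAb_mono hW hNW
  have hinj : Function.Injective (commHom (comm_of_elem hNel) k hkN) := by
    rw [← MonoidHom.ker_eq_bot_iff, eq_bot_iff]
    intro x hx
    rw [Subgroup.mem_bot]
    have h1 : ⁅(x : L), k⁆ = 1 := congrArg Subtype.val hx
    exact Subtype.ext (hfpf x (hNW x.2) (commutatorElement_eq_one_iff_mul_comm.1 h1).symm)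
  have hka : k * a * k⁻¹ * a = k * k := by
    calc k * a * k⁻¹ * a = k * (a * k * a⁻¹)⁻¹ * (a * a) := by group
      _ = k * k := by rw [hinv, ha2]; group
  set a' := k * a * k⁻¹ with ha'
  have ha'W : a' ∈ Subgroup.normalizer (W : Set L) :=
    mul_mem (mul_mem hk ha) (inv_mem hk)
  set F' := secFix hW N a' ha'W with hF'
  have hmeet : ∀ w : W, w ∈ F → w ∈ F' → (w : L) ∈ N := by
    intro w h1 h2
    have h3 : ⁅(w : L), k * k⁆ ∈ N := by
      rw [← hka]
      exact hstab a' a (mul_mem (mul_mem hkN haN) (inv_mem hkN)) w h2 h1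
    have h4 : ∀ n : ℕ, ⁅(w : L), (k * k) ^ n⁆ ∈ N := by
      intro n
      induction n with
      | zero => simp
      | succ n ih => rw [pow_succ']; exact hstab _ _ (mul_mem hkN hkN) w h3 ih
    have h5 : ⁅(w : L), k⁆ ∈ N := by
      obtain ⟨n, hn⟩ := hp.eq_two_or_odd'.resolve_left hp2
      have := h4 (n + 1)
      rwa [← pow_two, ← pow_mul, show 2 * (n + 1) = orderOf k + 1 by omega, pow_succ, pow_orderOf_eq_one,
        one_mul] at this
    obtain ⟨x, hx⟩ := (Finite.injective_iff_surjective.1 hinj) ⟨_, h5⟩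
    have hx' : ⁅(x : L), k⁆ = ⁅(w : L), k⁆ := congrArg Subtype.val hx
    have hprod : commHom (comm_of_elem hW) k hk (⟨x, hNW x.2⟩⁻¹ * w) = 1 := by
      rw [map_mul, map_inv, inv_mul_eq_one]
      exact Subtype.ext hx'
    have h6 : ⁅((⟨x, hNW x.2⟩⁻¹ * w : W) : L), k⁆ = 1 := congrArg Subtype.val hprod
    have h7 := hfpf _ (SetLike.coe_mem _) (commutatorElement_eq_one_iff_mul_comm.1 h6).symm
    rw [Subgroup.coe_mul, Subgroup.coe_inv, inv_mul_eq_one] at h7
    exact h7 ▸ x.2
  have hFF' : Nat.card F ≤ Nat.card F' := by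
    refine Nat.card_le_card_of_injective (fun w => ⟨⟨k * (w.1 : L) * k⁻¹,
      (Subgroup.mem_normalizer_iff.1 hk _).1 w.1.2⟩, ?_⟩) fun x y hxy => ?_
    · have e : ⁅k * (w.1 : L) * k⁻¹, a'⁆ = k * ⁅(w.1 : L), a⁆ * k⁻¹ := by
        simp only [ha', commutatorElement_def]; group
      rw [hF', mem_secFix, e]
      exact (Subgroup.mem_normalizer_iff.1 hkN _).1 w.2
    · have := congrArg (fun t : F' => ((t : W) : L)) hxy
      exact Subtype.ext (Subtype.ext (mul_left_cancel (mul_right_cancel this)))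
  have hsq : Nat.card F ^ 2 ≤ Nat.card W * Nat.card N := by
    have h1 : Nat.card F * F.relIndex F' ≤ Nat.card W := by
      rw [← F.index_mul_card, mul_comm F.index]
      exact Nat.mul_le_mul_left _ ((Subgroup.relIndex_le_of_le_right (le_top : F' ≤ ⊤)
        Subgroup.index_ne_zero_of_finite).trans (le_of_eq F.relIndex_top_right))
    have h2 : Nat.card F' = F.relIndex F' * Nat.card ↥(F' ⊓ F) := by
      rw [← Subgroup.inf_relIndex_left F' F, ← (((F' ⊓ F).subgroupOf F').index_mul_card),
        Nat.card_congr (Subgroup.subgroupOfEquivOfLe (inf_le_left : F' ⊓ F ≤ F')).toEquiv]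
      rfl
    have h3 : Nat.card ↥(F' ⊓ F) ≤ Nat.card N :=
      Nat.card_le_card_of_injective (fun w : ↥(F' ⊓ F) => ⟨(w : W), hmeet _ w.2.2 w.2.1⟩)
        fun x y hxy => Subtype.ext (Subtype.ext (congrArg (fun t : N => (t : L)) hxy))
    calc Nat.card F ^ 2 ≤ Nat.card F * Nat.card F' := by rw [pow_two]; exact Nat.mul_le_mul_left _ hFF'
      _ = (Nat.card F * F.relIndex F') * Nat.card ↥(F' ⊓ F) := by rw [h2]; ring
      _ ≤ _ := Nat.mul_le_mul h1 h3
  -- the order of the section
  obtain ⟨l, hl⟩ := PGroups.elemAb_card_eq_pow (p := 2) hNel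
  haveI : Fact (orderOf k).Prime := ⟨hp⟩
  have hmod : ∀ U : Subgroup L, U ≤ W → k ∈ Subgroup.normalizer (U : Set L) →
      Nat.card U ≡ 1 [MOD orderOf k] := by
    intro U hUW hkU
    have h := LAEven65.RankOneModule.modEq_card_free (r := orderOf k) U (u := k)
      (fun w hw => (Subgroup.mem_normalizer_iff.1 hkU w).1 hw) (e := 0) (by simp)
    simp only [pow_zero, pow_one, zero_add] at h
    have hbot : U ⊓ Subgroup.centralizer ({k} : Set L) = ⊥ := by
      rw [eq_bot_iff]
      rintro w ⟨hwU, hwc⟩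
      exact hfpf w (hUW hwU) (Subgroup.mem_centralizer_singleton_iff.1 hwc).symm
    rwa [hbot, Subgroup.card_bot] at h
  have hWmod := hmod W le_rfl hk
  have hNmod := hmod N hNW hkN
  rw [hi] at hWmod
  rw [hl] at hNmod
  have hli : l < i := by
    by_contra hle
    push Not at hle
    apply hne
    refine (Subgroup.eq_of_le_of_card_ge hNW ?_).ge
    rw [hi, hl]
    exact Nat.pow_le_pow_right (by norm_num) hle
  have hjmod : 2 ^ (i - l) ≡ 1 [MOD orderOf k] := by
    have e : 2 ^ i = 2 ^ (i - l) * 2 ^ l := by rw [← pow_add, Nat.sub_add_cancel hli.le]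
    rw [e] at hWmod
    have := (Nat.ModEq.mul_left (2 ^ (i - l)) hNmod).symm.trans hWmod
    rwa [mul_one] at this
  have hq4 := hq (i - l) (by omega) hjmod
  have hkey : (f ^ 2 * Nat.card F) ^ 2 ≤ Nat.card W ^ 2 := by
    calc (f ^ 2 * Nat.card F) ^ 2 = f ^ 4 * Nat.card F ^ 2 := by ring
      _ ≤ 2 ^ (i - l) * (Nat.card W * Nat.card N) :=
        Nat.mul_le_mul ((Nat.pow_le_pow_left hfq 4).trans hq4) hsq
      _ = Nat.card W ^ 2 := by
        rw [hi, hl, ← pow_add, ← pow_add, ← pow_mul]
        congr 1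
        omega
  exact (Nat.pow_le_pow_iff_left two_ne_zero).mp hkey

theorem index_mul_index_le {a b c d : ℕ} (h : a * b ≤ c * d) (hb : 0 < b) (hd : d ≤ b) : a ≤ c := by
  by_contra hlt
  push Not at hlt
  have : c * d < a * b := Nat.lt_of_le_of_lt (Nat.mul_le_mul_left c hd) (Nat.mul_lt_mul_of_pos_right hlt hb)
  omega

/-- The bound, given pairs. -/
theorem bound [Finite L] {V G : Subgroup L} (hV : Cfsg.IsElementaryAbelian 2 V)
    (hGV : G ≤ Subgroup.normalizer (V : Set L)) (hf : G ⊓ Subgroup.centralizer (V : Set L) = ⊥)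
    (hNT : NoT V G) (hpair : ∀ A : Subgroup ↥G, Cfsg.IsElementaryAbelian 2 A → A ≠ ⊥ → HasPair A ⊤)
    (A : Subgroup L) (hAG : A ≤ G) (hA : Cfsg.IsElementaryAbelian 2 A) :
    Nat.card A ^ 2 * Nat.card (fixOn V A) ≤ Nat.card V ∧ Nat.card A ^ 2 ≤ Nat.card ↥⁅V, A⁆ := by
  haveI : Fact (Nat.Prime 2) := ⟨Nat.prime_two⟩
  induction hn : Nat.card A using Nat.strong_induction_on generalizing A with
  | _ n ih =>
    subst hn
    by_cases hne : A = ⊥
    · subst hne
      rw [Subgroup.card_bot, one_pow, one_mul]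
      exact ⟨Subgroup.card_le_of_le fixOn_le, Nat.card_pos⟩
    obtain ⟨B', a', h', k', hBA', haA', haB', -, hhB', hk', hkp', hk2', hsz'⟩ :=
      hpair (A.subgroupOf G) (PGroups.elemAb_subgroupOf hA G) (by
        intro h0
        apply hne
        rw [← Subgroup.map_subgroupOf_eq_of_le hAG, h0, Subgroup.map_bot])
    set B := B'.map G.subtype with hBdef
    set a : L := (a' : L)
    set k : L := (k' : L)
    set h : L := (h' : L)
    have hko : orderOf k = orderOf k' := Subgroup.orderOf_coe k'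
    have hBA : B ≤ A := by
      rintro _ ⟨b, hb, rfl⟩; exact hBA' hb
    have haA : a ∈ A := haA'
    have haB : a ∉ B := by
      rintro ⟨b, hb, hba⟩
      exact haB' (by rwa [← Subtype.ext hba])
    have hrel : B.relIndex A = B'.relIndex (A.subgroupOf G) := by
      conv_lhs => rw [hBdef, ← Subgroup.map_subgroupOf_eq_of_le hAG]
      exact Subgroup.relIndex_map_map_of_injective _ _ G.subtype_injective
    have hcard : Nat.card A = B.relIndex A * Nat.card B := by
      rw [← (B.subgroupOf A).index_mul_card, Nat.card_congr (Subgroup.subgroupOfEquivOfLe hBA).toEquiv]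
      rfl
    have hBlt : Nat.card B < Nat.card A := by
      refine lt_of_le_of_ne (Subgroup.card_le_of_le hBA) fun he => haB ?_
      rw [Subgroup.eq_of_le_of_card_ge hBA he.ge]; exact haA
    obtain ⟨ha2, hai⟩ := inv_of_elem hA haA
    have hh : ∀ b ∈ B, b * h = h * b := by
      rintro _ ⟨b, hb, rfl⟩
      exact congrArg Subtype.val (Subgroup.mem_centralizer_iff.1 hhB' b hb)
    have hab : ∀ b ∈ B, b * a = a * b := fun b hb => PGroups.elemAb_comm hA (hBA hb) haA
    have hkz : k ∈ Subgroup.zpowers (a * (h * a * h⁻¹)) := by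
      obtain ⟨i, hi⟩ := hk'
      exact ⟨i, congrArg Subtype.val hi⟩
    have hkB : ∀ b ∈ B, b * k = k * b := by
      intro b hb
      obtain ⟨i, hi⟩ := hkz
      rw [← hi]
      have c1 : Commute b a := hab b hb
      have c2 : Commute b h := hh b hb
      exact ((c1.mul_right ((c2.mul_right c1).mul_right c2.inv_right)).zpow_right i).eq
    have hinv : a * k * a⁻¹ = k⁻¹ := by
      obtain ⟨i, hi⟩ := hkz
      have hs : (h * a * h⁻¹) * (h * a * h⁻¹) = 1 := by
        rw [show (h * a * h⁻¹) * (h * a * h⁻¹) = h * (a * a) * h⁻¹ by group, ha2]; group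
      rw [← hi, hai]
      have := Involutions.Basic.invert_zpow ha2 (Involutions.Basic.invert_mul ha2 hs) i
      rw [zpow_neg] at this
      exact this
    have hkp : (orderOf k).Prime := hko ▸ hkp'
    have hk2 : orderOf k ≠ 2 := hko ▸ hk2'
    have hkodd : Odd (orderOf k) := hkp.eq_two_or_odd'.resolve_left hk2
    have hsz : SizeR (B.relIndex A) (orderOf k) := by rw [hrel, hko]; exact hsz'
    have hkG : k ∈ G := k'.2
    have haG : a ∈ G := a'.2
    have hk1 : k ≠ 1 := fun h => by rw [h, orderOf_one] at hkp; exact Nat.not_prime_one hkp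
    have hknc : k ∉ Subgroup.centralizer (V : Set L) := fun hc => hk1 (by
      have : k ∈ G ⊓ Subgroup.centralizer (V : Set L) := ⟨hkG, hc⟩
      rwa [hf, Subgroup.mem_bot] at this)
    obtain ⟨ih1, ih2⟩ := ih (Nat.card B) hBlt B (hBA.trans hAG) (PGroups.elemAb_mono hA hBA) rfl
    have hBp : IsPGroup 2 B := PGroups.elemAb_isPGroup (PGroups.elemAb_mono hA hBA)
    set f := B.relIndex A
    constructor
    · set V' := fixOn V B with hV'
      have hV'el := PGroups.elemAb_mono hV (fixOn_le : V' ≤ V)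
      have hnorm : ∀ g ∈ G, (∀ b ∈ B, b * g = g * b) → g ∈ Subgroup.normalizer (V' : Set L) :=
        fun g hg hc => normalizer_inf_le_normalizer_fixOn ⟨hGV hg, Subgroup.centralizer_le_normalizer _
          (Subgroup.mem_centralizer_iff.2 hc)⟩
      have haV' := hnorm a haG hab
      have hkV' := hnorm k hkG hkB
      set W := commRange (comm_of_elem hV'el) k hkV' with hWdef
      have hWV' : W ≤ V' := Subgroup.map_subtype_le _
      have hWel := PGroups.elemAb_mono hV'el hWV'
      have haW := normalizes_commRange_of_invert hV'el hkV' haV' hinv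
      have hkW := normalizes_commRange_of_commute hV'el hkV' hkV' rfl
      obtain ⟨v, hv, hvk⟩ := exists_fix_moved hV hBp ((hBA.trans hAG).trans hGV) (hGV hkG) hkodd hkB hknc
      have hvW : ⁅v, k⁆ ∈ W := (mem_commRange _ hkV').2 ⟨v, hv, rfl⟩
      have hv1 : ⁅v, k⁆ ≠ 1 := fun h => hvk (commutatorElement_eq_one_iff_mul_comm.1 h).symm
      have hfpf := fix_commRange_eq_bot hV'el hkV' hkodd
      have hWbot : ¬ W ≤ ⊥ := fun h => hv1 (Subgroup.mem_bot.1 (h hvW))
      have hnb : ∀ g : L, g ∈ Subgroup.normalizer ((⊥ : Subgroup L) : Set L) := fun g => by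
        rw [Subgroup.normalizer_eq_top]; trivial
      have hnt := hNT ⊥ W hWel a k haW bot_le (hWV'.trans fixOn_le) haG hkG hkW (hnb a) (hnb k) ha2 hkodd hinv
        ⟨_, hvW, fun h => hv1 (hfpf _ hvW (commutatorElement_eq_one_iff_mul_comm.1 (Subgroup.mem_bot.1 h)).symm)⟩
      have hsize := size_section hWel haW hkW (hnb k) (hnb a) bot_le ha2 hinv hkp hk2 hfpf hWbot hnt hsz
      -- compare with `C_V'(a)`
      set X := fixOn V' (Subgroup.zpowers a) with hX
      have hXW : Nat.card ↥(W ⊓ X) ≤ Nat.card (secFix hWel ⊥ a haW) := by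
        refine Nat.card_le_card_of_injective (fun w : ↥(W ⊓ X) => ⟨⟨w, w.2.1⟩, ?_⟩) fun x y hxy =>
          Subtype.ext (congrArg (fun t : secFix hWel ⊥ a haW => ((t : W) : L)) hxy)
        rw [mem_secFix, Subgroup.mem_bot, commutatorElement_eq_one_iff_mul_comm]
        exact ((mem_fixOn.1 w.2.2).2 a (Subgroup.mem_zpowers a)).symm
      have hle : fixOn V A ≤ X := fun v hv =>
        ⟨fixOn_anti hBA hv, (fixOn_anti (V := V) (Subgroup.zpowers_le.2 haA) hv).2⟩
      have h1 : Nat.card X * Nat.card W ≤ Nat.card V' * Nat.card ↥(W ⊓ X) := by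
        have e1 : Nat.card W = X.relIndex W * Nat.card ↥(W ⊓ X) := by
          rw [← Subgroup.inf_relIndex_left W X, ← (((W ⊓ X).subgroupOf W).index_mul_card),
            Nat.card_congr (Subgroup.subgroupOfEquivOfLe (inf_le_left : W ⊓ X ≤ W)).toEquiv]
          rfl
        have e2 : Nat.card V' = X.relIndex V' * Nat.card X := by
          rw [← (X.subgroupOf V').index_mul_card,
            Nat.card_congr (Subgroup.subgroupOfEquivOfLe (fixOn_le : X ≤ V')).toEquiv]
          rfl
        rw [e1, e2]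
        have := Subgroup.relIndex_le_of_le_right (H := X) hWV' Subgroup.index_ne_zero_of_finite
        calc Nat.card X * (X.relIndex W * Nat.card ↥(W ⊓ X))
            ≤ Nat.card X * (X.relIndex V' * Nat.card ↥(W ⊓ X)) := by gcongr
          _ = _ := by ring
      have h2 : f ^ 2 * Nat.card X ≤ Nat.card V' := by
        refine Nat.le_of_mul_le_mul_right (c := Nat.card W) ?_ Nat.card_pos
        calc f ^ 2 * Nat.card X * Nat.card W ≤ f ^ 2 * (Nat.card V' * Nat.card ↥(W ⊓ X)) := by
              rw [mul_assoc]; exact Nat.mul_le_mul_left _ h1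
          _ ≤ f ^ 2 * (Nat.card V' * Nat.card (secFix hWel ⊥ a haW)) := by gcongr
          _ = Nat.card V' * (f ^ 2 * Nat.card (secFix hWel ⊥ a haW)) := by ring
          _ ≤ _ := Nat.mul_le_mul_left _ hsize
      calc Nat.card A ^ 2 * Nat.card (fixOn V A) ≤ (f * Nat.card B) ^ 2 * Nat.card X := by
            rw [hcard]; exact Nat.mul_le_mul_left _ (Subgroup.card_le_of_le hle)
        _ = Nat.card B ^ 2 * (f ^ 2 * Nat.card X) := by ring
        _ ≤ Nat.card B ^ 2 * Nat.card V' := Nat.mul_le_mul_left _ h2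
        _ ≤ _ := ih1
    · set W := commRange (comm_of_elem hV) k (hGV hkG) with hWdef
      have hWV : W ≤ V := Subgroup.map_subtype_le _
      have hWel := PGroups.elemAb_mono hV hWV
      have haW := normalizes_commRange_of_invert hV (hGV hkG) (hGV haG) hinv
      have hkW := normalizes_commRange_of_commute hV (hGV hkG) (hGV hkG) rfl
      have hBW : B ≤ Subgroup.normalizer (W : Set L) := fun b hb =>
        normalizes_commRange_of_commute hV (hGV hkG) (hGV (hAG (hBA hb))) (hkB b hb)
      have hfpf := fix_commRange_eq_bot hV (hGV hkG) hkodd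
      have hW1 : W ≠ ⊥ := by
        intro h0
        refine hknc (Subgroup.mem_centralizer_iff.2 fun v hv => ?_)
        have h1 : ⁅v, k⁆ ∈ W := (mem_commRange _ _).2 ⟨v, hv, rfl⟩
        rw [h0, Subgroup.mem_bot] at h1
        exact commutatorElement_eq_one_iff_mul_comm.1 h1
      set C := fixOn V (Subgroup.zpowers k) with hC
      set U := ⁅V, B⁆ with hU
      have hBV : B ≤ Subgroup.normalizer (V : Set L) := (hBA.trans hAG).trans hGV
      have hUV : U ≤ V := commutator_le_self hBV
      -- `V = C W`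
      have hCW : Disjoint C W := by
        rw [disjoint_iff, eq_bot_iff]
        rintro x ⟨hxC, hxW⟩
        exact hfpf x hxW ((mem_fixOn.1 hxC).2 k (Subgroup.mem_zpowers k))
      have hdec : C ⊔ W = V := by
        refine Subgroup.eq_of_le_of_card_ge (sup_le fixOn_le hWV) ?_
        have hn : C ≤ Subgroup.normalizer (W : Set L) := (fixOn_le.trans fun v hv =>
          Subgroup.centralizer_le_normalizer _ (Subgroup.mem_centralizer_iff.2 fun w hw =>
            PGroups.elemAb_comm hV (hWV hw) hv))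
        rw [Lib.Coprime.card_sup_of_disjoint hn hCW, hC, hWdef,
          ← card_eq_fix_mul_range (comm_of_elem hV) (hGV hkG)]
      have hWU : ¬ W ≤ U := by
        intro hle
        have hUle : U ≤ C ⊔ ⁅W, B⁆ := by
          rw [hU, Subgroup.commutator_le]
          intro v hv b hb
          have hn : C ≤ Subgroup.normalizer (W : Set L) := (fixOn_le.trans fun v hv =>
            Subgroup.centralizer_le_normalizer _ (Subgroup.mem_centralizer_iff.2 fun w hw =>
              PGroups.elemAb_comm hV (hWV hw) hv))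
          rw [← hdec] at hv
          have hv' : v ∈ ((C ⊔ W : Subgroup L) : Set L) := hv
          rw [Subgroup.coe_mul_of_left_le_normalizer_right _ _ hn] at hv'
          obtain ⟨c, hc, w, hw, rfl⟩ := hv'
          show ⁅c * w, b⁆ ∈ _
          rw [commutatorElement_mul_of_comm (comm_of_elem hV) (hBV hb) (fixOn_le hc) (hWV hw)]
          refine mul_mem (Subgroup.mem_sup_left ?_) (Subgroup.mem_sup_right
            (Subgroup.commutator_mem_commutator hw hb))
          refine ⟨commutatorElement_mem (hBV hb) hc.1, Subgroup.mem_centralizer_iff.2 fun z hz => ?_⟩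
          obtain ⟨i, rfl⟩ := hz
          have c1 : Commute k c := (mem_fixOn.1 hc).2 k (Subgroup.mem_zpowers k)
          have c2 : Commute k b := (hkB b hb).symm
          exact ((((c1.mul_right c2).mul_right c1.inv_right).mul_right c2.inv_right).zpow_left i).eq
        have hWB : ⁅W, B⁆ ≤ W := commutator_le_self hBW
        have hsub : W ≤ ⁅W, B⁆ := by
          intro w hw
          have h1 := hUle (hle hw)
          have hn : C ≤ Subgroup.normalizer ((⁅W, B⁆ : Subgroup L) : Set L) := (fixOn_le.trans fun v hv =>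
            Subgroup.centralizer_le_normalizer _ (Subgroup.mem_centralizer_iff.2 fun w hw =>
              PGroups.elemAb_comm hV (hWV (hWB hw)) hv))
          have h1' : w ∈ ((C ⊔ ⁅W, B⁆ : Subgroup L) : Set L) := h1
          rw [Subgroup.coe_mul_of_left_le_normalizer_right _ _ hn] at h1'
          obtain ⟨c, hc, u, hu, rfl⟩ := h1'
          have hcW : c ∈ W := by
            have := mul_mem hw (inv_mem (hWB hu)); rwa [mul_inv_cancel_right] at this
          have : c = 1 := Subgroup.mem_bot.1 (hCW.eq_bot ▸ ⟨hc, hcW⟩ : c ∈ (⊥ : Subgroup L))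
          simpa [this] using hu
        refine hW1 (eq_bot_of_commutator_eq_self_aux (p := 2) (V := W) (comm_of_elem hWel)
          (PGroups.elemAb_isPGroup hWel) hBW (pActsOn_of_isPGroup hBp) ?_ (Nat.card W) W le_rfl le_rfl hBW
          (le_antisymm hWB hsub))
        rw [Subgroup.commutator_le]
        intro x hx y hy
        rw [commutatorElement_eq_one_iff_mul_comm.2 (PGroups.elemAb_comm hA (hBA hx) (hBA hy))]
        exact one_mem _
      set N := U ⊓ W with hN
      have hnU : ∀ g ∈ G, (∀ b ∈ B, b * g = g * b) → g ∈ Subgroup.normalizer (U : Set L) := by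
        intro g hg hc
        rw [hU]
        refine Subgroup.mem_normalizer_iff_map_conj_eq.2 ?_
        rw [Subgroup.map_commutator, Subgroup.mem_normalizer_iff_map_conj_eq.1 (hGV hg),
          Subgroup.mem_normalizer_iff_map_conj_eq.1 (Subgroup.centralizer_le_normalizer _
            (Subgroup.mem_centralizer_iff.2 hc))]
      have hnN : ∀ g ∈ Subgroup.normalizer (W : Set L), g ∈ Subgroup.normalizer (U : Set L) →
          g ∈ Subgroup.normalizer (N : Set L) := fun g hgW hgU => Subgroup.mem_normalizer_iff.2 fun x => by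
        simp only [hN, Subgroup.mem_inf, ← Subgroup.mem_normalizer_iff.1 hgW x,
          ← Subgroup.mem_normalizer_iff.1 hgU x]
      have haN := hnN a haW (hnU a haG hab)
      have hkN := hnN k hkW (hnU k hkG hkB)
      obtain ⟨w₀, hw₀, hw₀U⟩ := SetLike.not_le_iff_exists.1 hWU
      have hmoved : ∃ w ∈ W, ⁅w, k⁆ ∉ N := by
        by_contra hcon
        push Not at hcon
        have hinj : Function.Injective (commHom (comm_of_elem hWel) k hkW) := by
          rw [← MonoidHom.ker_eq_bot_iff, eq_bot_iff]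
          intro x hx
          rw [Subgroup.mem_bot]
          exact Subtype.ext (hfpf x x.2
            (commutatorElement_eq_one_iff_mul_comm.1 (congrArg Subtype.val hx)).symm)
        obtain ⟨x, hx⟩ := (Finite.injective_iff_surjective.1 hinj) ⟨w₀, hw₀⟩
        have hx' : ⁅(x : L), k⁆ = w₀ := congrArg Subtype.val hx
        exact hw₀U (hx' ▸ hcon x x.2).1
      have hnt := hNT N W hWel a k haW inf_le_right hWV haG hkG hkW haN hkN ha2 hkodd hinv hmoved
      have hsize := size_section hWel haW hkW hkN haN inf_le_right ha2 hinv hkp hk2 hfpf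
        (fun h => hWU (h.trans inf_le_left)) hnt hsz
      set F := secFix hWel N a haW with hF
      have hidx : F.index * Nat.card U ≤ Nat.card ↥⁅V, A⁆ := by
        set J := (commHom (comm_of_elem hWel) a haW).range.map W.subtype with hJ
        have hJA : J ≤ ⁅V, A⁆ := by
          rintro _ ⟨_, ⟨w, rfl⟩, rfl⟩
          exact Subgroup.commutator_mem_commutator (hWV w.2) haA
        have hUA : U ≤ ⁅V, A⁆ := Subgroup.commutator_mono le_rfl hBA
        have e : F.index = U.relIndex J := by
          rw [hF, secFix, Subgroup.index_comap, hJ]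
          conv_rhs => rw [← Subgroup.inf_relIndex_right]
          rw [← Subgroup.relIndex_map_map_of_injective _ _ W.subtype_injective, Subgroup.subgroupOf_map_subtype]
          have : N ⊓ W = N := inf_eq_left.2 inf_le_right
          rw [this, ← Subgroup.inf_relIndex_right N]
          congr 1
          refine le_antisymm (inf_le_inf_right _ inf_le_left) fun x hx => ⟨⟨hx.1, ?_⟩, hx.2⟩
          exact Subgroup.map_subtype_le _ hx.2
        rw [e]
        calc U.relIndex J * Nat.card U ≤ U.relIndex ⁅V, A⁆ * Nat.card U :=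
              Nat.mul_le_mul_right _ (Subgroup.relIndex_le_of_le_right hJA Subgroup.index_ne_zero_of_finite)
          _ = _ := by
            rw [← (U.subgroupOf ⁅V, A⁆).index_mul_card,
              Nat.card_congr (Subgroup.subgroupOfEquivOfLe hUA).toEquiv]
            rfl
      have hfi : f ^ 2 ≤ F.index := by
        rw [← F.index_mul_card] at hsize
        exact Nat.le_of_mul_le_mul_right hsize Nat.card_pos
      calc Nat.card A ^ 2 = f ^ 2 * Nat.card B ^ 2 := by rw [hcard]; ring
        _ ≤ F.index * Nat.card U := Nat.mul_le_mul hfi ih2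
        _ ≤ _ := hidx

end Cfsg.Agent.Lib.GlaubermanTwo54
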