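import Cfsg.Agent.Lib.GlaubermanTwo54.InCore
import Cfsg.Agent.Lib.CharP.WCFactor

/-!
# The normal closure of a subgroup with the E-property in the minimal configuration

If every normal subgroup either contains `O²(G)` or meets `S` inside `O₂(G)`, and `J(S)` is not in `O₂(G)`,
then a subgroup `V ⊴ S` with the E-property is normal in `G`.

Owner: helper54.
-/

set_option autoImplicit false
set_option linter.style.haveILetI false
set_option linter.unusedSectionVars false

namespace Cfsg.Agent.Lib.GlaubermanTwo54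

open PLocal
open scoped commutatorElement

universe u

variable {G : Type u} [Group G] [Finite G]

/-- Every normal subgroup contains `O²(G)` or meets `S` inside `O₂(G)`. -/
def Dichotomy (S : Sylow 2 G) : Prop :=
  ∀ N : Subgroup G, N.Normal → Cfsg.pResidual 2 G ≤ N ∨ (S : Subgroup G) ⊓ N ≤ Cfsg.pCore 2 G

/-- A subgroup normalised by `S` and by the elements of odd order is normal. -/
theorem normal_of_sylow_odd (S : Sylow 2 G) {X : Subgroup G}
    (hS : (S : Subgroup G) ≤ Subgroup.normalizer (X : Set G))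
    (hodd : ∀ x : G, (orderOf x).Coprime 2 → x ∈ Subgroup.normalizer (X : Set G)) : X.Normal := by
  haveI : Fact (Nat.Prime 2) := ⟨Nat.prime_two⟩
  refine Subgroup.normalizer_eq_top_iff.1 (top_le_iff.1 ?_)
  rw [← CharP.sylow_sup_pResidual S]
  exact sup_le hS (Transfer.PResidual.pResidual_le_iff.2 hodd)

/-- `O₂(G/C) = 1` for a normal `C ⊇ O₂(G)` not containing `O²(G)`. -/
theorem eq_of_dichotomy (S : Sylow 2 G) (hD : Dichotomy S) {C : Subgroup G} [C.Normal]
    (hQ : Cfsg.pCore 2 G ≤ C) (hO : ¬ Cfsg.pResidual 2 G ≤ C) (D : Subgroup G) [D.Normal] (hle : C ≤ D)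
    {k : ℕ} (hk : C.relIndex D = 2 ^ k) : D = C := by
  haveI : Fact (Nat.Prime 2) := ⟨Nat.prime_two⟩
  refine le_antisymm ?_ hle
  rcases hD D inferInstance with hDO | hDQ
  · exfalso
    refine hO (Transfer.PResidual.pResidual_le_iff.2 fun x hx => ?_)
    have hxD : x ∈ D := hDO (Transfer.PResidual.mem_pResidual hx)
    have h1 := Subgroup.relIndex_ker (K := D) (QuotientGroup.mk' C)
    rw [QuotientGroup.ker_mk', hk] at h1
    have h2 : orderOf ((x : G ⧸ C)) ∣ 2 ^ k :=
      h1 ▸ Subgroup.orderOf_dvd_natCard _ (Subgroup.mem_map_of_mem _ hxD)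
    exact (QuotientGroup.eq_one_iff x).mp (orderOf_eq_one_iff.mp (Nat.eq_one_of_dvd_coprimes
      (hx.pow_right k) (orderOf_map_dvd (QuotientGroup.mk' C) x) h2))
  · exact (le_sup_inf_of_relIndex S hle hk).trans (sup_le le_rfl (hDQ.trans hQ))

/-- A section centralised by `O₂(G)`: `O²(G)` centralises it or the bound holds. -/
theorem section_bound (h : Hyp G) (S : Sylow 2 G) (hD : Dichotomy S) (N K : Subgroup G) [N.Normal] [K.Normal]
    (hel : Cfsg.IsElementaryAbelian 2 (K.map (QuotientGroup.mk' N)))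
    (hQK : ⁅K, Cfsg.pCore 2 G⁆ ≤ N) {A : Subgroup G} (hAS : A ≤ (S : Subgroup G))
    (hA : Cfsg.IsElementaryAbelian 2 A) :
    ⁅K, Cfsg.pResidual 2 G⁆ ≤ N ∨
      (Cfsg.pCore 2 G).relIndex A ^ 2 ≤
        ((Subgroup.centralizer (A.map (QuotientGroup.mk' N) : Set (G ⧸ N))).comap
          (QuotientGroup.mk' N)).relIndex K := by
  haveI : Fact (Nat.Prime 2) := ⟨Nat.prime_two⟩
  set π := QuotientGroup.mk' N with hπ
  set X := K.map π with hX
  haveI : X.Normal := (inferInstance : K.Normal).map π (QuotientGroup.mk'_surjective N)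
  set C' := (Subgroup.centralizer (X : Set (G ⧸ N))).comap π with hC'
  haveI : C'.Normal := Subgroup.normal_centralizer.comap π
  have hiff : ∀ U : Subgroup G, ⁅K, U⁆ ≤ N ↔ U ≤ C' := by
    intro U
    rw [← QuotientGroup.ker_mk' N, ← hπ, ← Subgroup.map_eq_bot_iff, Subgroup.map_commutator,
      Subgroup.commutator_comm, Subgroup.commutator_eq_bot_iff_le_centralizer, Subgroup.map_le_iff_le_comap]
  have hQC : Cfsg.pCore 2 G ≤ C' := (hiff _).1 hQK
  by_cases hO : Cfsg.pResidual 2 G ≤ C'
  · exact Or.inl ((hiff _).2 hO)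
  refine Or.inr ?_
  have hSQ : (S : Subgroup G) ⊓ C' ≤ Cfsg.pCore 2 G := (hD C' inferInstance).resolve_left hO
  have hred : Cfsg.pCore 2 ((G ⧸ N) ⧸ Subgroup.centralizer (X : Set (G ⧸ N))) = ⊥ := by
    refine SFourFree.pCore_quotient_eq_bot _ fun D hDn hle ⟨k, hk⟩ => ?_
    haveI := hDn
    have h1 := eq_of_dichotomy S hD hQC hO (D.comap π) (Subgroup.comap_mono hle) (k := k) (by
      rw [hC', Subgroup.relIndex_comap,
        Subgroup.map_comap_eq_self_of_surjective (QuotientGroup.mk'_surjective N), hk])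
    exact Subgroup.comap_injective (QuotientGroup.mk'_surjective N) h1
  have hA' : Cfsg.IsElementaryAbelian 2 (A.map π) := PGroups.elemAb_map π hA
  obtain ⟨h1, -⟩ := reduced_bound X
    (fun h4 => h.free (Transfer.InvolvesS4.involves_of_surjective π (QuotientGroup.mk'_surjective N) h4))
    (KnownSimple.compKGroup_quotient isoInvariant_typOdd h.comp N) hel hred (A.map π)
    (fun a ha b hb => by
      rw [commutatorElement_eq_one_iff_mul_comm.2 (PGroups.elemAb_comm hA' ha hb)]; exact one_mem _)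
    (fun a ha => by rw [← pow_two, hA'.2 a ha]; exact one_mem _)
  have hi : (Cfsg.pCore 2 G).relIndex A ≤ (Subgroup.centralizer (X : Set (G ⧸ N))).relIndex (A.map π) := by
    rw [← Subgroup.relIndex_comap, ← hC', ← Subgroup.inf_relIndex_left A C']
    exact Subgroup.relIndex_le_of_le_left ((inf_le_inf_right _ hAS).trans hSQ) Subgroup.index_ne_zero_of_finite
  rw [← SFourFree.relIndex_centralizer_mul_card X (A.map π)] at h1
  refine (Nat.pow_le_pow_left hi 2).trans ((Nat.le_of_mul_le_mul_right h1 Nat.card_pos).trans (le_of_eq ?_))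
  rw [Subgroup.relIndex_comap]

theorem arith_conj {d₁ d₂ : ℕ} (h0 : 0 < d₂) (h1 : d₁ ^ 3 < d₂ ^ 2) (h2 : d₂ ^ 3 < d₁ ^ 2) : False := by
  have h3 : d₂ ^ 9 < d₂ ^ 4 := by
    calc d₂ ^ 9 = (d₂ ^ 3) ^ 3 := by ring
      _ < (d₁ ^ 2) ^ 3 := Nat.pow_lt_pow_left h2 (by norm_num)
      _ = (d₁ ^ 3) ^ 2 := by ring
      _ < (d₂ ^ 2) ^ 2 := Nat.pow_lt_pow_left h1 (by norm_num)
      _ = d₂ ^ 4 := by ring
  have h4 : d₂ ^ 4 ≤ d₂ ^ 9 := Nat.pow_le_pow_right h0 (by norm_num)
  omega

theorem arith_offender {a0 a1 n : ℕ} (h0 : 0 < a0) (ha : 2 ≤ a0 * a1) (hn : n ≤ a0 * a1)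
    (hc : a0 ^ 3 ≤ n ^ 2) (hb : a1 ^ 4 ≤ n) : False := by
  have h1 : a0 ≤ a1 ^ 2 := by
    refine Nat.le_of_mul_le_mul_right (c := a0 ^ 2) ?_ (pow_pos h0 2)
    calc a0 * a0 ^ 2 = a0 ^ 3 := by ring
      _ ≤ (a0 * a1) ^ 2 := hc.trans (Nat.pow_le_pow_left hn 2)
      _ = _ := by ring
  have h2 : a1 ^ 4 ≤ a1 ^ 3 :=
    hb.trans (hn.trans ((Nat.mul_le_mul_right a1 h1).trans (le_of_eq (pow_succ a1 2).symm)))
  have h3 : a1 ≤ 1 := by
    by_contra hlt
    push Not at hlt
    exact absurd h2 (not_le.2 (Nat.pow_lt_pow_right hlt (by norm_num)))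
  have h4 : a0 ≤ 1 := h1.trans (Nat.pow_le_one_iff (by norm_num) |>.2 h3)
  have := Nat.mul_le_mul h4 h3
  omega

/-- The counting of the dual. -/
theorem relIndex_pairing_le {D R V : Subgroup G} {D' : Subgroup G} [D'.Normal]
    (hV : Cfsg.IsElementaryAbelian 2 V) (hD : Nat.card (D.map (QuotientGroup.mk' D')) ≤ 2)
    (hR : R ≤ Subgroup.normalizer (V : Set G)) (hVR : ⁅V, R⁆ ≤ D) :
    ((Subgroup.centralizer (R.map (QuotientGroup.mk' D') : Set (G ⧸ D'))).comap
        (QuotientGroup.mk' D')).relIndex V ≤ (Subgroup.centralizer (V : Set G)).relIndex R := by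
  classical
  set π := QuotientGroup.mk' D' with hπ
  let P : Subgroup G → Subgroup G := fun U => (Subgroup.centralizer (U.map π : Set (G ⧸ D'))).comap π
  set B0 := R ⊓ Subgroup.centralizer (V : Set G) with hB0
  have key : ∀ n : ℕ, ∀ U : Subgroup G, Nat.card U = n → B0 ≤ U → U ≤ R →
      (P U).relIndex V ≤ B0.relIndex U := by
    intro n
    induction n using Nat.strong_induction_on with
    | _ n ih =>
      intro U hn hBU hUR
      by_cases hUB : U ≤ B0
      · have hVP : V ≤ P U := fun v hv => by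
          show π v ∈ Subgroup.centralizer (U.map π : Set (G ⧸ D'))
          refine Subgroup.mem_centralizer_iff.2 ?_
          rintro _ ⟨x, hx, rfl⟩
          rw [← map_mul, ← map_mul, Subgroup.mem_centralizer_iff.1 (hUB hx).2 v hv]
        rw [Subgroup.relIndex_eq_one.2 hVP, Subgroup.relIndex_eq_one.2 hUB]
      obtain ⟨U', ⟨hBU', hU'lt⟩, hmax⟩ := (Set.toFinite {X : Subgroup G | B0 ≤ X ∧ X < U}).exists_maximal
        ⟨B0, le_rfl, lt_of_le_not_ge hBU hUB⟩
      obtain ⟨r, hrU, hrU'⟩ := SetLike.not_le_iff_exists.1 (not_le_of_gt hU'lt)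
      have hgen : U' ⊔ Subgroup.zpowers r = U := by
        rcases eq_or_ne (U' ⊔ Subgroup.zpowers r) U with h | h
        · exact h
        exfalso
        exact hrU' ((hmax ⟨hBU'.trans le_sup_left,
          lt_of_le_of_ne (sup_le hU'lt.le (Subgroup.zpowers_le.2 hrU)) h⟩ le_sup_left)
          (Subgroup.mem_sup_right (Subgroup.mem_zpowers r)))
      have hih := ih (Nat.card U') (hn ▸ lt_of_le_of_ne (Subgroup.card_le_of_le hU'lt.le)
        fun e => hU'lt.ne (Subgroup.eq_of_le_of_card_ge hU'lt.le e.ge)) U' rfl hBU' (hU'lt.le.trans hUR)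
      have hsup : P U' ⊓ P (Subgroup.zpowers r) ≤ P U := by
        rintro v ⟨h1, h2⟩
        show π v ∈ Subgroup.centralizer (U.map π : Set (G ⧸ D'))
        rw [← hgen, Subgroup.map_sup]
        have : U'.map π ⊔ (Subgroup.zpowers r).map π ≤ Subgroup.centralizer ({π v} : Set (G ⧸ D')) :=
          sup_le (fun x hx => Subgroup.mem_centralizer_singleton_iff.2 (Subgroup.mem_centralizer_iff.1 h1 x hx))
            fun x hx => Subgroup.mem_centralizer_singleton_iff.2 (Subgroup.mem_centralizer_iff.1 h2 x hx)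
        exact Subgroup.mem_centralizer_iff.2 fun x hx => Subgroup.mem_centralizer_singleton_iff.1 (this hx)
      have hr2 : (P (Subgroup.zpowers r)).relIndex V ≤ 2 := by
        show ((Subgroup.centralizer ((Subgroup.zpowers r).map π : Set (G ⧸ D'))).comap π).relIndex V ≤ 2
        rw [Subgroup.relIndex_comap, MonoidHom.map_zpowers]
        set X := V.map π
        have hXel : Cfsg.IsElementaryAbelian 2 X := PGroups.elemAb_map π hV
        have hrX : π r ∈ Subgroup.normalizer (X : Set (G ⧸ D')) :=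
          Subgroup.le_normalizer_map π ⟨r, hR (hUR hrU), rfl⟩
        have h1 := SFourFree.relIndex_centralizer_mul_card X (Subgroup.zpowers (π r))
        have h2 := card_eq_fix_mul_range (comm_of_elem hXel) hrX
        have h3 : Nat.card (commRange (comm_of_elem hXel) (π r) hrX) ≤ 2 := by
          refine (Subgroup.card_le_of_le fun x hx => ?_).trans hD
          obtain ⟨_, ⟨v, hv, rfl⟩, rfl⟩ := (mem_commRange _ _).1 hx
          exact ⟨⁅v, r⁆, hVR (Subgroup.commutator_mem_commutator hv (hUR hrU)), map_commutatorElement π v r⟩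
        rw [h2, mul_comm (Nat.card (fixOn X _))] at h1
        exact (Nat.le_of_mul_le_mul_right (le_of_eq h1) Nat.card_pos).trans h3
      calc (P U).relIndex V ≤ (P U' ⊓ P (Subgroup.zpowers r)).relIndex V :=
            Subgroup.relIndex_le_of_le_left hsup Subgroup.index_ne_zero_of_finite
        _ ≤ (P U').relIndex V * (P (Subgroup.zpowers r)).relIndex V := Subgroup.relIndex_inf_le
        _ ≤ B0.relIndex U' * U'.relIndex U := by
            refine Nat.mul_le_mul hih (hr2.trans ?_)
            have h0 : U'.relIndex U ≠ 0 := Subgroup.index_ne_zero_of_finite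
            have h1 : U'.relIndex U ≠ 1 := fun e => not_le_of_gt hU'lt (Subgroup.relIndex_eq_one.1 e)
            omega
        _ = _ := Subgroup.relIndex_mul_relIndex _ _ _ hBU' hU'lt.le
  have := key _ R rfl inf_le_left le_rfl
  rwa [hB0, Subgroup.inf_relIndex_left] at this

/-- The subgroup with the E-property is normal. -/
theorem normal_of_eprop (h : Hyp G) (S : Sylow 2 G) (hD : Dichotomy S)
    (hJQ : ¬ Cfsg.thompsonSubgroupOf 2 (S : Subgroup G) ≤ Cfsg.pCore 2 G) {V : Subgroup G}
    (hV : Cfsg.IsElementaryAbelian 2 V) (hVS : V ≤ (S : Subgroup G))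
    (hn : (S : Subgroup G) ≤ Subgroup.normalizer (V : Set G)) (hp : EProp V (S : Subgroup G)) : V.Normal := by
  classical
  haveI : Fact (Nat.Prime 2) := ⟨Nat.prime_two⟩
  set Q := Cfsg.pCore 2 G with hQ
  set O := Cfsg.pResidual 2 G with hO
  set J := Cfsg.thompsonSubgroupOf 2 (S : Subgroup G) with hJdef
  have hQS : Q ≤ (S : Subgroup G) := Cores.pCore_le_sylow S
  have hQp : IsPGroup 2 Q := Cores.pCore_isPGroup 2
  have hVQ : V ≤ Q := le_pCore_of_eprop h S hV hVS hn hp
  have hJV : J ≤ Subgroup.centralizer (V : Set G) := thompson_le_centralizer hV hVS hp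
  have hJS : J ≤ (S : Subgroup G) := PGroups.thompsonSubgroupOf_le 2 _
  have hnN : ∀ (U : Subgroup G) [U.Normal] (x : G), x ∈ Subgroup.normalizer (U : Set G) := fun U _ x => by
    rw [Subgroup.normalizer_eq_top]; trivial
  let Wc : G → Subgroup G := fun g => V.map (MulAut.conj g).toMonoidHom
  have hWcQ : ∀ g, Wc g ≤ Q := fun g =>
    (Subgroup.map_mono hVQ).trans (Subgroup.Normal.map_conj_eq Q g).le
  have hWcel : ∀ g, Cfsg.IsElementaryAbelian 2 (Wc g) := fun g => PGroups.elemAb_conj g hV
  have hQSg : ∀ g, Q ≤ (S : Subgroup G).map (MulAut.conj g).toMonoidHom := fun g =>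
    (Subgroup.Normal.map_conj_eq Q g).ge.trans (Subgroup.map_mono hQS)
  have hpg : ∀ g, EProp (Wc g) ((S : Subgroup G).map (MulAut.conj g).toMonoidHom) := fun g =>
    (eprop_map_iff _ (MulAut.conj g).injective V _).2 hp
  have hWg : ∀ g, V ≤ Subgroup.centralizer ((Wc g : Subgroup G) : Set G) := by
    intro g
    rcases eprop_ineq hp ((hWcQ g).trans hQS) (hWcel g) with h1 | h1
    · exact Subgroup.le_centralizer_iff.1 (Subgroup.relIndex_eq_one.1 h1)
    rcases eprop_ineq (hpg g) (hVQ.trans (hQSg g)) hV with h2 | h2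
    · exact Subgroup.relIndex_eq_one.1 h2
    exact (arith_conj (Nat.pos_of_ne_zero Subgroup.index_ne_zero_of_finite) h2 h1).elim
  set W := ⨆ g : G, Wc g with hW
  haveI hWn : W.Normal := ⟨fun x hx y => by
    have h : x ∈ W := hx
    have h2 := Subgroup.mem_map_of_mem (MulAut.conj y).toMonoidHom h
    rw [hW, Subgroup.map_iSup] at h2
    refine (iSup_le fun g => ?_ : _ ≤ W) h2
    refine le_trans (le_of_eq ?_) (le_iSup Wc (y * g))
    simp only [Wc]
    rw [Subgroup.map_map]
    congr 1
    ext z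
    simp [mul_assoc]⟩
  have hVW : V ≤ W := by
    refine le_trans (le_of_eq ?_) (le_iSup Wc 1)
    simp only [Wc, map_one]
    exact (Subgroup.map_id V).symm
  have hWQ : W ≤ Q := iSup_le hWcQ
  have hWel : Cfsg.IsElementaryAbelian 2 W := by
    have hWcl : W = Subgroup.closure (⋃ g, (Wc g : Set G)) := by
      rw [Subgroup.closure_iUnion]; simp [hW]
    rw [hWcl]
    refine PGroups.elemAb_closure ?_ ?_
    · intro a ha b hb
      obtain ⟨g, hag⟩ := Set.mem_iUnion.mp ha
      obtain ⟨g', hbh⟩ := Set.mem_iUnion.mp hb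
      obtain ⟨w, hw, rfl⟩ := hag
      obtain ⟨w', hw', rfl⟩ := hbh
      have h1 := Subgroup.mem_centralizer_iff.mp (hWg (g⁻¹ * g') hw)
        ((g⁻¹ * g') * w' * (g⁻¹ * g')⁻¹) ⟨w', hw', rfl⟩
      simp only [MulEquiv.coe_toMonoidHom, MulAut.conj_apply]
      calc g * w * g⁻¹ * (g' * w' * g'⁻¹)
          = g * (w * ((g⁻¹ * g') * w' * (g⁻¹ * g')⁻¹)) * g⁻¹ := by group
        _ = g * (((g⁻¹ * g') * w' * (g⁻¹ * g')⁻¹) * w) * g⁻¹ := by rw [h1]
        _ = g' * w' * g'⁻¹ * (g * w * g⁻¹) := by group
    · intro a ha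
      obtain ⟨g, hag⟩ := Set.mem_iUnion.mp ha
      exact (hWcel g).2 a hag
  suffices hOW : O ≤ Subgroup.centralizer (W : Set G) by
    exact normal_of_sylow_odd S hn fun x hx => Subgroup.centralizer_le_normalizer _
      (Subgroup.centralizer_le hVW (hOW (Transfer.PResidual.mem_pResidual hx)))
  by_contra hOW
  -- `W₁ = [W, O]`
  haveI hCWn : (Subgroup.centralizer (W : Set G)).Normal := Subgroup.normal_centralizer
  set W1 := ⁅W, O⁆ with hW1
  haveI hOn : O.Normal := by rw [hO]; infer_instance
  haveI hW1n : W1.Normal := Subgroup.commutator_normal W O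
  have hW1W : W1 ≤ W := Subgroup.commutator_le_left _ _
  have hW1el := PGroups.elemAb_mono hWel hW1W
  have hfix : ⁅W1, O⁆ = W1 := by
    refine le_antisymm (Subgroup.commutator_le_left _ _) ?_
    set M := ⁅W1, O⁆ with hM
    haveI : M.Normal := Subgroup.commutator_normal W1 O
    haveI : ((Subgroup.centralizer (W.map (QuotientGroup.mk' M) : Set (G ⧸ M))).comap
        (QuotientGroup.mk' M)).Normal :=
      haveI : (W.map (QuotientGroup.mk' M)).Normal := hWn.map _ (QuotientGroup.mk'_surjective M)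
      Subgroup.normal_centralizer.comap _
    have hOC : O ≤ (Subgroup.centralizer (W.map (QuotientGroup.mk' M) : Set (G ⧸ M))).comap
        (QuotientGroup.mk' M) := by
      refine Transfer.PResidual.pResidual_le_iff.2 fun x hx => ?_
      refine Subgroup.mem_comap.2 ?_
      refine Subgroup.mem_centralizer_iff.2 ?_
      rintro _ ⟨v, hv, rfl⟩
      rw [← commutatorElement_eq_one_iff_mul_comm, ← map_commutatorElement, QuotientGroup.mk'_apply,
        QuotientGroup.eq_one_iff]
      set Wx := commRange (comm_of_elem hWel) x (hnN W x)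
      have hWx : Cfsg.IsElementaryAbelian 2 Wx := PGroups.elemAb_mono hWel (Subgroup.map_subtype_le _)
      have hxWx : x ∈ Subgroup.normalizer (Wx : Set G) :=
        normalizes_commRange_of_commute hWel (hnN W x) (hnN W x) rfl
      have hfpf := fix_commRange_eq_bot hWel (hnN W x) (Nat.coprime_two_right.1 hx)
      have hinj : Function.Injective (commHom (comm_of_elem hWx) x hxWx) := by
        rw [← MonoidHom.ker_eq_bot_iff, eq_bot_iff]
        intro z hz
        rw [Subgroup.mem_bot]
        exact Subtype.ext (hfpf z z.2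
          (commutatorElement_eq_one_iff_mul_comm.1 (congrArg Subtype.val hz)).symm)
      obtain ⟨z, hz⟩ := (Finite.injective_iff_surjective.1 hinj) ⟨⁅v, x⁆, (mem_commRange _ _).2 ⟨v, hv, rfl⟩⟩
      have hz' : ⁅(z : G), x⁆ = ⁅v, x⁆ := congrArg Subtype.val hz
      rw [← hz']
      refine Subgroup.commutator_mem_commutator ?_ (Transfer.PResidual.mem_pResidual hx)
      obtain ⟨w, hw, hwz⟩ := (mem_commRange _ _).1 z.2
      rw [← hwz]
      exact Subgroup.commutator_mem_commutator hw (Transfer.PResidual.mem_pResidual hx)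
    rw [← QuotientGroup.ker_mk' M, ← Subgroup.map_eq_bot_iff, Subgroup.map_commutator,
      Subgroup.commutator_comm, Subgroup.commutator_eq_bot_iff_le_centralizer, Subgroup.map_le_iff_le_comap]
    exact hOC
  have hW1ne : W1 ≠ ⊥ := fun h0 => hOW (Subgroup.commutator_eq_bot_iff_le_centralizer.1
    (by rw [Subgroup.commutator_comm]; exact h0))
  obtain ⟨N, hNn, hNW1, hXel, hQN, hmax⟩ := exists_factor (hW1W.trans hWQ) hW1ne
  haveI := hNn
  have hNW : N ≤ W := hNW1.le.trans hW1W
  -- an offender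
  obtain ⟨A, hAmax, hAV⟩ : ∃ A ∈ PGroups.maxElemAbIn 2 (S : Subgroup G),
      ¬ A ≤ Subgroup.centralizer (W : Set G) := by
    by_contra hall
    push Not at hall
    apply hJQ
    refine le_trans (le_inf hJS ?_) ((hD _ hCWn).resolve_left hOW)
    rw [hJdef, PGroups.thompsonSubgroupOf_eq]
    exact sSup_le hall
  have hAel : Cfsg.IsElementaryAbelian 2 A := hAmax.2.1
  have hAS : A ≤ (S : Subgroup G) := hAmax.1
  set CV := Subgroup.centralizer (W : Set G) with hCV
  set α := CV.relIndex A with hα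
  set n := (Subgroup.centralizer (A : Set G)).relIndex W with hndef
  have hnα : n ≤ α := by
    have hbest := (bestOffender_of_maxElemAb (maxElemAbIn_sylow_subset S hAmax) hWel).1
      (A ⊓ CV) inf_le_left
    have hfix' : W ⊓ Subgroup.centralizer ((A ⊓ CV : Subgroup G) : Set G) = W :=
      fixOn_eq_self_iff.mpr inf_le_right
    rw [hfix'] at hbest
    have h1 := SFourFree.relIndex_centralizer_mul_card W A
    have h2 : α * Nat.card (A ⊓ CV : Subgroup G) = Nat.card A := by
      have h := Subgroup.relIndex_mul_relIndex (⊥ : Subgroup G) (A ⊓ CV) A bot_le inf_le_left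
      rw [Subgroup.relIndex_bot_left, Subgroup.relIndex_bot_left, Subgroup.inf_relIndex_left] at h
      rw [hα, mul_comm]; exact h
    rw [← h1, ← h2] at hbest
    refine Nat.le_of_mul_le_mul_right ?_ (Nat.mul_pos (Nat.card_pos (α := (A ⊓ CV : Subgroup G)))
      (Nat.card_pos (α := fixOn W A)))
    calc n * (Nat.card (A ⊓ CV : Subgroup G) * Nat.card (fixOn W A))
        = Nat.card (A ⊓ CV : Subgroup G) * (n * Nat.card (fixOn W A)) := by ring
      _ ≤ α * Nat.card (A ⊓ CV : Subgroup G) * Nat.card (fixOn W A) := hbest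
      _ = _ := by ring
  set B := A ⊓ Q with hB
  set a0 := CV.relIndex B with ha0
  set a1 := Q.relIndex A with ha1
  have hACV : A ⊓ CV ≤ Q := (inf_le_inf_right _ hAS).trans ((hD _ hCWn).resolve_left hOW)
  have hαmul : α = a0 * a1 := by
    have h := Subgroup.relIndex_mul_relIndex (A ⊓ CV) B A (le_inf inf_le_left hACV) inf_le_left
    rw [Subgroup.inf_relIndex_left, hB, Subgroup.inf_relIndex_left] at h
    rw [hα, ← h, ha0, ha1]
    congr 1
    have h2 : A ⊓ CV = A ⊓ Q ⊓ CV := by
      refine le_antisymm (le_inf (le_inf inf_le_left hACV) inf_le_right) ?_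
      exact le_inf (inf_le_left.trans inf_le_left) inf_le_right
    conv_lhs => rw [h2, Subgroup.inf_relIndex_left]
  have hα2 : 2 ≤ a0 * a1 := by
    have h0 : α ≠ 0 := Subgroup.index_ne_zero_of_finite
    have h1 : α ≠ 1 := fun e => hAV (Subgroup.relIndex_eq_one.1 e)
    omega
  have hcu : a0 ^ 3 ≤ n ^ 2 := by
    refine (cu_of_generated Wc hW fun g C hC => eprop_cu (hpg g) ((hC.trans inf_le_right).trans (hQSg g))
      (PGroups.elemAb_mono hAel (hC.trans inf_le_left)) : Cu W B).trans (Nat.pow_le_pow_left ?_ 2)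
    exact Subgroup.relIndex_le_of_le_left (Subgroup.centralizer_le inf_le_left) Subgroup.index_ne_zero_of_finite
  -- `O` centralises `N`
  set CA := Subgroup.centralizer (A : Set G) with hCA
  have hfirst : a1 ^ 2 ≤ ((Subgroup.centralizer (A.map (QuotientGroup.mk' N) : Set (G ⧸ N))).comap
      (QuotientGroup.mk' N)).relIndex W1 :=
    (section_bound h S hD N W1 hXel hQN hAS hAel).resolve_left fun hle =>
      not_le_of_gt hNW1 (hfix ▸ hle)
  have hON : O ≤ Subgroup.centralizer (N : Set G) := by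
    by_contra hON
    haveI : (Subgroup.centralizer (N : Set G)).Normal := Subgroup.normal_centralizer
    set N1 := ⁅N, O⁆ with hN1
    haveI : N1.Normal := Subgroup.commutator_normal N O
    have hN1N : N1 ≤ N := Subgroup.commutator_le_left _ _
    have hN1ne : N1 ≠ ⊥ := fun h0 => hON (Subgroup.commutator_eq_bot_iff_le_centralizer.1
      (by rw [Subgroup.commutator_comm]; exact h0))
    obtain ⟨N', hN'n, hN'lt, hYel, hQN', -⟩ := exists_factor ((hN1N.trans hNW).trans hWQ) hN1ne
    haveI := hN'n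
    have hfix2 : ⁅N1, O⁆ = N1 := by
      refine le_antisymm (Subgroup.commutator_le_left _ _) ?_
      set M := ⁅N1, O⁆ with hM
      haveI : M.Normal := Subgroup.commutator_normal N1 O
      rw [hN1, ← QuotientGroup.ker_mk' M, ← Subgroup.map_eq_bot_iff, Subgroup.map_commutator,
        Subgroup.commutator_comm, Subgroup.commutator_eq_bot_iff_le_centralizer, Subgroup.map_le_iff_le_comap]
      refine Transfer.PResidual.pResidual_le_iff.2 fun x hx => ?_
      refine Subgroup.mem_comap.2 ?_
      refine Subgroup.mem_centralizer_iff.2 ?_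
      rintro _ ⟨v, hv, rfl⟩
      rw [← commutatorElement_eq_one_iff_mul_comm, ← map_commutatorElement, QuotientGroup.mk'_apply,
        QuotientGroup.eq_one_iff]
      have hNel := PGroups.elemAb_mono hWel hNW
      set Wx := commRange (comm_of_elem hNel) x (hnN N x)
      have hWx : Cfsg.IsElementaryAbelian 2 Wx := PGroups.elemAb_mono hNel (Subgroup.map_subtype_le _)
      have hxWx : x ∈ Subgroup.normalizer (Wx : Set G) :=
        normalizes_commRange_of_commute hNel (hnN N x) (hnN N x) rfl
      have hfpf := fix_commRange_eq_bot hNel (hnN N x) (Nat.coprime_two_right.1 hx)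
      have hinj : Function.Injective (commHom (comm_of_elem hWx) x hxWx) := by
        rw [← MonoidHom.ker_eq_bot_iff, eq_bot_iff]
        intro z hz
        rw [Subgroup.mem_bot]
        exact Subtype.ext (hfpf z z.2
          (commutatorElement_eq_one_iff_mul_comm.1 (congrArg Subtype.val hz)).symm)
      obtain ⟨z, hz⟩ := (Finite.injective_iff_surjective.1 hinj) ⟨⁅v, x⁆, (mem_commRange _ _).2 ⟨v, hv, rfl⟩⟩
      have hz' : ⁅(z : G), x⁆ = ⁅v, x⁆ := congrArg Subtype.val hz
      rw [← hz']
      refine Subgroup.commutator_mem_commutator ?_ (Transfer.PResidual.mem_pResidual hx)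
      obtain ⟨w, hw, hwz⟩ := (mem_commRange _ _).1 z.2
      rw [← hwz]
      exact Subgroup.commutator_mem_commutator hw (Transfer.PResidual.mem_pResidual hx)
    have hsecond : a1 ^ 2 ≤ CA.relIndex N := by
      refine ((section_bound h S hD N' N1 hYel hQN' hAS hAel).resolve_left fun hle =>
        not_le_of_gt hN'lt (hfix2 ▸ hle)).trans ?_
      refine le_trans (Subgroup.relIndex_le_of_le_left ?_ Subgroup.index_ne_zero_of_finite)
        (Subgroup.relIndex_le_of_le_right hN1N Subgroup.index_ne_zero_of_finite)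
      exact (Subgroup.map_le_iff_le_comap.1 (by
        rw [Subgroup.le_centralizer_iff]
        rintro _ ⟨a, ha, rfl⟩
        refine Subgroup.mem_centralizer_iff.2 ?_
        rintro _ ⟨x, hx, rfl⟩
        rw [← map_mul, ← map_mul, Subgroup.mem_centralizer_iff.1 hx a ha]))
    set M := N ⊔ (W1 ⊓ CA) with hM
    have h3 := Subgroup.relIndex_mul_relIndex (W1 ⊓ CA) M W1 le_sup_right (sup_le hNW1.le inf_le_left)
    rw [Subgroup.inf_relIndex_left] at h3
    have h4 : CA.relIndex N ≤ (W1 ⊓ CA).relIndex M :=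
      (Subgroup.relIndex_le_of_le_left inf_le_right Subgroup.index_ne_zero_of_finite).trans
        (Subgroup.relIndex_le_of_le_right le_sup_left Subgroup.index_ne_zero_of_finite)
    have h5 : a1 ^ 2 ≤ M.relIndex W1 := by
      refine hfirst.trans (Subgroup.relIndex_le_of_le_left ?_ Subgroup.index_ne_zero_of_finite)
      refine sup_le (fun x hx => ?_) (fun x hx => ?_)
      · refine Subgroup.mem_comap.2 ?_
        rw [show QuotientGroup.mk' N x = 1 from (QuotientGroup.eq_one_iff x).2 hx]
        exact one_mem _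
      · refine Subgroup.mem_comap.2 ?_
        refine Subgroup.mem_centralizer_iff.2 ?_
        rintro _ ⟨a, ha, rfl⟩
        rw [← map_mul, ← map_mul, Subgroup.mem_centralizer_iff.1 hx.2 a ha]
    refine arith_offender (Nat.pos_of_ne_zero Subgroup.index_ne_zero_of_finite) hα2 (hαmul ▸ hnα) hcu ?_
    calc a1 ^ 4 = a1 ^ 2 * a1 ^ 2 := by ring
      _ ≤ (W1 ⊓ CA).relIndex M * M.relIndex W1 := Nat.mul_le_mul (hsecond.trans h4) h5
      _ = CA.relIndex W1 := h3
      _ ≤ n := Subgroup.relIndex_le_of_le_right hW1W Subgroup.index_ne_zero_of_finite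
  -- `W = V W₁`
  set F := W ⊓ Subgroup.centralizer (O : Set G) with hF
  have hNF : N ≤ F := le_inf hNW (Subgroup.le_centralizer_iff.1 hON)
  have hWeq : W = V ⊔ W1 := by
    refine le_antisymm (iSup_le fun g => ?_) (sup_le hVW hW1W)
    haveI : (V ⊔ W1).Normal := by
      refine normal_of_sylow_odd S (fun s hs => ?_) fun x hx => ?_
      · refine Subgroup.mem_normalizer_iff_map_conj_eq.2 ?_
        rw [Subgroup.map_sup, Subgroup.mem_normalizer_iff_map_conj_eq.1 (hn hs),
          Subgroup.mem_normalizer_iff_map_conj_eq.1 (hnN W1 s)]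
      · refine Subgroup.mem_normalizer_iff_map_conj_eq.2 (Subgroup.eq_of_le_of_card_ge ?_
          (Subgroup.card_map_of_injective (MulAut.conj x).injective).ge)
        rw [Subgroup.map_sup, Subgroup.mem_normalizer_iff_map_conj_eq.1 (hnN W1 x)]
        refine sup_le ?_ le_sup_right
        rintro _ ⟨v, hv, rfl⟩
        show x * v * x⁻¹ ∈ V ⊔ W1
        rw [conj_eq_commutator_inv_mul]
        exact mul_mem (inv_mem (Subgroup.mem_sup_right (Subgroup.commutator_mem_commutator (hVW hv)
          (Transfer.PResidual.mem_pResidual hx)))) (Subgroup.mem_sup_left hv)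
    exact (Subgroup.map_mono (le_sup_left : V ≤ V ⊔ W1)).trans (Subgroup.Normal.map_conj_eq _ g).le
  -- `[W, Q] ≤ C(O)`
  set U := ⁅W, Q⁆ with hU
  haveI : U.Normal := Subgroup.commutator_normal W Q
  have hUW : U ≤ W := Subgroup.commutator_le_left _ _
  have hUVN : U ≤ V ⊔ N := by
    rw [hU, Subgroup.commutator_le]
    intro w hw q hq
    have hw' : w ∈ ((V ⊔ W1 : Subgroup G) : Set G) := hWeq ▸ hw
    rw [Subgroup.mul_normal] at hw'
    obtain ⟨v, hv, w1, hw1, rfl⟩ := hw'
    show ⁅v * w1, q⁆ ∈ _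
    rw [commutatorElement_mul_of_comm (comm_of_elem hWel) (hnN W q) (hVW hv) (hW1W hw1)]
    exact mul_mem (Subgroup.mem_sup_left (commutatorElement_mem (hn (hQS hq)) hv))
      (Subgroup.mem_sup_right (hQN (Subgroup.commutator_mem_commutator hw1 hq)))
  have hUO : O ≤ Subgroup.centralizer (U : Set G) := by
    set π := QuotientGroup.mk' N
    set C'' := (Subgroup.centralizer (U.map π : Set (G ⧸ N))).comap π
    haveI : (U.map π).Normal := (inferInstance : U.Normal).map π (QuotientGroup.mk'_surjective N)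
    haveI : C''.Normal := Subgroup.normal_centralizer.comap π
    have hJC : J ≤ C'' := fun j hj => by
      refine Subgroup.mem_comap.2 ?_
      refine Subgroup.mem_centralizer_iff.2 ?_
      rintro _ ⟨u, hu, rfl⟩
      have hu' : u ∈ ((V ⊔ N : Subgroup G) : Set G) := hUVN hu
      rw [Subgroup.mul_normal] at hu'
      obtain ⟨v, hv, m, hm, rfl⟩ := hu'
      show π (v * m) * π j = π j * π (v * m)
      rw [map_mul, show π m = 1 from (QuotientGroup.eq_one_iff m).2 hm, mul_one, ← map_mul, ← map_mul,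
        Subgroup.mem_centralizer_iff.1 (hJV hj) v hv]
    have hOC : O ≤ C'' := (hD C'' inferInstance).resolve_right fun h' => hJQ ((le_inf hJS hJC).trans h')
    refine Transfer.PResidual.pResidual_le_iff.2 fun x hx => ?_
    refine CharP.mem_centralizer_of_two_step (p := 2) (hQp.to_le (hNW.trans hWQ)) hx (fun u hu => ?_)
      (hON (Transfer.PResidual.mem_pResidual hx))
    rw [← QuotientGroup.eq_one_iff, ← QuotientGroup.mk'_apply, map_commutatorElement,
      commutatorElement_eq_one_iff_mul_comm]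
    exact Subgroup.mem_centralizer_iff.1 (hOC (Transfer.PResidual.mem_pResidual hx)) (π u) ⟨u, hu, rfl⟩
  have hUO' : ⁅U, O⁆ = ⊥ := by
    rw [Subgroup.commutator_comm]
    exact Subgroup.commutator_eq_bot_iff_le_centralizer.2 hUO
  -- `R = [Q, O]`, `D = [W₁, Q]`
  set R := ⁅Q, O⁆ with hR
  haveI : R.Normal := Subgroup.commutator_normal Q O
  have hRQ : R ≤ Q := Subgroup.commutator_le_left _ _
  set D := ⁅W1, Q⁆ with hDdef
  haveI : D.Normal := Subgroup.commutator_normal W1 Q
  have hDN : D ≤ N := hQN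
  have hDne : D ≠ ⊥ := by
    intro h0
    haveI : (Subgroup.centralizer (W1 : Set G)).Normal := Subgroup.normal_centralizer
    have hQC : Q ≤ Subgroup.centralizer (W1 : Set G) := Subgroup.commutator_eq_bot_iff_le_centralizer.1
      (by rw [Subgroup.commutator_comm]; exact h0)
    refine hW1ne ?_
    rw [← hfix, Subgroup.commutator_comm]
    refine Subgroup.commutator_eq_bot_iff_le_centralizer.2 ?_
    by_contra hne
    haveI : W1.Normal := hW1n
    have hp1 : EProp W1 (S : Subgroup G) := (eprop_of_reduced h W1 hW1el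
      (SFourFree.pCore_quotient_eq_bot _ fun X hX hle ⟨k, hk⟩ =>
        haveI := hX
        eq_of_dichotomy S hD hQC hne X hle hk)).mono le_top
    exact hJQ ((le_inf hJS (thompson_le_centralizer hW1el ((hW1W.trans hWQ).trans hQS) hp1)).trans
      ((hD _ inferInstance).resolve_left hne))
  have htop : ∀ (X : Subgroup G) [X.Normal], (⊤ : Subgroup G) ≤ Subgroup.normalizer (X : Set G) :=
    fun X _ x _ => hnN X x
  have hWR : ⁅W, R⁆ ≤ D := by
    rw [Subgroup.commutator_comm]
    refine CharP.three_subgroups_le (le_top : D ≤ ⊤) (htop D) le_top le_top le_top ?_ ?_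
    · rw [Subgroup.commutator_comm O W]
    · rw [← hU, hUO']; exact bot_le
  have hRF : R ≤ Subgroup.centralizer (F : Set G) := by
    rw [← Subgroup.commutator_eq_bot_iff_le_centralizer, eq_bot_iff]
    refine CharP.three_subgroups_le (le_top : (⊥ : Subgroup G) ≤ ⊤) (htop ⊥) le_top le_top le_top ?_ ?_
    · have : ⁅O, F⁆ = ⊥ :=
        Subgroup.commutator_eq_bot_iff_le_centralizer.2 (Subgroup.le_centralizer_iff.1 inf_le_right)
      rw [this, Subgroup.commutator_bot_left]
    · exact (Subgroup.commutator_mono (Subgroup.commutator_mono inf_le_left le_rfl) le_rfl).trans hUO'.le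
  have hDR : D ≤ ⁅W1, R⁆ := by
    haveI : (⁅W1, R⁆).Normal := Subgroup.commutator_normal W1 R
    conv_lhs => rw [hDdef, ← hfix]
    refine CharP.three_subgroups_le (le_top : ⁅W1, R⁆ ≤ ⊤) (htop _) le_top le_top le_top ?_ ?_
    · rw [Subgroup.commutator_comm O Q, ← hR, Subgroup.commutator_comm]
    · rw [Subgroup.commutator_comm Q W1]
      have : ⁅D, O⁆ = ⊥ := by
        rw [Subgroup.commutator_comm, Subgroup.commutator_eq_bot_iff_le_centralizer]
        exact hON.trans (Subgroup.centralizer_le hDN)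
      rw [← hDdef, this]; exact bot_le
  -- a subgroup `D'` of index two in `D`
  have hDS : D ≤ (S : Subgroup G) := hDN.trans (hNW.trans (hWQ.trans hQS))
  haveI : (D.subgroupOf (S : Subgroup G)).Normal := (inferInstance : D.Normal).subgroupOf _
  obtain ⟨M₀, hM₀n, hM₀le, hM₀c⟩ := PGroups.exists_normal_lt_index_prime S.2 (D.subgroupOf (S : Subgroup G)) (by
    rw [Ne, Subgroup.subgroupOf_eq_bot, disjoint_iff, inf_eq_left.2 hDS]; exact hDne)
  set D' := M₀.map (S : Subgroup G).subtype with hD'
  have hD'D : D' ≤ D := by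
    rintro _ ⟨x, hx, rfl⟩
    exact hM₀le hx
  have hD'c : Nat.card D' * 2 = Nat.card D := by
    rw [hD', Subgroup.card_map_of_injective (Subgroup.subtype_injective _), hM₀c,
      Nat.card_congr (Subgroup.subgroupOfEquivOfLe hDS).toEquiv]
  haveI hD'n : D'.Normal := by
    refine normal_of_sylow_odd S ?_ fun x hx => Subgroup.centralizer_le_normalizer _
      (Subgroup.centralizer_le (hD'D.trans hDN) (hON (Transfer.PResidual.mem_pResidual hx)))
    have h1 := Subgroup.le_normalizer_map (S : Subgroup G).subtype (H := M₀)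
    rw [Subgroup.normalizer_eq_top, ← MonoidHom.range_eq_map, Subgroup.range_subtype] at h1
    exact h1
  set π := QuotientGroup.mk' D' with hπ
  have hD2 : Nat.card (D.map π) ≤ 2 := by
    rw [← Subgroup.relIndex_ker, hπ, QuotientGroup.ker_mk']
    have h1 := Subgroup.relIndex_mul_relIndex (⊥ : Subgroup G) D' D bot_le hD'D
    rw [Subgroup.relIndex_bot_left, Subgroup.relIndex_bot_left, ← hD'c] at h1
    exact (Nat.eq_of_mul_eq_mul_left Nat.card_pos h1).le
  -- `C_V(R)`
  set P := (Subgroup.centralizer (R.map π : Set (G ⧸ D'))).comap π with hP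
  haveI : (R.map π).Normal := (inferInstance : R.Normal).map π (QuotientGroup.mk'_surjective D')
  haveI : P.Normal := Subgroup.normal_centralizer.comap π
  set K := W ⊓ P with hK
  haveI : K.Normal := Subgroup.normal_inf_normal W P
  have hcommN : ∀ U : Subgroup G, U ≤ P ↔ ⁅U, R⁆ ≤ D' := by
    intro U
    rw [← QuotientGroup.ker_mk' D', ← hπ, ← Subgroup.map_eq_bot_iff, Subgroup.map_commutator,
      Subgroup.commutator_eq_bot_iff_le_centralizer, Subgroup.map_le_iff_le_comap]
  have hNK : N ≤ K ⊓ W1 := by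
    refine le_inf (le_inf hNW ((hcommN N).2 ?_)) hNW1.le
    have : ⁅N, R⁆ = ⊥ := Subgroup.commutator_eq_bot_iff_le_centralizer.2
      (hNF.trans (Subgroup.le_centralizer_iff.1 hRF))
    rw [this]; exact bot_le
  have hKW1 : K ⊓ W1 = N := by
    haveI : (K ⊓ W1).Normal := Subgroup.normal_inf_normal K W1
    refine (hmax (K ⊓ W1) inferInstance hNK inf_le_right).resolve_right fun heq => ?_
    have h1 : W1 ≤ P := heq.ge.trans (inf_le_left.trans inf_le_right)
    have h2 : D ≤ D' := hDR.trans ((hcommN W1).1 h1)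
    have h3 := Subgroup.card_le_of_le h2
    have : 0 < Nat.card D' := Nat.card_pos
    omega
  have hKF : K ≤ F := by
    refine le_inf inf_le_left (Subgroup.le_centralizer_iff.1 ?_)
    refine Transfer.PResidual.pResidual_le_iff.2 fun x hx => ?_
    refine CharP.mem_centralizer_of_two_step (p := 2) (hQp.to_le (hNW.trans hWQ)) hx (fun u hu => ?_)
      (hON (Transfer.PResidual.mem_pResidual hx))
    rw [← hKW1]
    exact ⟨Subgroup.commutator_le_left K O (Subgroup.commutator_mem_commutator hu
        (Transfer.PResidual.mem_pResidual hx)),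
      Subgroup.commutator_mem_commutator hu.1 (Transfer.PResidual.mem_pResidual hx)⟩
  have hle : (Subgroup.centralizer (R : Set G)).relIndex V ≤ (Subgroup.centralizer (V : Set G)).relIndex R := by
    refine le_trans ?_ (relIndex_pairing_le hV hD2 ((hRQ.trans hQS).trans hn)
      ((Subgroup.commutator_mono hVW le_rfl).trans hWR))
    rw [← Subgroup.inf_relIndex_right P V]
    exact Subgroup.relIndex_le_of_le_left (fun v hv => Subgroup.le_centralizer_iff.1 hRF
      (hKF ⟨hVW hv.2, hv.1⟩)) Subgroup.index_ne_zero_of_finite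
  have hDRbot : ⁅D, R⁆ = ⊥ := Subgroup.commutator_eq_bot_iff_le_centralizer.2
    ((hDN.trans hNF).trans (Subgroup.le_centralizer_iff.1 hRF))
  have hRV : ¬ R ≤ Subgroup.centralizer (V : Set G) := by
    intro hle'
    apply hDne
    have h1 : W ≤ Subgroup.centralizer (R : Set G) := iSup_le fun g => by
      rw [Subgroup.le_centralizer_iff, ← Subgroup.Normal.map_conj_eq R g]
      exact (le_centralizer_map_iff _ (MulAut.conj g).injective R V).2 hle'
    exact le_bot_iff.1 (hDR.trans (Subgroup.commutator_eq_bot_iff_le_centralizer.2 (hW1W.trans h1)).le)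
  have hsq : ∀ r ∈ R, r ^ 2 ∈ Subgroup.centralizer (V : Set G) := by
    intro r hr
    refine Subgroup.mem_centralizer_iff.2 fun v hv => commutatorElement_eq_one_iff_mul_comm.1 ?_
    have hd : ⁅v, r⁆ ∈ D := hWR (Subgroup.commutator_mem_commutator (hVW hv) hr)
    have hdr : r * ⁅v, r⁆ = ⁅v, r⁆ * r :=
      (Subgroup.mem_centralizer_iff.1 (Subgroup.le_centralizer_iff.1
        (Subgroup.commutator_eq_bot_iff_le_centralizer.1 hDRbot) hr) _ hd).symm
    have e : ⁅v, r ^ 2⁆ = ⁅v, r⁆ * (r * ⁅v, r⁆ * r⁻¹) := by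
      simp only [commutatorElement_def, pow_two]; group
    rw [e, hdr, mul_inv_cancel_right, ← pow_two]
    exact hWel.2 _ (hNW (hDN hd))
  have hRR : ⁅R, R⁆ ≤ Subgroup.centralizer (V : Set G) := by
    refine le_trans ?_ (Subgroup.centralizer_le hVW)
    rw [← Subgroup.commutator_eq_bot_iff_le_centralizer, eq_bot_iff]
    refine CharP.three_subgroups_le (le_top : (⊥ : Subgroup G) ≤ ⊤) (htop ⊥) le_top le_top le_top ?_ ?_
    · rw [Subgroup.commutator_comm R W]
      exact (Subgroup.commutator_mono hWR le_rfl).trans hDRbot.le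
    · exact (Subgroup.commutator_mono hWR le_rfl).trans hDRbot.le
  obtain ⟨h1, -⟩ := hp R (hRQ.trans hQS) hRR hsq hRV
  set i := (Subgroup.centralizer (V : Set G)).relIndex R
  set j := (Subgroup.centralizer (R : Set G)).relIndex V
  have hRc : Nat.card R = i * Nat.card ↥(R ⊓ Subgroup.centralizer (V : Set G)) := by
    have h := Subgroup.relIndex_mul_relIndex (⊥ : Subgroup G) (R ⊓ Subgroup.centralizer (V : Set G)) R
      bot_le inf_le_left
    rw [Subgroup.relIndex_bot_left, Subgroup.relIndex_bot_left, Subgroup.inf_relIndex_left] at h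
    rw [← h]; ring
  rw [hRc, ← SFourFree.relIndex_centralizer_mul_card V R] at h1
  apply absurd h1
  push Not
  calc (j * Nat.card (fixOn V R)) ^ 2 * Nat.card ↥(R ⊓ Subgroup.centralizer (V : Set G)) ^ 3
      ≤ i ^ 3 * (Nat.card (fixOn V R) ^ 2 * Nat.card ↥(R ⊓ Subgroup.centralizer (V : Set G)) ^ 3) := by
        rw [mul_pow, mul_assoc]
        refine Nat.mul_le_mul_right _ ((Nat.pow_le_pow_left hle 2).trans
          (Nat.pow_le_pow_right (Nat.pos_of_ne_zero Subgroup.index_ne_zero_of_finite) (by norm_num)))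
    _ = _ := by ring

end Cfsg.Agent.Lib.GlaubermanTwo54
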