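import Cfsg.Prelude.Def_LocalEven
import Cfsg.Agent.Lib.PGroups.Thompson
import Cfsg.Agent.Lib.PLocal.Action
import Cfsg.Agent.Lib.PLocal.Replacement

/-!
# E-groups and `Ĵ` inside an ambient group

Owner: helper54.
-/

set_option autoImplicit false
set_option linter.unusedSectionVars false

namespace Cfsg.Agent.Lib.GlaubermanTwo54

open PLocal

variable {G H : Type*} [Group G] [Group H]

/-- The property of `V` occurring in the definition of an E-group, asked of the subgroups of `U`. -/
def EProp (V U : Subgroup G) : Prop :=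
  ∀ R : Subgroup G, R ≤ U → ⁅R, R⁆ ≤ Subgroup.centralizer (V : Set G) →
    (∀ r ∈ R, r ^ 2 ∈ Subgroup.centralizer (V : Set G)) → ¬ R ≤ Subgroup.centralizer (V : Set G) →
      (Nat.card V) ^ 2 * (Nat.card ↥(R ⊓ Subgroup.centralizer (V : Set G))) ^ 3 >
          (Nat.card R) ^ 3 * (Nat.card ↥(V ⊓ Subgroup.centralizer (R : Set G))) ^ 2 ∧
        Nat.card ↥⁅V, R⁆ * Nat.card ↥(R ⊓ Subgroup.centralizer (V : Set G)) > Nat.card R

/-- `U` is an E-group, stated inside the ambient group. -/
def EGrpIn (U : Subgroup G) : Prop :=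
  ∀ V : Subgroup G, V ≤ U → U ≤ Subgroup.normalizer (V : Set G) → Cfsg.IsElementaryAbelian 2 V →
    EProp V U → U ≤ Subgroup.centralizer (V : Set G)

/-- `Ĵ(P)` inside the ambient group. -/
def jHatOf (P : Subgroup G) : Subgroup G := (Cfsg.jHat ↥P).map P.subtype

theorem EProp.mono {V U U' : Subgroup G} (h : U ≤ U') (hV : EProp V U') : EProp V U :=
  fun R hR => hV R (hR.trans h)

theorem centralizer_map_comap (f : G →* H) (hf : Function.Injective f) (U : Subgroup G) :
    (Subgroup.centralizer ((U.map f : Subgroup H) : Set H)).comap f = Subgroup.centralizer (U : Set G) := by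
  ext x
  simp only [Subgroup.mem_comap, Subgroup.mem_centralizer_iff, Subgroup.coe_map, Set.forall_mem_image,
    ← map_mul]
  exact forall₂_congr fun z _ => hf.eq_iff

theorem map_inf_centralizer (f : G →* H) (hf : Function.Injective f) (U V : Subgroup G) :
    (U ⊓ Subgroup.centralizer (V : Set G)).map f =
      U.map f ⊓ Subgroup.centralizer ((V.map f : Subgroup H) : Set H) := by
  conv_lhs => rw [← centralizer_map_comap f hf V, Subgroup.map_inf _ _ _ hf, Subgroup.map_comap_eq]
  rw [← inf_assoc, inf_eq_left.2 (Subgroup.map_le_range f U)]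

theorem le_centralizer_map_iff (f : G →* H) (hf : Function.Injective f) (U V : Subgroup G) :
    U.map f ≤ Subgroup.centralizer ((V.map f : Subgroup H) : Set H) ↔
      U ≤ Subgroup.centralizer (V : Set G) := by
  rw [Subgroup.map_le_iff_le_comap, centralizer_map_comap f hf]

theorem eprop_map_iff (f : G →* H) (hf : Function.Injective f) (V U : Subgroup G) :
    EProp (V.map f) (U.map f) ↔ EProp V U := by
  have hc : ∀ A : Subgroup G, Nat.card (A.map f) = Nat.card A := fun A => Subgroup.card_map_of_injective hf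
  have hm : ∀ (R : Subgroup G) (r : G), f r ∈ Subgroup.centralizer ((R.map f : Subgroup H) : Set H) ↔
      r ∈ Subgroup.centralizer (R : Set G) := fun R r => by
    rw [← Subgroup.mem_comap, centralizer_map_comap f hf]
  constructor
  · intro h R hR h1 h2 h3
    have := h (R.map f) (Subgroup.map_mono hR)
      (by rw [← Subgroup.map_commutator, le_centralizer_map_iff f hf]; exact h1)
      (by rintro _ ⟨r, hr, rfl⟩; rw [← map_pow, hm]; exact h2 r hr)
      (by rw [le_centralizer_map_iff f hf]; exact h3)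
    rwa [← map_inf_centralizer f hf, ← map_inf_centralizer f hf, ← Subgroup.map_commutator, hc, hc, hc, hc, hc]
      at this
  · intro h R hR h1 h2 h3
    have hRr : (R.comap f).map f = R :=
      Subgroup.map_comap_eq_self (hR.trans (Subgroup.map_le_range f U))
    rw [← hRr] at h1 h2 h3 ⊢
    rw [← Subgroup.map_commutator, le_centralizer_map_iff f hf] at h1
    rw [le_centralizer_map_iff f hf] at h3
    have := h (R.comap f) (by
      rw [← Subgroup.map_le_map_iff_of_injective hf, hRr]; exact hR) h1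
      (fun r hr => (hm V _).1 (by rw [map_pow]; exact h2 _ ⟨r, hr, rfl⟩)) h3
    rwa [← map_inf_centralizer f hf, ← map_inf_centralizer f hf, ← Subgroup.map_commutator, hc, hc, hc, hc, hc]

theorem le_normalizer_map_iff (f : G →* H) (hf : Function.Injective f) (U V : Subgroup G) :
    U.map f ≤ Subgroup.normalizer ((V.map f : Subgroup H) : Set H) ↔
      U ≤ Subgroup.normalizer (V : Set G) := by
  refine ⟨fun h x hx => Subgroup.mem_normalizer_iff.2 fun y => ?_, fun h =>
    (Subgroup.map_mono h).trans (Subgroup.le_normalizer_map f)⟩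
  have := Subgroup.mem_normalizer_iff.1 (h ⟨x, hx, rfl⟩) (f y)
  rwa [← map_inv, ← map_mul, ← map_mul, Subgroup.mem_map_iff_mem hf, Subgroup.mem_map_iff_mem hf] at this

theorem egrpIn_map_iff (f : G →* H) (hf : Function.Injective f) (U : Subgroup G) :
    EGrpIn (U.map f) ↔ EGrpIn U := by
  constructor
  · intro h V hV hn he hp
    exact (le_centralizer_map_iff f hf U V).1 (h (V.map f) (Subgroup.map_mono hV)
      ((le_normalizer_map_iff f hf U V).2 hn) (PGroups.elemAb_map f he) ((eprop_map_iff f hf V U).2 hp))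
  · intro h V hV hn he hp
    have hVr : (V.comap f).map f = V :=
      Subgroup.map_comap_eq_self (hV.trans (Subgroup.map_le_range f U))
    rw [← hVr] at hn hp ⊢
    refine (le_centralizer_map_iff f hf U _).2 (h _ ?_ ((le_normalizer_map_iff f hf U _).1 hn)
      (PGroups.elemAb_comap f hf he) ((eprop_map_iff f hf _ U).1 hp))
    rw [← Subgroup.map_le_map_iff_of_injective hf, hVr]; exact hV

theorem isEGroup_iff_top : Cfsg.IsEGroup G ↔ EGrpIn (⊤ : Subgroup G) := by
  constructor
  · intro h V _ hn he hp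
    have := h V (Subgroup.normalizer_eq_top_iff.1 (top_le_iff.1 hn)) he fun R => hp R le_top
    intro x _
    exact Subgroup.mem_centralizer_iff.2 fun v hv => (Subgroup.mem_center_iff.1 (this hv) x).symm
  · intro h V hVn he hp v hv
    haveI := hVn
    have := h V le_top (by rw [Subgroup.normalizer_eq_top]) he fun R _ => hp R
    exact Subgroup.mem_center_iff.2 fun x =>
      (Subgroup.mem_centralizer_iff.1 (this (Subgroup.mem_top x)) v hv).symm

theorem isEGroup_iff {P : Subgroup G} (U : Subgroup ↥P) :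
    Cfsg.IsEGroup ↥U ↔ EGrpIn (U.map P.subtype) := by
  rw [isEGroup_iff_top, ← egrpIn_map_iff U.subtype U.subtype_injective ⊤,
    ← egrpIn_map_iff P.subtype P.subtype_injective, ← MonoidHom.range_eq_map, Subgroup.range_subtype]

theorem jHatOf_eq (P : Subgroup G) :
    jHatOf P = sSup {U : Subgroup G | U ≤ P ∧ EGrpIn U ∧ Cfsg.thompsonSubgroupOf 2 P ≤ U} := by
  have himg : {U : Subgroup G | U ≤ P ∧ EGrpIn U ∧ Cfsg.thompsonSubgroupOf 2 P ≤ U} =
      Subgroup.map P.subtype '' {U : Subgroup ↥P | Cfsg.IsEGroup U ∧ Cfsg.thompsonSubgroup 2 ↥P ≤ U} := by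
    ext U
    constructor
    · rintro ⟨hUP, hU, hJ⟩
      refine ⟨U.subgroupOf P, ⟨?_, ?_⟩, Subgroup.map_subgroupOf_eq_of_le hUP⟩
      · rw [isEGroup_iff, Subgroup.map_subgroupOf_eq_of_le hUP]; exact hU
      · rw [← Subgroup.map_le_map_iff_of_injective P.subtype_injective,
          Subgroup.map_subgroupOf_eq_of_le hUP]
        exact hJ
    · rintro ⟨U', ⟨hU, hJ⟩, rfl⟩
      exact ⟨Subgroup.map_subtype_le _, (isEGroup_iff U').1 hU, Subgroup.map_mono hJ⟩
  rw [himg, sSup_image, jHatOf, Cfsg.jHat, (Subgroup.gc_map_comap P.subtype).l_sSup]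

theorem jHatOf_le (P : Subgroup G) : jHatOf P ≤ P := Subgroup.map_subtype_le _

theorem map_jHatOf (f : G →* H) (hf : Function.Injective f) (P : Subgroup G) :
    (jHatOf P).map f = jHatOf (P.map f) := by
  have himg : {U : Subgroup H | U ≤ P.map f ∧ EGrpIn U ∧ Cfsg.thompsonSubgroupOf 2 (P.map f) ≤ U} =
      Subgroup.map f '' {U : Subgroup G | U ≤ P ∧ EGrpIn U ∧ Cfsg.thompsonSubgroupOf 2 P ≤ U} := by
    ext U
    rw [← PGroups.map_thompsonSubgroupOf f hf]
    constructor
    · rintro ⟨hUP, hU, hJ⟩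
      have hUr : (U.comap f).map f = U :=
        Subgroup.map_comap_eq_self (hUP.trans (Subgroup.map_le_range f P))
      rw [← hUr] at hUP hU hJ
      exact ⟨U.comap f, ⟨(Subgroup.map_le_map_iff_of_injective hf).1 hUP, (egrpIn_map_iff f hf _).1 hU,
        (Subgroup.map_le_map_iff_of_injective hf).1 hJ⟩, hUr⟩
    · rintro ⟨U', ⟨h1, h2, h3⟩, rfl⟩
      exact ⟨Subgroup.map_mono h1, (egrpIn_map_iff f hf _).2 h2, Subgroup.map_mono h3⟩
  rw [jHatOf_eq, jHatOf_eq, himg, sSup_image, (Subgroup.gc_map_comap f).l_sSup]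

theorem normalizer_le_normalizer_jHatOf (P : Subgroup G) :
    Subgroup.normalizer (P : Set G) ≤ Subgroup.normalizer (jHatOf P : Set G) := fun g hg =>
  PGroups.mem_normalizer_of_map_conj_eq (by
    rw [map_jHatOf _ (MulAut.conj g).injective, PGroups.map_conj_eq_of_mem_normalizer hg])

section Finite

variable [Finite G] {P Q : Subgroup G}

/-- A subgroup of largest order centralises `V` when it does not offend. -/
theorem maxElemAb_le_centralizer {V A : Subgroup G} (hV : Cfsg.IsElementaryAbelian 2 V) (hVP : V ≤ P)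
    (hA : A ∈ PGroups.maxElemAbIn 2 P)
    (hp : ¬ A ≤ Subgroup.centralizer (V : Set G) →
      Nat.card A ^ 3 * Nat.card ↥(V ⊓ Subgroup.centralizer (A : Set G)) ^ 2 <
        Nat.card V ^ 2 * Nat.card ↥(A ⊓ Subgroup.centralizer (V : Set G)) ^ 3) :
    A ≤ Subgroup.centralizer (V : Set G) := by
  by_contra hne
  have h := hp hne
  set B := A ⊓ Subgroup.centralizer (V : Set G) with hB
  have hBV : Cfsg.IsElementaryAbelian 2 (B ⊔ V : Subgroup G) :=
    PGroups.elemAb_sup (PGroups.elemAb_mono hA.2.1 inf_le_left) hV fun b hb v hv =>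
      (Subgroup.mem_centralizer_iff.1 hb.2 v hv).symm
  have hn : B ≤ Subgroup.normalizer (V : Set G) :=
    inf_le_right.trans (Subgroup.centralizer_le_normalizer _)
  have h1 := card_sup_mul_card_inf hn
  have h2 : Nat.card ↥(B ⊓ V) ≤ Nat.card ↥(V ⊓ Subgroup.centralizer (A : Set G)) :=
    Subgroup.card_le_of_le fun x hx => ⟨hx.2, Subgroup.mem_centralizer_iff.2 fun a ha =>
      PGroups.elemAb_comm hA.2.1 ha hx.1.1⟩
  have h3 : Nat.card B * Nat.card V ≤ Nat.card A * Nat.card ↥(V ⊓ Subgroup.centralizer (A : Set G)) := by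
    rw [← h1]
    exact Nat.mul_le_mul (hA.2.2 _ (sup_le (inf_le_left.trans hA.1) hVP) hBV) h2
  have h4 : Nat.card B ≤ Nat.card A := Subgroup.card_le_of_le inf_le_left
  have h5 := Nat.mul_le_mul (Nat.pow_le_pow_left h3 2) h4
  apply absurd h
  push Not
  calc Nat.card V ^ 2 * Nat.card B ^ 3 = (Nat.card B * Nat.card V) ^ 2 * Nat.card B := by ring
    _ ≤ _ := h5
    _ = _ := by ring

/-- An elementary abelian subgroup centralised by `J(P)` lies in it. -/
theorem le_thompson_of_centralized {V : Subgroup G} (hV : Cfsg.IsElementaryAbelian 2 V) (hVP : V ≤ P)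
    (h : Cfsg.thompsonSubgroupOf 2 P ≤ Subgroup.centralizer (V : Set G)) :
    V ≤ Cfsg.thompsonSubgroupOf 2 P := by
  obtain ⟨A, hA⟩ := PGroups.maxElemAbIn_nonempty 2 P
  have hAc := (PGroups.le_thompsonSubgroupOf hA).trans h
  have hE : Cfsg.IsElementaryAbelian 2 (A ⊔ V : Subgroup G) :=
    PGroups.elemAb_sup hA.2.1 hV fun a ha v hv => (Subgroup.mem_centralizer_iff.1 (hAc ha) v hv).symm
  have h1 := hA.2.2 _ (sup_le hA.1 hVP) hE
  have h2 : A = A ⊔ V := Subgroup.eq_of_le_of_card_ge le_sup_left h1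
  exact le_sup_right.trans (h2.ge.trans (PGroups.le_thompsonSubgroupOf hA))

theorem egrpIn_thompson : EGrpIn (Cfsg.thompsonSubgroupOf 2 P) := by
  intro V hV _ he hp
  conv_lhs => rw [PGroups.thompsonSubgroupOf_eq]
  refine sSup_le fun A hA => ?_
  refine maxElemAb_le_centralizer he (hV.trans (PGroups.thompsonSubgroupOf_le 2 P)) hA fun hne => ?_
  refine (hp A (PGroups.le_thompsonSubgroupOf hA) ?_ ?_ hne).1
  · rw [Subgroup.commutator_le]
    intro a ha b hb
    rw [commutatorElement_eq_one_iff_mul_comm.2 (PGroups.elemAb_comm hA.2.1 ha hb)]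
    exact one_mem _
  · intro a ha; rw [hA.2.1.2 a ha]; exact one_mem _

theorem thompson_le_jHatOf : Cfsg.thompsonSubgroupOf 2 P ≤ jHatOf P := by
  rw [jHatOf_eq]
  exact le_sSup ⟨PGroups.thompsonSubgroupOf_le 2 P, egrpIn_thompson, le_rfl⟩

theorem jHatOf_eq_of_le (hQP : Q ≤ P) (h : jHatOf P ≤ Q) : jHatOf Q = jHatOf P := by
  have hJ := PGroups.thompsonSubgroupOf_eq_of_le hQP (thompson_le_jHatOf.trans h)
  rw [jHatOf_eq Q, hJ, jHatOf_eq P]
  refine le_antisymm (sSup_le_sSup fun U hU => ⟨hU.1.trans hQP, hU.2⟩) (sSup_le fun U hU => le_sSup ⟨?_, hU.2⟩)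
  refine le_trans ?_ h
  rw [jHatOf_eq]; exact le_sSup hU

/-- `Ĵ(P)` centralises a subgroup of `J(P)` having the property. -/
theorem jHatOf_le_centralizer {V : Subgroup G} (hV : Cfsg.IsElementaryAbelian 2 V)
    (hVJ : V ≤ Cfsg.thompsonSubgroupOf 2 P) (hn : P ≤ Subgroup.normalizer (V : Set G)) (hp : EProp V P) :
    jHatOf P ≤ Subgroup.centralizer (V : Set G) := by
  rw [jHatOf_eq]
  exact sSup_le fun U hU => hU.2.1 V (hVJ.trans hU.2.2) (hU.1.trans hn) hV (hp.mono hU.1)

end Finite

end Cfsg.Agent.Lib.GlaubermanTwo54
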