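import Cfsg.Agent.Lib.GlaubermanTwo54.NoTransv
import Cfsg.Agent.Lib.GlaubermanTwo54.EGroup
import Cfsg.Agent.Lib.SFourFree.Normal
import Cfsg.Agent.Lib.CharP.Basic

/-!
# The first two factorisations `G = C(Z(S)) N(J(S)) = C(Z(S)) N(Ĵ(S))`

Owner: helper54.
-/

set_option autoImplicit false
set_option linter.style.haveILetI false
set_option linter.unusedSectionVars false

namespace Cfsg.Agent.Lib.GlaubermanTwo54

open PLocal
open scoped commutatorElement

universe u

variable {G : Type u} [Group G]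

/-- Characteristic 2, `Sym(4)`-free, composition factors of the two families or of odd order. -/
structure Hyp (G : Type u) [Group G] : Prop where
  c2 : Subgroup.centralizer (Cfsg.pCore 2 G : Set G) ≤ Cfsg.pCore 2 G
  free : ¬ Cfsg.Involves (Equiv.Perm (Fin 4)) G
  comp : Cfsg.IsCompositionKGroupWith (fun (X : Type u) [Group X] => TypOdd X) G

theorem comp_of_two_group {X : Type u} [Group X] [Finite X] (h : IsPGroup 2 X) :
    Cfsg.IsCompositionKGroupWith (fun (Y : Type u) [Group Y] => TypOdd Y) X := by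
  haveI : Fact (Nat.Prime 2) := ⟨Nat.prime_two⟩
  intro H _ N _ hs hna
  haveI := ((h.to_subgroup H).to_quotient N).isNilpotent
  exact (KnownSimple.not_isSolvable_of_simple hs hna inferInstance).elim

theorem comp_of_odd {X : Type u} [Group X] [Finite X] (h : Odd (Nat.card X)) :
    Cfsg.IsCompositionKGroupWith (fun (Y : Type u) [Group Y] => TypOdd Y) X :=
  fun H _ N _ _ _ => Or.inr (h.of_dvd_nat
    ((Subgroup.card_quotient_dvd_card N).trans (Subgroup.card_subgroup_dvd_card H)))

theorem free_subgroup (h : ¬ Cfsg.Involves (Equiv.Perm (Fin 4)) G) (U : Subgroup G) :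
    ¬ Cfsg.Involves (Equiv.Perm (Fin 4)) ↥U := fun h' =>
  h (Transfer.InvolvesS4.involves_of_injective U.subtype U.subtype_injective h')

section Finite

variable [Finite G]

theorem charP_overgroup (hc2 : Subgroup.centralizer (Cfsg.pCore 2 G : Set G) ≤ Cfsg.pCore 2 G)
    {U : Subgroup G} (hU : Cfsg.pCore 2 G ≤ U) :
    Subgroup.centralizer (Cfsg.pCore 2 U : Set U) ≤ Cfsg.pCore 2 U := by
  haveI : Fact (Nat.Prime 2) := ⟨Nat.prime_two⟩
  exact CharP.charP_of_pCoreOf_le (CharP.charP_of_isSubnormal hc2 Subgroup.IsSubnormal.top) le_top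
    (by rw [CharP.pCoreOf_top]; exact hU)

theorem pCore_le_normalizer (U : Subgroup G) [U.Normal] (P : Subgroup G) :
    P ≤ Subgroup.normalizer (U : Set G) := fun x _ => by rw [Subgroup.normalizer_eq_top]; trivial

/-- `N S` satisfies the hypotheses. -/
theorem Hyp.normal_sup (h : Hyp G) (S : Sylow 2 G) (N : Subgroup G) [N.Normal] :
    Hyp ↥(N ⊔ (S : Subgroup G)) := by
  haveI : Fact (Nat.Prime 2) := ⟨Nat.prime_two⟩
  set U := N ⊔ (S : Subgroup G)
  refine ⟨charP_overgroup h.c2 ((Cores.pCore_le_sylow S).trans le_sup_right), free_subgroup h.free U, ?_⟩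
  refine KnownSimple.compKGroup_extension isoInvariant_typOdd (N.subgroupOf U)
    ((KnownSimple.compKGroup_congr isoInvariant_typOdd (Subgroup.subgroupOfEquivOfLe le_sup_left)).2
      (KnownSimple.compKGroup_subgroup isoInvariant_typOdd h.comp
        (inferInstance : N.Normal).isSubnormal)) (comp_of_two_group ?_)
  refine S.2.of_surjective ((QuotientGroup.mk' (N.subgroupOf U)).comp
    (Subgroup.inclusion (le_sup_right : (S : Subgroup G) ≤ U))) ?_
  intro q
  obtain ⟨x, rfl⟩ := QuotientGroup.mk'_surjective _ q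
  have hx : (x : G) ∈ ((N ⊔ (S : Subgroup G) : Subgroup G) : Set G) := x.2
  rw [Subgroup.normal_mul] at hx
  obtain ⟨n, hn, s, hs, hns⟩ := hx
  refine ⟨⟨s, hs⟩, QuotientGroup.eq.2 ?_⟩
  show s⁻¹ * (x : G) ∈ N
  rw [← hns, ← mul_assoc]
  simpa using (inferInstance : N.Normal).conj_mem n hn s⁻¹

/-- `N(S ∩ N)` satisfies the hypotheses. -/
theorem Hyp.normalizer_inf (h : Hyp G) (S : Sylow 2 G) (N : Subgroup G) [N.Normal] :
    Hyp ↥(Subgroup.normalizer (((S : Subgroup G) ⊓ N : Subgroup G) : Set G)) := by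
  haveI : Fact (Nat.Prime 2) := ⟨Nat.prime_two⟩
  set T := (S : Subgroup G) ⊓ N with hT
  set M := Subgroup.normalizer (T : Set G) with hM
  have hSM : (S : Subgroup G) ≤ M := (le_inf Subgroup.le_normalizer (pCore_le_normalizer N _)).trans
    Subgroup.inf_normalizer_le_normalizer_inf
  refine ⟨charP_overgroup h.c2 ((Cores.pCore_le_sylow S).trans hSM), free_subgroup h.free M, ?_⟩
  have hN : Cfsg.IsCompositionKGroupWith (fun (Y : Type u) [Group Y] => TypOdd Y) ↥(N ⊓ M) := by
    have hTle : T ≤ N ⊓ M := le_inf inf_le_right Subgroup.le_normalizer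
    haveI : (T.subgroupOf (N ⊓ M)).Normal :=
      (Subgroup.normal_subgroupOf_iff_le_normalizer hTle).2 inf_le_right
    refine KnownSimple.compKGroup_extension isoInvariant_typOdd (T.subgroupOf (N ⊓ M))
      (comp_of_two_group ((S.2.to_le inf_le_left).of_equiv (Subgroup.subgroupOfEquivOfLe hTle).symm))
      (comp_of_odd ?_)
    rw [← Subgroup.index_eq_card, Nat.odd_iff]
    by_contra hev
    apply PLocal.not_dvd_relIndex_inf S N
    have h1 := Subgroup.relIndex_mul_relIndex T (N ⊓ M) N hTle inf_le_left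
    rw [← hT, ← h1]
    exact Dvd.dvd.mul_right (Nat.dvd_of_mod_eq_zero (by
      have : (T.subgroupOf (N ⊓ M)).index = T.relIndex (N ⊓ M) := rfl
      omega)) _
  let f : ↥M →* G ⧸ N := (QuotientGroup.mk' N).comp M.subtype
  have hf : Function.Surjective f := by
    intro q
    obtain ⟨g, rfl⟩ := QuotientGroup.mk'_surjective N q
    have hg : g ∈ N ⊔ M := by rw [sup_comm, hM, hT, normalizer_inf_sup_eq_top]; trivial
    obtain ⟨n, hn, m, hm, rfl⟩ := Subgroup.mem_sup_of_normal_left.mp hg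
    exact ⟨⟨m, hm⟩, by
      show QuotientGroup.mk' N m = _
      rw [map_mul, show QuotientGroup.mk' N n = 1 from (QuotientGroup.eq_one_iff n).2 hn, one_mul]⟩
  have hker : f.ker = (N ⊓ M).subgroupOf M := by
    ext x
    rw [MonoidHom.mem_ker, Subgroup.mem_subgroupOf, Subgroup.mem_inf]
    exact (QuotientGroup.eq_one_iff (x : G)).trans ⟨fun hx => ⟨hx, x.2⟩, fun hx => hx.1⟩
  refine KnownSimple.compKGroup_extension isoInvariant_typOdd f.ker ?_
    ((KnownSimple.compKGroup_congr isoInvariant_typOdd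
      (QuotientGroup.quotientKerEquivOfSurjective f hf)).2
      (KnownSimple.compKGroup_quotient isoInvariant_typOdd h.comp N))
  exact (KnownSimple.compKGroup_congr isoInvariant_typOdd
    ((MulEquiv.subgroupCongr hker).trans (Subgroup.subgroupOfEquivOfLe inf_le_right))).2 hN

/-- A normal subgroup `C ≤ D` containing the elements of odd order of `D` has 2-power index in it. -/
theorem relIndex_pow_of_odd_mem {C D : Subgroup G} [C.Normal]
    (h : ∀ x ∈ D, Odd (orderOf x) → x ∈ C) : ∃ k, C.relIndex D = 2 ^ k := by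
  haveI : Fact (Nat.Prime 2) := ⟨Nat.prime_two⟩
  have hp : IsPGroup 2 (D.map (QuotientGroup.mk' C)) := by
    rintro ⟨_, x, hx, rfl⟩
    obtain ⟨a, b, -, hb', hab, -, ⟨j, hj⟩, hb⟩ :=
      Transfer.PResidual.exists_pPart_mul_pPrimePart (p := 2) x (isOfFinOrder_of_finite x)
    refine ⟨j, Subtype.ext ?_⟩
    show (QuotientGroup.mk' C x) ^ 2 ^ j = 1
    rw [← hab, map_mul, show QuotientGroup.mk' C b = 1 from (QuotientGroup.eq_one_iff b).2
      (h b ((Subgroup.zpowers_le.2 hx) hb') (Nat.coprime_two_right.1 hb)), mul_one, ← map_pow, hj, map_one]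
  obtain ⟨k, hk⟩ := hp.exists_card_eq
  exact ⟨k, by rw [← hk, ← Subgroup.relIndex_ker, QuotientGroup.ker_mk']⟩

/-- The bound gives the E-property. -/
theorem eprop_of_reduced' (hfree : ¬ Cfsg.Involves (Equiv.Perm (Fin 4)) G)
    (hcomp : Cfsg.IsCompositionKGroupWith (fun (X : Type u) [Group X] => TypOdd X) G)
    (V : Subgroup G) [V.Normal] (hV : Cfsg.IsElementaryAbelian 2 V)
    (hred : Cfsg.pCore 2 (G ⧸ Subgroup.centralizer (V : Set G)) = ⊥) : EProp V ⊤ := by
  intro R _ hc hs hne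
  obtain ⟨h1, h2⟩ := reduced_bound V hfree hcomp hV hred R
    (fun a ha b hb => hc (Subgroup.commutator_mem_commutator ha hb))
    (fun a ha => by rw [← pow_two]; exact hs a ha)
  set i := (Subgroup.centralizer (V : Set G)).relIndex R
  set r := Nat.card ↥(R ⊓ Subgroup.centralizer (V : Set G))
  have hi : 2 ≤ i := by
    have h0 : i ≠ 0 := Subgroup.index_ne_zero_of_finite
    have h1' : i ≠ 1 := fun h => hne (Subgroup.relIndex_eq_one.1 h)
    omega
  have hR : Nat.card R = i * r := by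
    have h := Subgroup.relIndex_mul_relIndex (⊥ : Subgroup G) (R ⊓ Subgroup.centralizer (V : Set G)) R
      bot_le inf_le_left
    rw [Subgroup.relIndex_bot_left, Subgroup.relIndex_bot_left, Subgroup.inf_relIndex_left] at h
    rw [← h]; ring
  have hr : 0 < r := Nat.card_pos
  have hc0 : 0 < Nat.card (fixOn V R) := Nat.card_pos
  rw [hR]
  refine ⟨?_, ?_⟩
  · show (i * r) ^ 3 * Nat.card (fixOn V R) ^ 2 < Nat.card V ^ 2 * r ^ 3
    calc (i * r) ^ 3 * Nat.card (fixOn V R) ^ 2 = r ^ 3 * (i ^ 3 * Nat.card (fixOn V R) ^ 2) := by ring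
      _ < r ^ 3 * (i ^ 4 * Nat.card (fixOn V R) ^ 2) := by
        refine Nat.mul_lt_mul_of_pos_left (Nat.mul_lt_mul_of_pos_right ?_ (pow_pos hc0 2)) (pow_pos hr 3)
        exact Nat.pow_lt_pow_right hi (by norm_num)
      _ = r ^ 3 * (i ^ 2 * Nat.card (fixOn V R)) ^ 2 := by ring
      _ ≤ r ^ 3 * Nat.card V ^ 2 := Nat.mul_le_mul_left _ (Nat.pow_le_pow_left h1 2)
      _ = _ := by ring
  · calc i * r < i ^ 2 * r := Nat.mul_lt_mul_of_pos_right (by nlinarith) hr
      _ ≤ _ := Nat.mul_le_mul_right _ h2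

theorem eprop_of_reduced (h : Hyp G) (V : Subgroup G) [V.Normal] (hV : Cfsg.IsElementaryAbelian 2 V)
    (hred : Cfsg.pCore 2 (G ⧸ Subgroup.centralizer (V : Set G)) = ⊥) : EProp V ⊤ :=
  eprop_of_reduced' h.free h.comp V hV hred

/-- `J(P)` centralises a subgroup with the property. -/
theorem thompson_le_centralizer {P V : Subgroup G} (hV : Cfsg.IsElementaryAbelian 2 V) (hVP : V ≤ P)
    (hp : EProp V P) : Cfsg.thompsonSubgroupOf 2 P ≤ Subgroup.centralizer (V : Set G) := by
  rw [PGroups.thompsonSubgroupOf_eq]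
  refine sSup_le fun A hA => maxElemAb_le_centralizer hV hVP hA fun hne => (hp A hA.1 ?_ ?_ hne).1
  · rw [Subgroup.commutator_le]
    intro a ha b hb
    rw [commutatorElement_eq_one_iff_mul_comm.2 (PGroups.elemAb_comm hA.2.1 ha hb)]
    exact one_mem _
  · intro a ha; rw [hA.2.1.2 a ha]; exact one_mem _

/-- `G = C N(X)`. -/
theorem factor (S : Sylow 2 G) (C : Subgroup G) [C.Normal] {X : Subgroup G}
    (hX : Subgroup.normalizer (((S : Subgroup G) ⊓ C : Subgroup G) : Set G) ≤
      Subgroup.normalizer (X : Set G)) (g : G) :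
    ∃ c ∈ C, ∃ n ∈ Subgroup.normalizer (X : Set G), g = c * n := by
  haveI : Fact (Nat.Prime 2) := ⟨Nat.prime_two⟩
  have hg : g ∈ C ⊔ Subgroup.normalizer (((S : Subgroup G) ⊓ C : Subgroup G) : Set G) := by
    rw [sup_comm, normalizer_inf_sup_eq_top]; trivial
  obtain ⟨c, hc, n, hn, rfl⟩ := Subgroup.mem_sup_of_normal_left.mp hg
  exact ⟨c, hc, n, hX hn, rfl⟩

theorem normalizer_inf_le_thompson {P C : Subgroup G} (h : Cfsg.thompsonSubgroupOf 2 P ≤ C) :
    Subgroup.normalizer ((P ⊓ C : Subgroup G) : Set G) ≤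
      Subgroup.normalizer (Cfsg.thompsonSubgroupOf 2 P : Set G) := by
  rw [← PGroups.thompsonSubgroupOf_eq_of_le (inf_le_left : P ⊓ C ≤ P)
    (le_inf (PGroups.thompsonSubgroupOf_le 2 P) h)]
  exact PGroups.normalizer_le_normalizer_thompson _

theorem normalizer_inf_le_jHat {P C : Subgroup G} (h : jHatOf P ≤ C) :
    Subgroup.normalizer ((P ⊓ C : Subgroup G) : Set G) ≤ Subgroup.normalizer (jHatOf P : Set G) := by
  rw [← jHatOf_eq_of_le (inf_le_left : P ⊓ C ≤ P) (le_inf (jHatOf_le P) h)]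
  exact normalizer_le_normalizer_jHatOf _

/-- The module `Ω₁` of the normal closure of `Z(S)`. -/
theorem exists_module (h : Hyp G) (S : Sylow 2 G) :
    ∃ V : Subgroup G, V.Normal ∧ Cfsg.IsElementaryAbelian 2 V ∧ V ≤ Cfsg.pCore 2 G ∧ EProp V ⊤ ∧
      Subgroup.centralizer (V : Set G) ≤ Subgroup.centralizer
        (((S : Subgroup G) ⊓ Subgroup.centralizer ((S : Subgroup G) : Set G) : Subgroup G) : Set G) := by
  haveI : Fact (Nat.Prime 2) := ⟨Nat.prime_two⟩
  set Q := Cfsg.pCore 2 G with hQ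
  let Z : Sylow 2 G → Subgroup G := fun T =>
    (T : Subgroup G) ⊓ Subgroup.centralizer ((T : Subgroup G) : Set G)
  set V' := ⨆ T, Z T with hV'
  haveI hV'n : V'.Normal := ⟨fun x hx y => by
    have h2 := Subgroup.mem_map_of_mem (MulAut.conj y).toMonoidHom hx
    rw [hV', Subgroup.map_iSup] at h2
    refine (iSup_le fun T => ?_ : _ ≤ V') h2
    refine le_trans (le_of_eq ?_) (le_iSup Z (T.mapSurjective (f := (MulAut.conj y).toMonoidHom)
      (MulAut.conj y).surjective))
    exact PGroups.map_inf_centralizer_of_injective _ (MulAut.conj y).injective _⟩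
  have hV'Q : V' ≤ Q ⊓ Subgroup.centralizer (Q : Set G) := by
    refine iSup_le fun T => ?_
    have hc : Z T ≤ Subgroup.centralizer (Q : Set G) :=
      inf_le_right.trans (Subgroup.centralizer_le (Cores.pCore_le_sylow T))
    exact le_inf (hc.trans h.c2) hc
  have hV'c : IsMulCommutative ↥V' := Subgroup.le_centralizer_iff_isMulCommutative.mp
    ((hV'Q.trans inf_le_right).trans (Subgroup.centralizer_le (hV'Q.trans inf_le_left)))
  set V := Cfsg.omegaOne 2 V' with hV
  haveI hVn : V.Normal := PGroups.omegaOne_normal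
  have hVV' : V ≤ V' := PGroups.omegaOne_le 2 V'
  have hodd : ∀ x ∈ Subgroup.centralizer (V : Set G), Odd (orderOf x) →
      x ∈ Subgroup.centralizer (V' : Set G) := by
    intro x hx hxo
    have key : ∀ n : ℕ, ∀ v ∈ V', v ^ 2 ^ n = 1 → x * v * x⁻¹ = v := by
      intro n
      induction n with
      | zero =>
        intro v _ hv
        rw [pow_zero, pow_one] at hv
        rw [hv]; group
      | succ n ih =>
        intro v hv hvn
        have h2 := ih (v ^ 2) (pow_mem hv 2) (by rw [← pow_mul, ← pow_succ']; exact hvn)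
        have hxv : x * v * x⁻¹ ∈ V' := hV'n.conj_mem v hv x
        have hc2 : (x * v * x⁻¹ * v⁻¹) ^ 2 = 1 := by
          rw [(show Commute (x * v * x⁻¹) v⁻¹ from congrArg Subtype.val
            (hV'c.is_comm.comm ⟨_, hxv⟩ ⟨_, inv_mem hv⟩)).mul_pow, conj_pow, h2, inv_pow, mul_inv_cancel]
        have hcV : x * v * x⁻¹ * v⁻¹ ∈ V := PGroups.mem_omegaOne_of_pow (mul_mem hxv (inv_mem hv)) hc2
        refine SFourFree.conj_eq_self_of_odd hxo 1 ?_ (by rw [pow_one]; exact hc2)
        rw [← Subgroup.mem_centralizer_iff.1 hx _ hcV, mul_inv_cancel_right]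
    refine Subgroup.mem_centralizer_iff.2 fun v hv => ?_
    obtain ⟨n, hn⟩ := (Cores.pCore_isPGroup (G := G) 2) ⟨v, (hV'Q hv).1⟩
    exact (mul_inv_eq_iff_eq_mul.1 (key n v hv (congrArg Subtype.val hn))).symm
  have hgen : V' ≤ ⨆ T : Sylow 2 G, V' ⊓ Subgroup.centralizer ((T : Subgroup G) : Set G) :=
    iSup_le fun T => le_iSup_of_le T (le_inf (le_iSup Z T) inf_le_right)
  have hCle : Subgroup.centralizer (V' : Set G) ≤ Subgroup.centralizer (V : Set G) :=
    Subgroup.centralizer_le hVV'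
  obtain ⟨k, hk⟩ := relIndex_pow_of_odd_mem (C := Subgroup.centralizer (V' : Set G))
    (D := Subgroup.centralizer (V : Set G)) hodd
  have hCC : Subgroup.centralizer (V : Set G) = Subgroup.centralizer (V' : Set G) :=
    eq_centralizer_of_generated hgen _ hCle hk
  have hVel : Cfsg.IsElementaryAbelian 2 V := PGroups.elemAb_omegaOne hV'c
  refine ⟨V, hVn, hVel, hVV'.trans (hV'Q.trans inf_le_left), eprop_of_reduced h V hVel ?_, ?_⟩
  · refine SFourFree.pCore_quotient_eq_bot _ fun D hD hle ⟨j, hj⟩ => ?_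
    haveI := hD
    rw [hCC] at hle hj ⊢
    exact eq_centralizer_of_generated hgen D hle hj
  · rw [hCC]
    exact Subgroup.centralizer_le (le_iSup Z S)

/-- The first two factorisations. -/
theorem factor_center (h : Hyp G) (S : Sylow 2 G) (g : G) :
    (∃ c ∈ Subgroup.centralizer
        (((S : Subgroup G) ⊓ Subgroup.centralizer ((S : Subgroup G) : Set G) : Subgroup G) : Set G),
      ∃ n ∈ Subgroup.normalizer (Cfsg.thompsonSubgroupOf 2 (S : Subgroup G) : Set G), g = c * n) ∧
    ∃ c ∈ Subgroup.centralizer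
        (((S : Subgroup G) ⊓ Subgroup.centralizer ((S : Subgroup G) : Set G) : Subgroup G) : Set G),
      ∃ n ∈ Subgroup.normalizer (jHatOf (S : Subgroup G) : Set G), g = c * n := by
  haveI : Fact (Nat.Prime 2) := ⟨Nat.prime_two⟩
  obtain ⟨V, hVn, hVel, hVQ, hp, hC⟩ := exists_module h S
  haveI := hVn
  have hVS : V ≤ (S : Subgroup G) := hVQ.trans (Cores.pCore_le_sylow S)
  have hp' : EProp V (S : Subgroup G) := hp.mono le_top
  have hJ := thompson_le_centralizer hVel hVS hp'
  have hJh : jHatOf (S : Subgroup G) ≤ Subgroup.centralizer (V : Set G) :=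
    jHatOf_le_centralizer hVel (le_thompson_of_centralized hVel hVS hJ) (pCore_le_normalizer V _) hp'
  constructor
  · obtain ⟨c, hc, n, hn, e⟩ := factor S _ (normalizer_inf_le_thompson hJ) g
    exact ⟨c, hC hc, n, hn, e⟩
  · obtain ⟨c, hc, n, hn, e⟩ := factor S _ (normalizer_inf_le_jHat hJh) g
    exact ⟨c, hC hc, n, hn, e⟩

end Finite

end Cfsg.Agent.Lib.GlaubermanTwo54
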