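import Cfsg.Agent.Lib.GlaubermanTwo54.Sections54

/-!
# A subgroup with the E-property lies in `O₂(G)`

Owner: helper54.
-/

set_option autoImplicit false
set_option linter.style.haveILetI false
set_option linter.unusedSectionVars false

namespace Cfsg.Agent.Lib.GlaubermanTwo54

open PLocal
open scoped commutatorElement

universe u

variable {G : Type u} [Group G] [Finite G]

theorem arith_pair {a b f : ℕ} (hf : 2 ≤ f) (hb : f ^ 2 ≤ b) (h1 : b ^ 3 < f ^ 2 * a ^ 2)
    (h2 : a ^ 3 ≤ f ^ 2 * b ^ 2) : False := by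
  have hf0 : 0 < f := by omega
  have hb0 : 0 < b := lt_of_lt_of_le (pow_pos hf0 2) hb
  have h3 : b ^ 9 < f ^ 10 * b ^ 4 := by
    calc b ^ 9 = (b ^ 3) ^ 3 := by ring
      _ < (f ^ 2 * a ^ 2) ^ 3 := Nat.pow_lt_pow_left h1 (by norm_num)
      _ = f ^ 6 * (a ^ 3) ^ 2 := by ring
      _ ≤ f ^ 6 * (f ^ 2 * b ^ 2) ^ 2 := Nat.mul_le_mul_left _ (Nat.pow_le_pow_left h2 2)
      _ = f ^ 10 * b ^ 4 := by ring
  have h4 : b ^ 5 < f ^ 10 := Nat.lt_of_mul_lt_mul_right (a := b ^ 4) (by rwa [← pow_add])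
  have h5 : (f ^ 2) ^ 5 ≤ b ^ 5 := Nat.pow_le_pow_left hb 5
  rw [← pow_mul] at h5
  exact absurd h4 (not_lt.2 h5)

theorem le_pCore_of_eprop (h : Hyp G) (S : Sylow 2 G) {V : Subgroup G} (hV : Cfsg.IsElementaryAbelian 2 V)
    (hVS : V ≤ (S : Subgroup G)) (hn : (S : Subgroup G) ≤ Subgroup.normalizer (V : Set G))
    (hp : EProp V (S : Subgroup G)) : V ≤ Cfsg.pCore 2 G := by
  classical
  haveI : Fact (Nat.Prime 2) := ⟨Nat.prime_two⟩
  by_contra hVQ
  set Q := Cfsg.pCore 2 G with hQdef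
  have hQS : Q ≤ (S : Subgroup G) := Cores.pCore_le_sylow S
  set π := QuotientGroup.mk' Q with hπ
  set A := V.map π with hA
  have hπ1 : ∀ x : G, π x = 1 ↔ x ∈ Q := fun x => QuotientGroup.eq_one_iff x
  have hAel : Cfsg.IsElementaryAbelian 2 A := PGroups.elemAb_map π hV
  have hAne : A ≠ ⊥ := by
    rw [Ne, hA, Subgroup.map_eq_bot_iff, hπ, QuotientGroup.ker_mk']; exact hVQ
  obtain ⟨B, a', h', k', hBA, ha'A, ha'B, -, hh'B, hk', hkp, hk2, hsz⟩ :=
    hasPair' (Cores.pCore_quotient_pCore (G := G) 2)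
      (fun h4 => h.free (Transfer.InvolvesS4.involves_of_surjective π (QuotientGroup.mk'_surjective Q) h4))
      (KnownSimple.compKGroup_quotient isoInvariant_typOdd h.comp Q) hAel hAne
  obtain ⟨a, haV, rfl⟩ := ha'A
  obtain ⟨g, rfl⟩ := QuotientGroup.mk'_surjective Q h'
  set a2 := g * a * g⁻¹ with ha2def
  set c := (MulAut.conj g).toMonoidHom with hc
  set V2 := V.map c with hV2
  have ha22 : a2 ∈ V2 := ⟨a, haV, rfl⟩
  obtain ⟨haa, hai⟩ := inv_of_elem hV haV
  have haa2 : a2 * a2 = 1 := by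
    rw [ha2def, show g * a * g⁻¹ * (g * a * g⁻¹) = g * (a * a) * g⁻¹ by group, haa, mul_one, mul_inv_cancel]
  set y := a * a2 with hy
  have hk'' : k' ∈ Subgroup.zpowers (π y) := by rwa [hy, map_mul, ha2def, map_mul, map_mul, map_inv]
  obtain ⟨i, hi⟩ := hk''
  have hoddK : Odd (Nat.card (Subgroup.zpowers k')) := by
    rw [Nat.card_zpowers]; exact hkp.eq_two_or_odd'.resolve_left hk2
  obtain ⟨k, hky, hkodd, hkk⟩ := SFourFree.exists_odd_part π hoddK (x := y ^ i)
    (by rw [map_zpow]; exact hi ▸ Subgroup.mem_zpowers _)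
  have hkπ : π k = k' := by rw [hkk, map_zpow]; exact hi
  set r := orderOf k'
  have hko : orderOf k = r := by
    refine Nat.dvd_antisymm (orderOf_dvd_of_pow_eq_one ?_) (by
      have := orderOf_map_dvd π k
      rwa [hkπ] at this)
    have hmem : k ^ r ∈ Q := (hπ1 _).1 (by rw [map_pow, hkπ]; exact pow_orderOf_eq_one k')
    exact CharP.eq_one_of_coprime_of_mem (Cores.pCore_isPGroup (G := G) 2) hmem
      (Nat.coprime_two_right.2 (hkodd.of_dvd_nat (orderOf_pow_dvd r)))
  have hkQ : k ∉ Q := fun hk => hkp.one_lt.ne' (by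
    show r = 1
    rw [show r = orderOf (π k) by rw [hkπ], (hπ1 k).2 hk, orderOf_one])
  obtain ⟨m, hm⟩ : ∃ m : ℤ, y ^ m = k := by
    obtain ⟨j, hj⟩ := hky
    exact ⟨i * j, by rw [zpow_mul]; exact hj⟩
  have hinv : a * k * a⁻¹ = k⁻¹ := by
    rw [← hm, hai]
    have := Involutions.Basic.invert_zpow haa (Involutions.Basic.invert_mul haa haa2) m
    rw [zpow_neg] at this
    exact this
  have hinv2 : a2 * k * a2⁻¹ = k⁻¹ := by
    have e : a2 * y * a2⁻¹ = y⁻¹ := by
      have hi2 : a2⁻¹ = a2 := inv_eq_of_mul_eq_one_right haa2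
      rw [hy, mul_inv_rev a a2, hi2, hai]
      calc a2 * (a * a2) * a2 = a2 * a * (a2 * a2) := by group
        _ = a2 * a := by rw [haa2, mul_one]
    rw [← hm, ← conj_zpow, e, inv_zpow]
  -- the section
  set 𝒦 : Set (Subgroup G) := {K | K.Normal ∧ K ≤ Q ∧ k ∉ Subgroup.centralizer (K : Set G)} with h𝒦
  obtain ⟨K, ⟨hKn, hKQ, hkK⟩, hKmin⟩ := Set.exists_min_image 𝒦 (fun K => Nat.card K) (Set.toFinite _)
    ⟨Q, inferInstance, le_rfl, fun hk => hkQ (h.c2 hk)⟩
  haveI := hKn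
  have hKne : K ≠ ⊥ := by
    rintro rfl
    exact hkK (Subgroup.mem_centralizer_iff.2 fun x hx => by
      rw [SetLike.mem_coe, Subgroup.mem_bot] at hx; subst hx; simp)
  obtain ⟨N, hNn, hNK, hKel, -, -⟩ := exists_factor hKQ hKne
  haveI := hNn
  have hkN : k ∈ Subgroup.centralizer (N : Set G) := by
    by_contra hkN
    exact (hKmin N ⟨hNn, hNK.le.trans hKQ, hkN⟩).not_gt (lt_of_le_of_ne (Subgroup.card_le_of_le hNK.le)
      fun e => hNK.ne (Subgroup.eq_of_le_of_card_ge hNK.le e.ge))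
  set ρ := QuotientGroup.mk' N with hρ
  set K' := K.map ρ with hK'
  haveI : K'.Normal := hKn.map ρ (QuotientGroup.mk'_surjective N)
  have hK'n : ∀ x : G ⧸ N, x ∈ Subgroup.normalizer (K' : Set (G ⧸ N)) := fun x => by
    rw [Subgroup.normalizer_eq_top]; trivial
  have hρkC : ρ k ∉ Subgroup.centralizer (K' : Set (G ⧸ N)) := by
    intro hcen
    refine hkK (CharP.mem_centralizer_of_two_step (p := 2) ((Cores.pCore_isPGroup (G := G) 2).to_le
      (hNK.le.trans hKQ)) (Nat.coprime_two_right.2 hkodd) (fun x hx => ?_) hkN)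
    rw [← QuotientGroup.eq_one_iff, ← QuotientGroup.mk'_apply, map_commutatorElement,
      commutatorElement_eq_one_iff_mul_comm]
    exact Subgroup.mem_centralizer_iff.1 hcen (ρ x) ⟨x, hx, rfl⟩
  have hρko : orderOf (ρ k) = r := by
    rcases (Nat.dvd_prime hkp).1 (hko ▸ orderOf_map_dvd ρ k) with h1 | h1
    · exfalso
      refine hρkC ?_
      rw [orderOf_eq_one_iff.1 h1]; exact one_mem _
    · exact h1
  have hρodd : Odd (orderOf (ρ k)) := hρko ▸ hkp.eq_two_or_odd'.resolve_left hk2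
  have hρinv : ρ a2 * ρ k * (ρ a2)⁻¹ = (ρ k)⁻¹ := by
    rw [← map_inv, ← map_mul, ← map_mul, hinv2, map_inv]
  have hρa22 : ρ a2 * ρ a2 = 1 := by rw [← map_mul, haa2, map_one]
  set W := commRange (comm_of_elem hKel) (ρ k) (hK'n _) with hWdef
  have hWel : Cfsg.IsElementaryAbelian 2 W := PGroups.elemAb_mono hKel (Subgroup.map_subtype_le _)
  have ha2W : ρ a2 ∈ Subgroup.normalizer (W : Set (G ⧸ N)) :=
    normalizes_commRange_of_invert hKel (hK'n _) (hK'n _) hρinv
  have hkW : ρ k ∈ Subgroup.normalizer (W : Set (G ⧸ N)) :=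
    normalizes_commRange_of_commute hKel (hK'n _) (hK'n _) rfl
  have hfpf := fix_commRange_eq_bot hKel (hK'n (ρ k)) hρodd
  have hWne : ¬ W ≤ ⊥ := by
    intro hle
    refine hρkC (Subgroup.mem_centralizer_iff.2 fun v hv => ?_)
    exact commutatorElement_eq_one_iff_mul_comm.1
      (Subgroup.mem_bot.1 (hle ((mem_commRange _ _).2 ⟨v, hv, rfl⟩)))
  have hnb : ∀ x : G ⧸ N, x ∈ Subgroup.normalizer ((⊥ : Subgroup (G ⧸ N)) : Set (G ⧸ N)) := fun x => by
    rw [Subgroup.normalizer_eq_top]; trivial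
  have hnt : 2 * Nat.card (secFix hWel ⊥ (ρ a2) ha2W) < Nat.card W := by
    by_contra hcon
    push Not at hcon
    obtain ⟨w, hw, hw1⟩ := SetLike.not_le_iff_exists.1 hWne
    refine h.free (Transfer.InvolvesS4.involves_of_surjective ρ (QuotientGroup.mk'_surjective N)
      (section_transvection hWel ha2W hkW (hnb _) (hnb _) bot_le (by rw [hρa22]; exact one_mem _) hρodd
        (by rw [hρinv, inv_mul_cancel]; exact one_mem _) ⟨w, hw, fun hb => hw1 ?_⟩ hcon).1)
    exact Subgroup.mem_bot.2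
      (hfpf w hw (commutatorElement_eq_one_iff_mul_comm.1 (Subgroup.mem_bot.1 hb)).symm)
  set f := B.relIndex A with hf
  have hsize : f ^ 2 * Nat.card (secFix hWel ⊥ (ρ a2) ha2W) ≤ Nat.card W :=
    size_section hWel ha2W hkW (hnb _) (hnb _) bot_le hρa22 hρinv (hρko ▸ hkp) (hρko ▸ hk2) hfpf hWne hnt
      (hρko ▸ hsz)
  -- `Y₁`, `Y₂`
  set Y1 := V ⊓ (V2 ⊔ Q) with hY1
  set Y2 := V2 ⊓ (V ⊔ Q) with hY2
  have hf2 : 2 ≤ f := by
    have h0 : f ≠ 0 := Subgroup.index_ne_zero_of_finite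
    have h1 : f ≠ 1 := fun e => ha'B (Subgroup.relIndex_eq_one.1 e ⟨a, haV, rfl⟩)
    omega
  have hBV : (B.comap π ⊓ V).relIndex V = f := by
    rw [Subgroup.inf_relIndex_right, Subgroup.relIndex_comap]
  have hcb : ∀ b ∈ B.comap π ⊓ V, π (g * b * g⁻¹) = π b := by
    intro b hb
    rw [map_mul, map_mul, map_inv, ← Subgroup.mem_centralizer_iff.1 hh'B (π b) hb.1, mul_inv_cancel_right]
  have hsupQ : ∀ (U : Subgroup G) (x : G), π x ∈ U.map π → x ∈ U ⊔ Q := by
    intro U x hx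
    rw [← QuotientGroup.ker_mk' Q, ← Subgroup.comap_map_eq]
    exact hx
  have hY1f : Y1.relIndex V ≤ f := by
    rw [← hBV]
    refine Subgroup.relIndex_le_of_le_left (fun b hb => ⟨hb.2, hsupQ V2 b ?_⟩) Subgroup.index_ne_zero_of_finite
    rw [← hcb b hb]
    exact ⟨_, ⟨b, hb.2, rfl⟩, rfl⟩
  have hY2f : Y2.relIndex V2 ≤ f := by
    rw [← hBV]
    calc Y2.relIndex V2 ≤ ((B.comap π ⊓ V).map c).relIndex V2 := by
          refine Subgroup.relIndex_le_of_le_left ?_ Subgroup.index_ne_zero_of_finite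
          rintro _ ⟨b, hb, rfl⟩
          refine ⟨⟨b, hb.2, rfl⟩, hsupQ V _ ?_⟩
          show π (g * b * g⁻¹) ∈ _
          rw [hcb b hb]
          exact ⟨b, hb.2, rfl⟩
      _ = _ := Subgroup.relIndex_map_map_of_injective _ _ (MulAut.conj g).injective
  have hQc : Q.map c = Q := Subgroup.Normal.map_conj_eq Q g
  have hY2S : Y2 ≤ (S : Subgroup G) := inf_le_right.trans (sup_le hVS hQS)
  have hY1S : Y1 ≤ (S : Subgroup G).map c := by
    refine inf_le_right.trans (sup_le (Subgroup.map_mono hVS) ?_)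
    rw [← hQc]; exact Subgroup.map_mono hQS
  have hV2el : Cfsg.IsElementaryAbelian 2 V2 := PGroups.elemAb_map c hV
  have hp2 : EProp V2 ((S : Subgroup G).map c) := (eprop_map_iff c (MulAut.conj g).injective V _).2 hp
  have hY2el := PGroups.elemAb_mono hV2el (inf_le_left : Y2 ≤ V2)
  have hY1el := PGroups.elemAb_mono hV (inf_le_left : Y1 ≤ V)
  set na := (Subgroup.centralizer (Y2 : Set G)).relIndex Y1 with hna
  set nb := (Subgroup.centralizer (V : Set G)).relIndex Y2 with hnb'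
  -- `b ≥ f²`
  have hb : f ^ 2 ≤ nb := by
    have hK2 : K ≤ Subgroup.normalizer (V2 : Set G) := by
      refine hKQ.trans ?_
      rw [← hQc]
      exact (Subgroup.map_mono (hQS.trans hn)).trans (Subgroup.le_normalizer_map c)
    set P := Y2 ⊓ W.comap ρ with hP
    have hrange : commRange (comm_of_elem hWel) (ρ a2) ha2W ≤ P.map ρ := by
      intro z hz
      obtain ⟨w, hw, rfl⟩ := (mem_commRange _ _).1 hz
      obtain ⟨x, hx, hxw⟩ : w ∈ K' := Subgroup.map_subtype_le _ hw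
      refine ⟨⁅x, a2⁆, ⟨?_, ?_⟩, by rw [map_commutatorElement, hxw]⟩
      · refine ⟨?_, Subgroup.mem_sup_right (hKQ ?_)⟩
        · show ⁅x, a2⁆ ∈ V2
          rw [commutatorElement_def]
          exact V2.mul_mem ((Subgroup.mem_normalizer_iff.1 (hK2 hx) a2).1 ha22) (V2.inv_mem ha22)
        · rw [commutatorElement_def, mul_assoc x a2, mul_assoc x]
          exact mul_mem hx (hKn.conj_mem _ (inv_mem hx) a2)
      · show ρ ⁅x, a2⁆ ∈ W
        rw [map_commutatorElement, hxw]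
        exact commutatorElement_mem ha2W hw
    have hkerP : P ⊓ Subgroup.centralizer (V : Set G) ≤ ρ.ker := by
      rintro z ⟨⟨hz2, hzW⟩, hzV⟩
      rw [MonoidHom.mem_ker]
      refine hfpf (ρ z) hzW ?_
      rw [← map_mul, ← map_mul]
      refine congrArg ρ ?_
      have c1 : Commute z a := (Subgroup.mem_centralizer_iff.1 hzV a haV).symm
      have c2 : Commute z a2 := PGroups.elemAb_comm hV2el hz2.1 ha22
      rw [← hm]
      exact (((c1.mul_right c2).zpow_right m).eq).symm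
    have h1 : f ^ 2 ≤ Nat.card (commRange (comm_of_elem hWel) (ρ a2) ha2W) := by
      have hFW : Nat.card (fixOn W (Subgroup.zpowers (ρ a2))) ≤
          Nat.card (secFix hWel ⊥ (ρ a2) ha2W) := by
        refine Nat.card_le_card_of_injective (fun w => ⟨⟨w, w.2.1⟩, ?_⟩) fun x y hxy =>
          Subtype.ext (congrArg (fun t : secFix hWel ⊥ (ρ a2) ha2W => ((t : W) : G ⧸ N)) hxy)
        rw [mem_secFix, Subgroup.mem_bot, commutatorElement_eq_one_iff_mul_comm]
        exact ((mem_fixOn.1 w.2).2 _ (Subgroup.mem_zpowers _)).symm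
      refine Nat.le_of_mul_le_mul_right ?_ (Nat.card_pos (α := fixOn W (Subgroup.zpowers (ρ a2))))
      rw [mul_comm (Nat.card (commRange _ _ _)), ← card_eq_fix_mul_range (comm_of_elem hWel) ha2W]
      exact (Nat.mul_le_mul_left _ hFW).trans hsize
    refine h1.trans ((Subgroup.card_le_of_le hrange).trans ?_)
    rw [← Subgroup.relIndex_ker]
    refine (Subgroup.relIndex_le_of_le_left hkerP Subgroup.index_ne_zero_of_finite).trans ?_
    rw [Subgroup.inf_relIndex_left]
    exact Subgroup.relIndex_le_of_le_right inf_le_left Subgroup.index_ne_zero_of_finite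
  -- the two inequalities
  have hfb : (Subgroup.centralizer (Y2 : Set G)).relIndex V ≤ f * na := by
    have h1 := Subgroup.relIndex_mul_relIndex (Y1 ⊓ Subgroup.centralizer (Y2 : Set G)) Y1 V inf_le_left
      inf_le_left
    rw [Subgroup.inf_relIndex_left] at h1
    calc _ ≤ (Y1 ⊓ Subgroup.centralizer (Y2 : Set G)).relIndex V :=
          Subgroup.relIndex_le_of_le_left inf_le_right Subgroup.index_ne_zero_of_finite
      _ = Y1.relIndex V * na := by rw [← h1, mul_comm]
      _ ≤ _ := Nat.mul_le_mul_right _ hY1f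
  have hfa : (Subgroup.centralizer (Y1 : Set G)).relIndex V2 ≤ f * nb := by
    have h1 := Subgroup.relIndex_mul_relIndex (Y2 ⊓ Subgroup.centralizer (V : Set G)) Y2 V2 inf_le_left
      inf_le_left
    rw [Subgroup.inf_relIndex_left] at h1
    calc _ ≤ (Y2 ⊓ Subgroup.centralizer (V : Set G)).relIndex V2 :=
          Subgroup.relIndex_le_of_le_left (inf_le_right.trans (Subgroup.centralizer_le inf_le_left))
            Subgroup.index_ne_zero_of_finite
      _ = Y2.relIndex V2 * nb := by rw [← h1, mul_comm]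
      _ ≤ _ := Nat.mul_le_mul_right _ hY2f
  rcases eprop_ineq hp hY2S hY2el with h1 | h1
  · change nb = 1 at h1
    have := Nat.pow_le_pow_left hf2 2
    omega
  refine arith_pair (a := na) (b := nb) hf2 hb ?_ ?_
  · calc nb ^ 3 < (Subgroup.centralizer (Y2 : Set G)).relIndex V ^ 2 := h1
      _ ≤ (f * na) ^ 2 := Nat.pow_le_pow_left hfb 2
      _ = _ := mul_pow _ _ _
  · calc na ^ 3 ≤ (Subgroup.centralizer (V2 : Set G)).relIndex Y1 ^ 3 :=
          Nat.pow_le_pow_left (Subgroup.relIndex_le_of_le_left (Subgroup.centralizer_le inf_le_left)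
            Subgroup.index_ne_zero_of_finite) 3
      _ ≤ (Subgroup.centralizer (Y1 : Set G)).relIndex V2 ^ 2 := eprop_cu hp2 hY1S hY1el
      _ ≤ (f * nb) ^ 2 := Nat.pow_le_pow_left hfa 2
      _ = _ := mul_pow _ _ _

end Cfsg.Agent.Lib.GlaubermanTwo54
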