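import Cfsg.Agent.Lib.GlaubermanTwo54.Closure54
import Cfsg.Agent.Lib.Cores.Subnormal

/-!
# `G = C(Ω₁Z(Ĵ(S))) N(J(S))`

By induction on the order: every conjugate of `J(S)` centralises `Ω₁Z(Ĵ(S))`.

Owner: helper54.
-/

set_option autoImplicit false
set_option linter.style.haveILetI false
set_option linter.unusedSectionVars false

namespace Cfsg.Agent.Lib.GlaubermanTwo54

open PLocal
open scoped commutatorElement

universe u

variable {G : Type u} [Group G]

/-- `Ω₁Z(Ĵ(P))`. -/
abbrev zOne (P : Subgroup G) : Subgroup G := omegaCenterOf 2 (jHatOf P)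

/-- All conjugates of `J(P)` centralise `Ω₁Z(Ĵ(P))`. -/
def Conj (P : Subgroup G) : Prop :=
  ∀ g : G, ∀ x ∈ Cfsg.thompsonSubgroupOf 2 P, g * x * g⁻¹ ∈ Subgroup.centralizer (zOne P : Set G)

theorem thompson_le_centralizer_zOne [Finite G] (P : Subgroup G) :
    Cfsg.thompsonSubgroupOf 2 P ≤ Subgroup.centralizer (zOne P : Set G) :=
  thompson_le_jHatOf.trans (le_centralizer_omegaCenterOf _)

theorem conj_mul_mem {C : Subgroup G} {c y : G} (hc : c ∈ C) (hy : y ∈ C) : c * y * c⁻¹ ∈ C :=
  C.mul_mem (C.mul_mem hc hy) (C.inv_mem hc)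

theorem map_zOne {H : Type*} [Group H] (f : G →* H) (hf : Function.Injective f) (P : Subgroup G) :
    (zOne P).map f = zOne (P.map f) := by
  rw [zOne, map_omegaCenterOf f hf, map_jHatOf f hf]

section Finite

variable [Finite G]

/-- `Conj` gives the factorisation. -/
theorem factor_of_conj (S : Sylow 2 G) (h : Conj (S : Subgroup G)) (g : G) :
    ∃ c ∈ Subgroup.centralizer (zOne (S : Subgroup G) : Set G),
      ∃ n ∈ Subgroup.normalizer (Cfsg.thompsonSubgroupOf 2 (S : Subgroup G) : Set G), g = c * n := by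
  set H := Subgroup.normalClosure (Cfsg.thompsonSubgroupOf 2 (S : Subgroup G) : Set G)
  have hH : H ≤ Subgroup.centralizer (zOne (S : Subgroup G) : Set G) := by
    refine (Subgroup.closure_le _).2 fun x hx => ?_
    obtain ⟨a, ha, hax⟩ := Group.mem_conjugatesOfSet_iff.1 hx
    obtain ⟨c, rfl⟩ := isConj_iff.1 hax
    exact h c a ha
  obtain ⟨c, hc, n, hn, e⟩ :=
    factor S H (normalizer_inf_le_thompson (Subgroup.subset_normalClosure)) g
  exact ⟨c, hH hc, n, hn, e⟩

/-- From a subgroup with the same `J` and `Ĵ`. -/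
theorem conj_transfer {S : Subgroup G} {U : Subgroup G} {P : Subgroup ↥U}
    (hJ : Cfsg.thompsonSubgroupOf 2 (P.map U.subtype) = Cfsg.thompsonSubgroupOf 2 S)
    (hH : jHatOf (P.map U.subtype) = jHatOf S) (h : Conj P) :
    ∀ g ∈ U, ∀ x ∈ Cfsg.thompsonSubgroupOf 2 S, g * x * g⁻¹ ∈ Subgroup.centralizer (zOne S : Set G) := by
  intro g hg x hx
  rw [← hJ, ← PGroups.map_thompsonSubgroupOf U.subtype U.subtype_injective] at hx
  obtain ⟨x', hx', rfl⟩ := hx
  have h1 := h ⟨g, hg⟩ x' hx'
  have e : zOne S = (zOne P).map U.subtype := by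
    rw [map_zOne U.subtype U.subtype_injective, zOne, zOne, hH]
  rw [e]
  rw [← centralizer_map_comap U.subtype U.subtype_injective] at h1
  exact h1

theorem factor_transfer {S : Subgroup G} {U : Subgroup G} (P : Sylow 2 ↥U)
    (hJ : Cfsg.thompsonSubgroupOf 2 ((P : Subgroup ↥U).map U.subtype) = Cfsg.thompsonSubgroupOf 2 S)
    (hH : jHatOf ((P : Subgroup ↥U).map U.subtype) = jHatOf S) (h : Conj (P : Subgroup ↥U)) :
    ∀ g ∈ U, ∃ c ∈ Subgroup.centralizer (zOne S : Set G),
      ∃ n ∈ Subgroup.normalizer (Cfsg.thompsonSubgroupOf 2 S : Set G), g = c * n := by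
  intro g hg
  obtain ⟨c, hc, n, hn, e⟩ := factor_of_conj P h ⟨g, hg⟩
  refine ⟨c, ?_, n, ?_, congrArg Subtype.val e⟩
  · rw [← centralizer_map_comap U.subtype U.subtype_injective, map_zOne U.subtype U.subtype_injective] at hc
    rw [zOne, ← hH]
    exact hc
  · have h1 := Subgroup.le_normalizer_map U.subtype (Subgroup.mem_map_of_mem U.subtype hn)
    rw [PGroups.map_thompsonSubgroupOf U.subtype U.subtype_injective, hJ] at h1
    exact h1

end Finite

theorem conj_of_hyp_aux : ∀ (n : ℕ) (G : Type u) [Group G] [Finite G], Nat.card G = n → Hyp G →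
    ∀ S : Sylow 2 G, Conj (S : Subgroup G) := by
  intro n
  induction n using Nat.strong_induction_on with
  | _ n ih =>
    intro G _ _ hn h S g x hx
    subst hn
    haveI : Fact (Nat.Prime 2) := ⟨Nat.prime_two⟩
    set J := Cfsg.thompsonSubgroupOf 2 (S : Subgroup G) with hJdef
    set C1 := Subgroup.centralizer (zOne (S : Subgroup G) : Set G) with hC1
    have hJC : J ≤ C1 := thompson_le_centralizer_zOne _
    have hJS : J ≤ (S : Subgroup G) := PGroups.thompsonSubgroupOf_le 2 _
    -- the subgroups containing `S`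
    have hover : ∀ (U : Subgroup G) (hSU : (S : Subgroup G) ≤ U), U ≠ ⊤ → Hyp ↥U →
        (∀ g ∈ U, ∀ x ∈ J, g * x * g⁻¹ ∈ C1) ∧
          ∀ g ∈ U, ∃ c ∈ C1, ∃ n ∈ Subgroup.normalizer (J : Set G), g = c * n := by
      intro U hSU hU hhU
      have hc : Conj ((S.subtype hSU : Sylow 2 U) : Subgroup U) :=
        ih _ (Cores.Subnormal.card_lt_of_ne_top hU) U rfl hhU _
      have hm : ((S.subtype hSU : Sylow 2 U) : Subgroup U).map U.subtype = (S : Subgroup G) := by
        rw [Sylow.coe_subtype, Subgroup.map_subgroupOf_eq_of_le hSU]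
      exact ⟨conj_transfer (by rw [hm]) (by rw [hm]) hc, factor_transfer _ (by rw [hm]) (by rw [hm]) hc⟩
    -- a normal subgroup splitting the problem
    by_cases hsplit : ∃ N : Subgroup G, N.Normal ∧ N ⊔ (S : Subgroup G) ≠ ⊤ ∧
        Subgroup.normalizer (((S : Subgroup G) ⊓ N : Subgroup G) : Set G) ≠ ⊤
    · obtain ⟨N, hN, hNS, hNM⟩ := hsplit
      haveI := hN
      set M := Subgroup.normalizer (((S : Subgroup G) ⊓ N : Subgroup G) : Set G) with hM
      have hSM : (S : Subgroup G) ≤ M := (le_inf Subgroup.le_normalizer (pCore_le_normalizer N _)).trans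
        Subgroup.inf_normalizer_le_normalizer_inf
      have hg : g ∈ M ⊔ N := by rw [hM, normalizer_inf_sup_eq_top]; trivial
      obtain ⟨y, hy, z, hz, rfl⟩ := Subgroup.mem_sup_of_normal_right.mp hg
      obtain ⟨c, hc, m, hm, rfl⟩ := (hover M hSM hNM (h.normalizer_inf S N)).2 y hy
      have hz' : m * z * m⁻¹ ∈ N ⊔ (S : Subgroup G) := Subgroup.mem_sup_left (hN.conj_mem z hz m)
      have h1 := (hover _ le_sup_right hNS (h.normal_sup S N)).1 _ hz' (m * x * m⁻¹)
        ((Subgroup.mem_normalizer_iff.1 hm x).1 hx)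
      have h2 := conj_mul_mem hc h1
      convert h2 using 1
      group
    push Not at hsplit
    have hD : Dichotomy S := by
      intro N hN
      haveI := hN
      by_cases hNS : N ⊔ (S : Subgroup G) = ⊤
      · refine Or.inl (Transfer.PResidual.pResidual_le_of_isPGroup_quotient N ?_)
        refine S.2.of_surjective ((QuotientGroup.mk' N).comp (S : Subgroup G).subtype) fun q => ?_
        obtain ⟨w, rfl⟩ := QuotientGroup.mk'_surjective N q
        have hw : w ∈ N ⊔ (S : Subgroup G) := by rw [hNS]; trivial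
        obtain ⟨a, ha, s, hs, rfl⟩ := Subgroup.mem_sup_of_normal_left.mp hw
        exact ⟨⟨s, hs⟩, by
          show QuotientGroup.mk' N s = _
          rw [map_mul, show QuotientGroup.mk' N a = 1 from (QuotientGroup.eq_one_iff a).2 ha, one_mul]⟩
      · haveI : ((S : Subgroup G) ⊓ N).Normal := Subgroup.normalizer_eq_top_iff.1 (hsplit N hN hNS)
        exact Or.inr (Cores.le_pCore (S.2.to_le inf_le_left))
    by_cases hJQ : J ≤ Cfsg.pCore 2 G
    · have h1 : Subgroup.normalizer (J : Set G) = ⊤ := by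
        rw [eq_top_iff, hJdef, ← PGroups.thompsonSubgroupOf_eq_of_le (Cores.pCore_le_sylow S) hJQ]
        refine le_trans ?_ (PGroups.normalizer_le_normalizer_thompson _)
        rw [Subgroup.normalizer_eq_top]
      exact hJC ((Subgroup.mem_normalizer_iff.1 (h1.ge (Subgroup.mem_top g)) x).1 hx)
    by_cases hE : EGrpIn (S : Subgroup G)
    · have hS : jHatOf (S : Subgroup G) = (S : Subgroup G) := by
        refine le_antisymm (jHatOf_le _) ?_
        rw [jHatOf_eq]
        exact le_sSup ⟨le_rfl, hE, PGroups.thompsonSubgroupOf_le 2 _⟩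
      obtain ⟨⟨c, hc, m, hm, rfl⟩, -⟩ := factor_center h S g
      have hc1 : c ∈ C1 := by
        rw [hC1, zOne, hS]
        exact Subgroup.centralizer_le (PGroups.omegaOne_le 2 _) hc
      have h2 := conj_mul_mem hc1 (hJC ((Subgroup.mem_normalizer_iff.1 hm x).1 hx))
      convert h2 using 1
      group
    obtain ⟨V, hVS, hn, hV, hp, hne⟩ : ∃ V : Subgroup G, V ≤ (S : Subgroup G) ∧
        (S : Subgroup G) ≤ Subgroup.normalizer (V : Set G) ∧ Cfsg.IsElementaryAbelian 2 V ∧
        EProp V (S : Subgroup G) ∧ ¬ (S : Subgroup G) ≤ Subgroup.centralizer (V : Set G) := by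
      by_contra hcon
      push Not at hcon
      exact hE hcon
    haveI : V.Normal := normal_of_eprop h S hD hJQ hV hVS hn hp
    set C := Subgroup.centralizer (V : Set G)
    haveI : C.Normal := Subgroup.normal_centralizer
    have hJc : J ≤ C := thompson_le_centralizer hV hVS hp
    have hHc : jHatOf (S : Subgroup G) ≤ C :=
      jHatOf_le_centralizer hV (le_thompson_of_centralized hV hVS hJc) hn hp
    have hCne : C ≠ ⊤ := fun e => hne (e.symm ▸ le_top)
    have hOC : Cfsg.pResidual 2 G ≤ C :=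
      (hD C inferInstance).resolve_right fun h' => hJQ ((le_inf hJS hJc).trans h')
    obtain ⟨P, hP⟩ := exists_sylow_inf S C
    have hhC : Hyp ↥C := ⟨CharP.charP_of_isSubnormal h.c2 (inferInstance : C.Normal).isSubnormal,
      free_subgroup h.free C,
      KnownSimple.compKGroup_subgroup isoInvariant_typOdd h.comp (inferInstance : C.Normal).isSubnormal⟩
    have hconj : ∀ g ∈ C, ∀ x ∈ J, g * x * g⁻¹ ∈ C1 :=
      conj_transfer
        (by rw [hP]; exact PGroups.thompsonSubgroupOf_eq_of_le inf_le_left (le_inf hJS hJc))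
        (by rw [hP]; exact jHatOf_eq_of_le inf_le_left (le_inf (jHatOf_le _) hHc))
        (ih _ (Cores.Subnormal.card_lt_of_ne_top hCne) C rfl hhC P)
    have hg : g ∈ C ⊔ (S : Subgroup G) := by
      have : (⊤ : Subgroup G) ≤ C ⊔ (S : Subgroup G) := by
        rw [← CharP.sylow_sup_pResidual S]; exact sup_le le_sup_right (hOC.trans le_sup_left)
      exact this (Subgroup.mem_top g)
    obtain ⟨c, hc, s, hs, rfl⟩ := Subgroup.mem_sup_of_normal_left.mp hg
    have h2 := hconj c hc (s * x * s⁻¹)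
      ((Subgroup.mem_normalizer_iff.1
        (PGroups.normalizer_le_normalizer_thompson _ (Subgroup.le_normalizer hs)) x).1 hx)
    convert h2 using 1
    group

/-- The third factorisation. -/
theorem factor_zJhat [Finite G] (h : Hyp G) (S : Sylow 2 G) (g : G) :
    ∃ c ∈ Subgroup.centralizer (zOne (S : Subgroup G) : Set G),
      ∃ n ∈ Subgroup.normalizer (Cfsg.thompsonSubgroupOf 2 (S : Subgroup G) : Set G), g = c * n :=
  factor_of_conj S (conj_of_hyp_aux _ G rfl h S) g

end Cfsg.Agent.Lib.GlaubermanTwo54
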