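import Cfsg.Prelude.Def_LocalEven
import Cfsg.Agent.Lib.LAEven65.SuzukiConj
import Cfsg.Agent.Lib.LieTwisted.SuzukiOut
import Cfsg.Agent.Lib.LieTwisted.SuzukiBruhat
import Cfsg.Agent.Lib.NumberTheory.Zsigmondy
import Cfsg.Agent.Lib.Involutions.BaerSuzuki
import Cfsg.Agent.Lib.PGroups.ElemAb
import Cfsg.Agent.Lib.FourFree.Section
import Cfsg.Agent.Lib.AutPSL.Descent
import Cfsg.Agent.Lib.AutPSL.Main
import Cfsg.Agent.Lib.AutPSL.Card
import Cfsg.Agent.Lib.PSLTwo.ClassSize
import Cfsg.Agent.Lib.PSLTwo.ClassSizeValues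
import Cfsg.Agent.Lib.DicksonFull.Maximal
import Cfsg.Agent.Lib.KnownSimple.KGroup
import Cfsg.Agent.Lib.Spectrum.SL25Recognition
import Cfsg.Agent.Lib.Transfer.PResidual

/-!
# Pairs of involutions in `Sz(q)` and in `PSL₂(3^(2n+1))`

Owner: helper54.
-/

set_option autoImplicit false
set_option linter.style.haveILetI false
set_option linter.unusedSectionVars false
set_option linter.unusedSimpArgs false

namespace Cfsg.Agent.Lib.GlaubermanTwo54

universe u

/-- The size attached to a pair: `f ≤ 2`, or `f ^ 4` is at most every fixed-point-free module order of an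
element of order `r`. -/
def SizeR (f r : ℕ) : Prop :=
  f ≤ 2 ∨ ∃ q, f ≤ q ∧ ∀ j, 0 < j → 2 ^ j ≡ 1 [MOD r] → q ^ 4 ≤ 2 ^ j

/-- Every involutory automorphism is inner unless `Sym(4)` is involved. -/
def InnerTwo (X : Type*) [Group X] : Prop :=
  ∀ θ : MulAut X, θ * θ = 1 → θ ∈ (MulAut.conj (G := X)).range ∨
    ∀ H : Subgroup (MulAut X), (MulAut.conj (G := X)).range ≤ H → θ ∈ H →
      Cfsg.Involves (Equiv.Perm (Fin 4)) ↥H

/-- Elementary abelian subgroups have pairs of size `SizeR`. -/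
def HasPairs (X : Type*) [Group X] : Prop :=
  ∀ D : Subgroup X, Cfsg.IsElementaryAbelian 2 D → D ≠ ⊥ →
    ∃ (B : Subgroup X) (d x : X) (r : ℕ), B ≤ D ∧ d ∈ D ∧ d ∉ B ∧
      x ∈ Subgroup.centralizer (B : Set X) ∧ r.Prime ∧ r ≠ 2 ∧ r ∣ orderOf (d * (x * d * x⁻¹)) ∧
      SizeR (B.relIndex D) r

theorem InnerTwo.congr {X Y : Type*} [Group X] [Group Y] (e : X ≃* Y) (h : InnerTwo X) : InnerTwo Y := by
  intro θ hθ
  set c := MulAut.congr e with hc
  have hconj : ∀ x : X, c (MulAut.conj x) = MulAut.conj (e x) := fun x => MulEquiv.ext fun y => by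
    simp [hc, MulAut.congr, MulAut.conj_apply]
  rcases h (c.symm θ) (by rw [← map_mul, hθ, map_one]) with ⟨x, hx⟩ | hH
  · exact Or.inl ⟨e x, by rw [← hconj, hx, MulEquiv.apply_symm_apply]⟩
  · refine Or.inr fun H hle hmem => ?_
    have := hH (H.comap c.toMonoidHom) (by
      rintro _ ⟨x, rfl⟩
      rw [Subgroup.mem_comap, MulEquiv.coe_toMonoidHom, hconj]
      exact hle ⟨_, rfl⟩) (by rw [Subgroup.mem_comap, MulEquiv.coe_toMonoidHom, MulEquiv.apply_symm_apply]; exact hmem)
    exact Transfer.InvolvesS4.involves_of_injective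
      ((c.toMonoidHom.comp (H.comap c.toMonoidHom).subtype).codRestrict H fun x => x.2)
      (fun a b hab => Subtype.ext (c.injective (congrArg Subtype.val hab))) this

theorem HasPairs.congr {X Y : Type*} [Group X] [Group Y] (e : X ≃* Y) (h : HasPairs X) : HasPairs Y := by
  intro D hD hne
  obtain ⟨B, d, x, r, hB, hd, hdB, hx, hr, hr2, hdiv, hsz⟩ := h (D.comap e.toMonoidHom)
    (PGroups.elemAb_comap e.toMonoidHom e.injective hD) (by
      intro h0
      apply hne
      have := congrArg (Subgroup.map e.toMonoidHom) h0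
      rwa [Subgroup.map_comap_eq_self_of_surjective e.surjective, Subgroup.map_bot] at this)
  refine ⟨B.map e.toMonoidHom, e d, e x, r, Subgroup.map_le_iff_le_comap.2 hB, hd, ?_, ?_, hr, hr2, ?_, ?_⟩
  · rintro ⟨b, hb, hbd⟩
    exact hdB (e.injective hbd ▸ hb)
  · refine Subgroup.mem_centralizer_iff.2 ?_
    rintro _ ⟨b, hb, rfl⟩
    simp only [MulEquiv.coe_toMonoidHom, ← map_mul]
    exact congrArg e (Subgroup.mem_centralizer_iff.1 hx b hb)
  · rwa [← map_inv, ← map_mul, ← map_mul, ← map_mul, MulEquiv.orderOf_eq]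
  · have : (B.map e.toMonoidHom).relIndex D = B.relIndex (D.comap e.toMonoidHom) := by
      conv_lhs => rw [← Subgroup.map_comap_eq_self_of_surjective (f := e.toMonoidHom) e.surjective D]
      exact Subgroup.relIndex_map_map_of_injective B (D.comap e.toMonoidHom) e.injective
    rwa [this]

/-- A product of two conjugate involutions of order divisible by an odd prime. -/
theorem exists_odd_prime_pair {X : Type*} [Group X] [Finite X] {t : X} (ht : orderOf t = 2)
    (hO : ∀ N : Subgroup X, N.Normal → IsPGroup 2 N → t ∉ N) :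
    ∃ (g : X) (r : ℕ), r.Prime ∧ r ≠ 2 ∧ r ∣ orderOf (t * (g * t * g⁻¹)) := by
  by_contra hcon
  push Not at hcon
  have hpt : IsPGroup 2 (Subgroup.zpowers t) :=
    IsPGroup.of_card (n := 1) (by rw [Nat.card_zpowers, ht, pow_one])
  obtain ⟨N, hN1, hN2, hN3⟩ := Involutions.BaerSuzuki.baer_suzuki_elem (p := 2) hpt fun g => by
    have hs : orderOf (g * t * g⁻¹) = 2 := (Involutions.Basic.orderOf_conj_eq g t).trans ht
    obtain ⟨a, ha⟩ : ∃ a, orderOf (t * (g * t * g⁻¹)) = 2 ^ a :=
      ⟨_, Nat.eq_prime_pow_of_unique_prime_dvd (orderOf_pos _).ne' fun {d} hd hdvd => by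
        by_contra hne
        exact hcon g d hd hne hdvd⟩
    refine IsPGroup.of_card (n := a + 1) ?_
    rw [Involutions.Basic.card_closure_pair ht hs, ha]
    ring
  exact hO N hN1 hN2 hN3

/-! ### Suzuki groups -/

section Suzuki

open Cfsg.Agent.Lib.LieTwisted.Suzuki Cfsg.Agent.Lib.LAEven65.SuzukiConj Cfsg.Agent.Lib.SzElements.Basic

variable {F : Type*} [Field F] [Fintype F] {m : ℕ}

theorem innerTwo_sz (h : IsSzField F m) (hm : 1 ≤ m) : InnerTwo (Cfsg.Sz F m) := by
  intro θ hθ
  left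
  have hout : Nat.card (Cfsg.Out (Cfsg.Sz F m)) = 2 * m + 1 := h.card_out hm
  haveI : Finite (Cfsg.Out (Cfsg.Sz F m)) := Nat.finite_of_card_ne_zero (by omega)
  have h1 : orderOf (QuotientGroup.mk θ : Cfsg.Out (Cfsg.Sz F m)) ∣ 2 :=
    orderOf_dvd_of_pow_eq_one (by rw [pow_two, ← QuotientGroup.mk_mul, hθ, QuotientGroup.mk_one])
  have h2 : orderOf (QuotientGroup.mk θ : Cfsg.Out (Cfsg.Sz F m)) ∣ 2 * m + 1 := hout ▸ orderOf_dvd_natCard _
  have h3 : (QuotientGroup.mk θ : Cfsg.Out (Cfsg.Sz F m)) = 1 :=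
    orderOf_eq_one_iff.1 (Nat.eq_one_of_dvd_coprimes (by simp) h1 h2)
  exact (QuotientGroup.eq_one_iff θ).1 h3

theorem hasPairs_sz (h : IsSzField F m) (hm : 1 ≤ m) : HasPairs (Cfsg.Sz F m) := by
  haveI : Fact (Nat.Prime 2) := ⟨Nat.prime_two⟩
  intro D hD hne
  obtain ⟨d, hd, hd1⟩ := (Subgroup.bot_or_exists_ne_one D).resolve_left hne
  have hord : orderOf d = 2 := orderOf_eq_prime (hD.2 d hd) hd1
  obtain ⟨r, hr, hro⟩ := Cfsg.Agent.Lib.NumberTheory.exists_primitive_prime (q := 2) (n := 4 * (2 * m + 1))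
    le_rfl (by omega) (fun h6 => by omega) (fun h2 => by omega)
  haveI : Fact r.Prime := ⟨hr⟩
  have h4n : (2 : ZMod r) ^ (4 * (2 * m + 1)) = 1 := by
    have := pow_orderOf_eq_one ((2 : ℕ) : ZMod r)
    rw [hro] at this
    simpa using this
  have hr2 : r ≠ 2 := by
    rintro rfl
    rw [show (2 : ZMod 2) = 0 from rfl, zero_pow (by omega)] at h4n
    exact zero_ne_one h4n
  have hrd : r ∣ Fintype.card F ^ 2 + 1 := by
    rw [h.card, ← ZMod.natCast_eq_zero_iff]
    push_cast
    have h1 : (((2 : ZMod r) ^ (2 * m + 1)) ^ 2 - 1) * (((2 : ZMod r) ^ (2 * m + 1)) ^ 2 + 1) = 0 := by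
      have : (((2 : ZMod r) ^ (2 * m + 1)) ^ 2 - 1) * (((2 : ZMod r) ^ (2 * m + 1)) ^ 2 + 1) =
          (2 : ZMod r) ^ (4 * (2 * m + 1)) - 1 := by ring
      rw [this, h4n, sub_self]
    refine (mul_eq_zero.mp h1).resolve_left fun h2 => ?_
    rw [sub_eq_zero, ← pow_mul] at h2
    have := Nat.le_of_dvd (show 0 < (2 * m + 1) * 2 by omega)
      (hro ▸ orderOf_dvd_of_pow_eq_one (x := ((2 : ℕ) : ZMod r)) (by simpa using h2))
    omega
  obtain ⟨g, y, hy, hyo⟩ := exists_pair h hm hord hrd
  have hds : orderOf (g * d * g⁻¹) = 2 := (Involutions.Basic.orderOf_conj_eq g d).trans hord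
  have hdiv : r ∣ orderOf (d * (g * d * g⁻¹)) := by
    rcases (Involutions.Basic.mem_closure_pair (Involutions.Basic.invol_mul_self hord)
      (Involutions.Basic.invol_mul_self hds)).1 hy with ⟨k, hk | hk⟩
    · rw [← hyo, hk]
      exact orderOf_dvd_of_mem_zpowers ⟨k, rfl⟩
    · exfalso
      have hy2 : y * y = 1 := by
        rw [hk]
        exact Involutions.Basic.mul_zpow_sq (Involutions.Basic.invol_mul_self hord)
          (Involutions.Basic.invol_mul_self hds) k
      have : r ∣ 2 := hyo ▸ orderOf_dvd_of_pow_eq_one (by rw [pow_two]; exact hy2)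
      exact hr2 ((Nat.prime_dvd_prime_iff_eq hr Nat.prime_two).1 this)
  refine ⟨⊥, d, g, r, bot_le, hd, by rwa [Subgroup.mem_bot], ?_, hr, hr2, hdiv, Or.inr ⟨2 ^ (2 * m + 1), ?_, ?_⟩⟩
  · exact Subgroup.mem_centralizer_iff.2 fun b hb => by
      rw [SetLike.mem_coe, Subgroup.mem_bot] at hb; subst hb; simp
  · rw [Subgroup.relIndex_bot_left]
    have hp : IsPGroup 2 D := PGroups.elemAb_isPGroup hD
    obtain ⟨P, hP⟩ := hp.exists_le_sylow
    obtain ⟨k, hk⟩ := h.conj_sylow hm P
    have hcases : ∀ z : D, ∃ b, (z : Cfsg.Sz F m) = k * uS h 0 b * k⁻¹ := by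
      intro z
      obtain ⟨_, ⟨a, b, rfl⟩, hab⟩ : (z : Cfsg.Sz F m) ∈ (unip h).map (MulAut.conj k).toMonoidHom := hk ▸ hP z.2
      have hab' : k * uS h a b * k⁻¹ = z := hab
      have hz2 : (k * uS h a b * k⁻¹) ^ 2 = 1 := by rw [hab']; exact hD.2 _ z.2
      rw [conj_pow, mul_inv_eq_one, mul_eq_left] at hz2
      exact ⟨b, by rw [← hab', eq_zero_of_sq h hz2]⟩
    choose β hβ using hcases
    calc Nat.card D ≤ Nat.card F := Nat.card_le_card_of_injective β fun z w hzw =>
          Subtype.ext (by rw [hβ z, hβ w, hzw])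
      _ = _ := by rw [Nat.card_eq_fintype_card, h.card]
  · intro j hj0 hj
    rw [← pow_mul]
    refine Nat.pow_le_pow_right (by norm_num) ?_
    refine Nat.le_of_dvd hj0 ?_
    rw [mul_comm, ← hro]
    refine orderOf_dvd_of_pow_eq_one ?_
    have := (ZMod.natCast_eq_natCast_iff _ _ _).mpr hj
    simpa using this

end Suzuki

/-- Twisting an element commuting up to a central involution. -/
theorem twist {M : Type*} [Group M] {g h t z : M} (hz : ∀ x, z * x = x * z) (hzz : z * z = 1)
    (hgh : h * g = g * h * z) :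
    (t * g = g * t → t * h = h * t * z → t * g * g = g * (t * g) ∧ t * g * h = h * (t * g)) ∧
    (t * g = g * t * z → t * h = h * t → t * h * g = g * (t * h) ∧ t * h * h = h * (t * h)) ∧
    (t * g = g * t * z → t * h = h * t * z →
      t * (g * h) * g = g * (t * (g * h)) ∧ t * (g * h) * h = h * (t * (g * h))) := by
  have hgh' : g * h = h * g * z := by rw [hgh, mul_assoc, hzz, mul_one]
  have zl : ∀ x y : M, x * (z * y) = z * (x * y) := fun x y => by rw [← mul_assoc, ← hz, mul_assoc]
  have zz : ∀ y : M, z * (z * y) = y := fun y => by rw [← mul_assoc, hzz, one_mul]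
  have a1 : ∀ y, h * (g * y) = z * (g * (h * y)) := fun y => by
    rw [← mul_assoc, hgh, ← hz, mul_assoc, mul_assoc]
  have a1' : ∀ y, g * (h * y) = z * (h * (g * y)) := fun y => by
    rw [← mul_assoc, hgh', ← hz, mul_assoc, mul_assoc]
  refine ⟨fun e1 e2 => ⟨?_, ?_⟩, fun e1 e2 => ⟨?_, ?_⟩, fun e1 e2 => ⟨?_, ?_⟩⟩
  · rw [e1, mul_assoc, e1]
  · calc t * g * h = t * (g * (h * 1)) := by group
      _ = t * (z * (h * g)) := by rw [a1', mul_one]
      _ = z * (t * h * g) := by rw [zl, mul_assoc]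
      _ = z * (z * (h * t) * g) := by rw [e2, hz (h * t)]
      _ = h * (t * g) := by rw [mul_assoc, zz, mul_assoc]
  · calc t * h * g = t * (h * (g * 1)) := by group
      _ = t * (z * (g * h)) := by rw [a1, mul_one]
      _ = z * (t * g * h) := by rw [zl, mul_assoc]
      _ = z * (z * (g * t) * h) := by rw [e1, hz (g * t)]
      _ = g * (t * h) := by rw [mul_assoc, zz, mul_assoc]
  · rw [e2, mul_assoc, e2]
  · calc t * (g * h) * g = t * g * (h * (g * 1)) := by group
      _ = z * (t * g * (g * h)) := by rw [a1, mul_one, zl]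
      _ = z * (z * (g * t) * (g * h)) := by rw [e1, hz (g * t)]
      _ = g * (t * (g * h)) := by rw [mul_assoc, zz, mul_assoc]
  · calc t * (g * h) * h = t * (g * (h * h)) := by group
      _ = z * (t * h * (g * h)) := by rw [a1', zl, mul_assoc]
      _ = z * (z * (h * t) * (g * h)) := by rw [e2, hz (h * t)]
      _ = h * (t * (g * h)) := by rw [mul_assoc, zz, mul_assoc]

/-! ### `PSL₂` over a field of odd power of three -/

section Psl

open Cfsg.Agent.Lib.PSLTwo.Sylow Cfsg.Agent.Lib.SL2Tori Cfsg.Agent.Lib.SL2Tori.Products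
open Cfsg.Agent.Lib.PSLTwo.ClassSize Cfsg.Agent.Lib.AutPSL
open Matrix

variable {F : Type*} [Field F] [Fintype F] {n : ℕ}

local notation "SL" => Matrix.SpecialLinearGroup (Fin 2) F
local notation "PSL" => Matrix.ProjectiveSpecialLinearGroup (Fin 2) F

theorem q_mod_eight (hF : Fintype.card F = 3 ^ (2 * n + 1)) : Fintype.card F % 8 = 3 := by
  rw [hF, pow_succ, pow_mul, Nat.mul_mod, Nat.pow_mod]; norm_num

theorem charP_three (hF : Fintype.card F = 3 ^ (2 * n + 1)) : CharP F 3 :=
  haveI : Fact (Nat.Prime 3) := ⟨Nat.prime_three⟩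
  charP_of_card_eq_prime_pow hF

theorem not_eight_dvd_card (hF : Fintype.card F = 3 ^ (2 * n + 1)) : ¬ 8 ∣ Nat.card PSL := by
  have h8 := q_mod_eight hF
  have h := Cfsg.Agent.Lib.Linear.two_mul_card_PSL_two_of_odd (F := F) (Nat.odd_iff.2 (by omega))
  intro h1
  obtain ⟨k, hk⟩ := h1
  rw [hk] at h
  obtain ⟨t, ht⟩ : ∃ t, Fintype.card F = 16 * t + 3 ∨ Fintype.card F = 16 * t + 11 :=
    ⟨Fintype.card F / 16, by omega⟩
  rcases ht with ht | ht
  · rw [ht, show 16 * t + 3 - 1 = 16 * t + 2 by omega] at h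
    ring_nf at h
    omega
  · rw [ht, show 16 * t + 11 - 1 = 16 * t + 10 by omega] at h
    ring_nf at h
    omega

theorem card_le_four (hF : Fintype.card F = 3 ^ (2 * n + 1)) {D : Subgroup PSL}
    (hD : Cfsg.IsElementaryAbelian 2 D) : Nat.card D ≤ 4 := by
  haveI : Fact (Nat.Prime 2) := ⟨Nat.prime_two⟩
  obtain ⟨i, hi⟩ := PGroups.elemAb_card_eq_pow (p := 2) hD
  have h := Subgroup.card_subgroup_dvd_card D
  rw [hi] at h ⊢
  by_contra hlt
  push Not at hlt
  have : 3 ≤ i := (Nat.pow_lt_pow_iff_right (by norm_num : 1 < 2)).mp (show 2 ^ 2 < 2 ^ i from hlt)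
  exact not_eight_dvd_card hF ((pow_dvd_pow 2 this : 2 ^ 3 ∣ 2 ^ i).trans h)

theorem slTr_eq_zero_of_invol (h2 : (2 : F) ≠ 0) {g : SL} (hg : proj g * proj g = 1) (h1 : proj g ≠ 1) :
    slTr g = 0 := by
  have hns : NonScalar g := nonScalar_of_proj_ne_one h1
  rw [← map_mul] at hg
  rcases proj_eq_one_iff.1 hg with h | h
  · rcases sq_eq_one h2 h with h' | h'
    · exact absurd (proj_eq_one_iff.2 (Or.inl h')) h1
    · exact absurd (proj_eq_one_iff.2 (Or.inr h')) h1
  · have h00 := congrArg (fun g : SL => g.1 0 0) h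
    have h01 := congrArg (fun g : SL => g.1 0 1) h
    have h10 := congrArg (fun g : SL => g.1 1 0) h
    have hd := det_eq g
    simp only [PSLTwo.Sylow.mul_apply', negOne] at h00 h01 h10
    simp at h00 h01 h10
    have h11 := congrArg (fun g : SL => g.1 1 1) h
    simp only [PSLTwo.Sylow.mul_apply', negOne] at h11
    simp at h11
    rw [slTr]
    rcases hns with h' | h' | h'
    · exact (mul_eq_zero.1 (show g.1 0 1 * (g.1 0 0 + g.1 1 1) = 0 by linear_combination h01)).resolve_left h'
    · exact (mul_eq_zero.1 (show g.1 1 0 * (g.1 0 0 + g.1 1 1) = 0 by linear_combination h10)).resolve_left h'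
    · exact (mul_eq_zero.1 (show (g.1 0 0 - g.1 1 1) * (g.1 0 0 + g.1 1 1) = 0 by
        linear_combination h00 - h11)).resolve_left (sub_ne_zero.2 h')

/-- Two commuting distinct involutions are centralised only by the four-group they generate. -/
theorem centralizer_pair (h2 : (2 : F) ≠ 0) {d e x : PSL} (hd : d ≠ 1) (he : e ≠ 1) (hne : d ≠ e)
    (hd2 : d * d = 1) (he2 : e * e = 1) (hde : d * e = e * d) (hxd : x * d = d * x) (hxe : x * e = e * x) :
    x = 1 ∨ x = d ∨ x = e ∨ x = d * e := by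
  obtain ⟨g, rfl⟩ := proj_surjective d
  obtain ⟨h, rfl⟩ := proj_surjective e
  obtain ⟨t, rfl⟩ := proj_surjective x
  have hg : NonScalar g := nonScalar_of_proj_ne_one hd
  have hh : NonScalar h := nonScalar_of_proj_ne_one he
  have e0 : h * g = g * h ∨ h * g = g * h * negOne := by
    rw [← map_mul, ← map_mul, proj_eq_iff] at hde; exact hde
  have e1 : t * g = g * t ∨ t * g = g * t * negOne := by
    have := hxd.symm; rw [← map_mul, ← map_mul, proj_eq_iff] at this; exact this
  have e2 : t * h = h * t ∨ t * h = h * t * negOne := by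
    have := hxe.symm; rw [← map_mul, ← map_mul, proj_eq_iff] at this; exact this
  have hne1 : ∀ a : SL, a * negOne ≠ a := fun a hh => negOne_ne_one h2 (mul_eq_left.1 hh)
  have hgh : h * g = g * h * negOne := by
    refine e0.resolve_left fun hc => ?_
    -- otherwise `h` lies in the torus of `g` and is `g` up to sign
    have htg : slTr g = 0 := slTr_eq_zero_of_invol h2 hd2 hd
    have hth : slTr h = 0 := slTr_eq_zero_of_invol h2 he2 he
    rcases eq_or_eq_inv h2 hg (by rw [htg]; exact fun hh => h2 (mul_self_eq_zero.mp (by linear_combination -hh))) hc (hth.trans htg.symm) with h' | h'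
    · exact hne (by rw [h'])
    · refine hne ?_
      rw [h', map_inv]
      exact (inv_eq_of_mul_eq_one_right hd2).symm
  -- adjust `t` by `g` and `h` so that it commutes with both
  have key : ∀ s : SL, s * g = g * s → s * h = h * s → proj s = 1 := by
    intro s sg sh
    by_contra hs
    have := commute_of_commute (nonScalar_of_proj_ne_one hs) sg.symm sh.symm
    rw [hgh] at this
    exact hne1 (g * h) this.symm
  have hdi : proj g⁻¹ = proj g := by rw [map_inv]; exact inv_eq_of_mul_eq_one_right hd2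
  have hei : proj h⁻¹ = proj h := by rw [map_inv]; exact inv_eq_of_mul_eq_one_right he2
  obtain ⟨k1, k2, k3⟩ := twist negOne_central negOne_sq hgh (t := t)
  rcases e1 with e1 | e1 <;> rcases e2 with e2 | e2
  · exact Or.inl (key t e1 e2)
  · have hk := key _ (k1 e1 e2).1 (k1 e1 e2).2
    rw [map_mul, mul_eq_one_iff_eq_inv, ← map_inv, hdi] at hk
    exact Or.inr (Or.inl hk)
  · have hk := key _ (k2 e1 e2).1 (k2 e1 e2).2
    rw [map_mul, mul_eq_one_iff_eq_inv, ← map_inv, hei] at hk
    exact Or.inr (Or.inr (Or.inl hk))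
  · have hk := key _ (k3 e1 e2).1 (k3 e1 e2).2
    rw [map_mul, map_mul, mul_eq_one_iff_eq_inv, _root_.mul_inv_rev, ← map_inv, ← map_inv, hdi, hei,
      ← hde] at hk
    exact Or.inr (Or.inr (Or.inr hk))

theorem card_centralizer_invol (hF : Fintype.card F = 3 ^ (2 * n + 1)) (hn : 1 ≤ n) {e : PSL}
    (he : e * e = 1) (he1 : e ≠ 1) : 4 < Nat.card (Subgroup.centralizer ({e} : Set PSL)) := by
  have h8 := q_mod_eight hF
  have h2 := two_ne_zero_of_odd (F := F) (by omega)
  obtain ⟨g, rfl⟩ := proj_surjective e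
  have ht := slTr_eq_zero_of_invol h2 he he1
  have hT := PSLTwo.ClassSizeValues.torus_zero_three (by omega) (nonScalar_of_proj_ne_one he1) ht
  have hp := card_pre_zero h2 ht
  rw [hT] at hp
  have hq : 27 ≤ Fintype.card F := by
    rw [hF]; exact le_of_eq_of_le (by norm_num) (Nat.pow_le_pow_right (by norm_num) (show 3 ≤ 2 * n + 1 by omega))
  have hk := (proj (F := F)).ker.card_mul_index
  have hpre : Nat.card (pre g) ≤ 2 * Nat.card (Subgroup.centralizer ({proj g} : Set PSL)) := by
    have h1 := Subgroup.card_mul_index ((proj (F := F)).ker.subgroupOf (pre g))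
    have h3 : ((proj (F := F)).ker.subgroupOf (pre g)).index ≤
        Nat.card (Subgroup.centralizer ({proj g} : Set PSL)) := by
      have : (proj (F := F)).ker.subgroupOf (pre g) = (proj.comp (pre g).subtype).ker := rfl
      rw [this, Subgroup.index_ker]
      refine Nat.card_le_card_of_injective (fun x => ⟨x.1, by obtain ⟨y, hy⟩ := x.2; exact hy ▸ y.2⟩)
        fun x y hxy => Subtype.ext (congrArg (fun t : Subgroup.centralizer ({proj g} : Set PSL) => (t : PSL)) hxy)
    have h4 : Nat.card ((proj (F := F)).ker.subgroupOf (pre g)) ≤ 2 := by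
      classical
      refine (Nat.card_le_card_of_injective (fun x : (proj (F := F)).ker.subgroupOf (pre g) =>
        decide ((x : pre g).1 = 1)) fun x y hxy => ?_).trans (le_of_eq (by simp))
      apply Subtype.ext; apply Subtype.ext
      simp only [decide_eq_decide] at hxy
      rcases proj_eq_one_iff.1 x.2 with hx | hx <;> rcases proj_eq_one_iff.1 y.2 with hy | hy <;>
        simp only [Subgroup.coe_subtype] at hx hy
      · rw [hx, hy]
      · exact absurd (hxy.1 hx) (by rw [hy]; exact negOne_ne_one h2)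
      · exact absurd (hxy.2 hy) (by rw [hx]; exact negOne_ne_one h2)
      · rw [hx, hy]
    calc Nat.card (pre g) = _ := h1.symm
      _ ≤ _ := Nat.mul_le_mul h4 h3
  omega

theorem hasPairs_psl (hF : Fintype.card F = 3 ^ (2 * n + 1)) (hn : 1 ≤ n)
    (hO : ∀ N : Subgroup PSL, N.Normal → IsPGroup 2 N → N = ⊥) : HasPairs PSL := by
  haveI : Fact (Nat.Prime 2) := ⟨Nat.prime_two⟩
  have h8 := q_mod_eight hF
  have h2 := two_ne_zero_of_odd (F := F) (by omega)
  intro D hD hne
  obtain ⟨e, he, he1⟩ := (Subgroup.bot_or_exists_ne_one D).resolve_left hne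
  have hord : orderOf e = 2 := orderOf_eq_prime (hD.2 e he) he1
  by_cases hall : ∀ z ∈ D, z = 1 ∨ z = e
  · -- order two
    obtain ⟨g, r, hr, hr2, hdiv⟩ := exists_odd_prime_pair hord fun N hN hp hmem =>
      he1 (by have := hO N hN hp ▸ hmem; rwa [Subgroup.mem_bot] at this)
    refine ⟨⊥, e, g, r, bot_le, he, by rwa [Subgroup.mem_bot], ?_, hr, hr2, hdiv, Or.inl ?_⟩
    · exact Subgroup.mem_centralizer_iff.2 fun b hb => by
        rw [SetLike.mem_coe, Subgroup.mem_bot] at hb; subst hb; simp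
    · rw [Subgroup.relIndex_bot_left]
      classical
      refine (Nat.card_le_card_of_injective (fun z : D => decide ((z : PSL) = 1)) fun x y hxy => ?_).trans
        (le_of_eq (by simp))
      apply Subtype.ext
      rcases hall x x.2 with hx | hx <;> rcases hall y y.2 with hy | hy <;>
        simp [hx, hy, he1] at hxy ⊢
  push Not at hall
  obtain ⟨d, hd, hd1, hde'⟩ := hall
  have hd2 : d * d = 1 := by rw [← pow_two]; exact hD.2 d hd
  have he2 : e * e = 1 := by rw [← pow_two]; exact hD.2 e he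
  have hde : d * e = e * d := PGroups.elemAb_comm hD hd he
  set C := Subgroup.centralizer ({e} : Set PSL) with hC
  have hdC : d ∈ C := Subgroup.mem_centralizer_singleton_iff.2 hde
  have heC : e ∈ C := Subgroup.mem_centralizer_singleton_iff.2 rfl
  let d' : C := ⟨d, hdC⟩
  have hord' : orderOf d' = 2 := by
    rw [← Subgroup.orderOf_coe]; exact orderOf_eq_prime (hD.2 d hd) hd1
  obtain ⟨g, r, hr, hr2, hdiv⟩ := exists_odd_prime_pair hord' fun N hN hp hmem => by
    -- a normal 2-subgroup `N ∋ d` of `C(e)` lies in a four-group, which is then normal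
    set M := (N ⊔ Subgroup.zpowers (⟨e, heC⟩ : C)) with hM
    have hcen : ∀ y : C, y * ⟨e, heC⟩ = ⟨e, heC⟩ * y := fun y =>
      Subtype.ext (Subgroup.mem_centralizer_singleton_iff.1 y.2)
    have hzn : (Subgroup.zpowers (⟨e, heC⟩ : C)).Normal := ⟨fun x hx y => by
      obtain ⟨k, rfl⟩ := hx
      rw [((show Commute y (⟨e, heC⟩ : C) from hcen y).zpow_right k).eq, mul_inv_cancel_right]
      exact Subgroup.zpow_mem_zpowers _ k⟩
    have hMn : M.Normal := Subgroup.sup_normal _ _
    have hzp : IsPGroup 2 (Subgroup.zpowers (⟨e, heC⟩ : C)) :=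
      IsPGroup.of_card (n := 1) (by rw [Nat.card_zpowers, ← Subgroup.orderOf_coe, pow_one]; exact hord)
    have hMp : IsPGroup 2 M := hp.to_sup_of_normal_right hzp
    have hMcard : Nat.card M ≤ 4 := by
      obtain ⟨i, hi⟩ := hMp.exists_card_eq
      have h := (Subgroup.card_dvd_of_injective (C.subtype.comp M.subtype)
        (C.subtype_injective.comp M.subtype_injective))
      rw [hi] at h ⊢
      by_contra hlt
      push Not at hlt
      have : 3 ≤ i := (Nat.pow_lt_pow_iff_right (by norm_num : 1 < 2)).mp (show 2 ^ 2 < 2 ^ i from hlt)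
      exact not_eight_dvd_card hF ((pow_dvd_pow 2 this : 2 ^ 3 ∣ 2 ^ i).trans h)
    have heM : (⟨e, heC⟩ : C) ∈ M := Subgroup.mem_sup_right (Subgroup.mem_zpowers _)
    have hdM : d' ∈ M := Subgroup.mem_sup_left hmem
    have hlist : ∀ y ∈ M, y = 1 ∨ y = d' ∨ y = ⟨e, heC⟩ ∨ y = d' * ⟨e, heC⟩ := by
      classical
      haveI : Fintype M := Fintype.ofFinite M
      intro y hy
      by_contra hno
      simp only [not_or] at hno
      obtain ⟨n1, n2, n3, n4⟩ := hno
      let L : Finset M := {1, ⟨d', hdM⟩, ⟨⟨e, heC⟩, heM⟩, ⟨d' * ⟨e, heC⟩, M.mul_mem hdM heM⟩, ⟨y, hy⟩}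
      have hL : L.card = 5 := by
        have q1 : d' ≠ 1 := fun h => hd1 (congrArg Subtype.val h)
        have q2 : (⟨e, heC⟩ : C) ≠ 1 := fun h => he1 (congrArg Subtype.val h)
        have q3 : d' ≠ ⟨e, heC⟩ := fun h => hde' (congrArg Subtype.val h)
        have q4 : d' * ⟨e, heC⟩ ≠ 1 := fun h => hde' (by
          have h' : d * e = 1 := congrArg Subtype.val h
          rw [mul_eq_one_iff_eq_inv, inv_eq_of_mul_eq_one_right he2] at h'; exact h')
        simp [L, Finset.card_insert_of_notMem, Subtype.ext_iff (p := fun x => x ∈ M), Ne.symm q1, Ne.symm q2,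
          q3, Ne.symm q4, q1, q2, Ne.symm n1, Ne.symm n2, Ne.symm n3, Ne.symm n4]
      have := Finset.card_le_univ L
      rw [hL, ← Nat.card_eq_fintype_card] at this
      omega
    -- so `C(e)` centralises `d`
    have hfix : ∀ x : C, x * d' = d' * x := by
      by_contra hno
      push Not at hno
      obtain ⟨x, hx⟩ := hno
      have hsq : ∀ y : C, y * y * d' * (y * y)⁻¹ = d' := by
        intro y
        have hy1 : ∀ w : C, w * d' * w⁻¹ = d' ∨ w * d' * w⁻¹ = d' * ⟨e, heC⟩ := by
          intro w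
          rcases hlist _ (hMn.conj_mem d' hdM w) with h | h | h | h
          · exact absurd (conj_eq_one_iff.1 h) fun h => hd1 (congrArg Subtype.val h)
          · exact Or.inl h
          · exfalso
            rw [mul_inv_eq_iff_eq_mul, ← hcen] at h
            exact hde' (congrArg Subtype.val (mul_left_cancel h))
          · exact Or.inr h
        rcases hy1 y with h | h
        · rw [show y * y * d' * (y * y)⁻¹ = y * (y * d' * y⁻¹) * y⁻¹ by group, h, h]
        · rw [show y * y * d' * (y * y)⁻¹ = y * (y * d' * y⁻¹) * y⁻¹ by group, h, ← conj_mul, h,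
            show y * (⟨e, heC⟩ : C) * y⁻¹ = ⟨e, heC⟩ by rw [hcen y, mul_inv_cancel_right],
            mul_assoc, show (⟨e, heC⟩ : C) * ⟨e, heC⟩ = 1 from Subtype.ext he2, mul_one]
      obtain ⟨p₀, k, hp₀, -, hpk, -, ⟨j, hj⟩, hko⟩ :=
        Lib.Transfer.PResidual.exists_pPart_mul_pPrimePart (p := 2) x (isOfFinOrder_of_finite x)
      -- the odd part commutes
      obtain ⟨i, hi⟩ : ∃ i, k = k ^ i * k ^ i := by
        obtain ⟨i, hi⟩ := Nat.coprime_two_right.1 hko
        refine ⟨i + 1, ?_⟩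
        rw [← pow_add, show i + 1 + (i + 1) = orderOf k + 1 by omega, pow_succ, pow_orderOf_eq_one, one_mul]
      have hk : k * d' = d' * k := by
        rw [hi]; exact mul_inv_eq_iff_eq_mul.1 (hsq (k ^ i))
      -- the two-part lies in the four-group
      have hpM : p₀ ∈ M := by
        have hz : IsPGroup 2 (Subgroup.zpowers p₀) := by
          obtain ⟨i, -, hi⟩ := (Nat.dvd_prime_pow Nat.prime_two).1 (orderOf_dvd_of_pow_eq_one hj)
          exact IsPGroup.of_card (n := i) (by rw [Nat.card_zpowers, hi])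
        have hsup : IsPGroup 2 ↥(Subgroup.zpowers p₀ ⊔ M) := hz.to_sup_of_normal_right hMp
        have h4 : 4 ≤ Nat.card M := by
          classical
          haveI : Fintype M := Fintype.ofFinite M
          let L : Finset M := {1, ⟨d', hdM⟩, ⟨⟨e, heC⟩, heM⟩, ⟨d' * ⟨e, heC⟩, M.mul_mem hdM heM⟩}
          have hL : L.card = 4 := by
            have q1 : d' ≠ 1 := fun h => hd1 (congrArg Subtype.val h)
            have q2 : (⟨e, heC⟩ : C) ≠ 1 := fun h => he1 (congrArg Subtype.val h)
            have q3 : d' ≠ ⟨e, heC⟩ := fun h => hde' (congrArg Subtype.val h)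
            have q4 : d' * ⟨e, heC⟩ ≠ 1 := fun h => hde' (by
              have h' : d * e = 1 := congrArg Subtype.val h
              rw [mul_eq_one_iff_eq_inv, inv_eq_of_mul_eq_one_right he2] at h'; exact h')
            simp [L, Finset.card_insert_of_notMem, Subtype.ext_iff (p := fun x => x ∈ M), Ne.symm q1, Ne.symm q2,
              q3, Ne.symm q4, q1, q2]
          have := Finset.card_le_univ L
          rwa [hL, ← Nat.card_eq_fintype_card] at this
        obtain ⟨i, hi⟩ := hsup.exists_card_eq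
        have hle : Nat.card ↥(Subgroup.zpowers p₀ ⊔ M) ≤ 4 := by
          have h := Subgroup.card_dvd_of_injective (C.subtype.comp (Subgroup.zpowers p₀ ⊔ M).subtype)
            (C.subtype_injective.comp (Subgroup.zpowers p₀ ⊔ M).subtype_injective)
          rw [hi] at h ⊢
          by_contra hlt
          push Not at hlt
          have : 3 ≤ i := (Nat.pow_lt_pow_iff_right (by norm_num : 1 < 2)).mp (show 2 ^ 2 < 2 ^ i from hlt)
          exact not_eight_dvd_card hF ((pow_dvd_pow 2 this : 2 ^ 3 ∣ 2 ^ i).trans h)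
        have := Subgroup.eq_of_le_of_card_ge (le_sup_right : M ≤ Subgroup.zpowers p₀ ⊔ M) (hle.trans h4)
        exact this ▸ Subgroup.mem_sup_left (Subgroup.mem_zpowers p₀)
      apply hx
      have hpd : p₀ * d' = d' * p₀ := by
        rcases hlist p₀ hpM with h | h | h | h <;> rw [h]
        · simp
        · exact (hcen d').symm
        · rw [mul_assoc d' (⟨e, heC⟩ : C) d', ← hcen d']
      rw [← hpk]
      exact (show Commute p₀ d' from hpd).mul_left hk
    have hle : Nat.card C ≤ 4 := by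
      classical
      let lst : Finset PSL := {1, d, e, d * e}
      have hin : ∀ x : C, (x : PSL) ∈ lst := fun x => by
        have := centralizer_pair h2 hd1 he1 hde' hd2 he2 hde (congrArg Subtype.val (hfix x))
          (Subgroup.mem_centralizer_singleton_iff.1 x.2)
        simpa [lst] using this
      refine (Nat.card_le_card_of_injective (fun x : C => (⟨(x : PSL), hin x⟩ : lst)) fun x y hxy =>
        Subtype.ext (by simpa using congrArg (fun t : lst => (t : PSL)) hxy)).trans ?_
      rw [Nat.card_eq_fintype_card, Fintype.card_coe]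
      exact (Finset.card_insert_le _ _).trans (Nat.succ_le_succ ((Finset.card_insert_le _ _).trans
        (Nat.succ_le_succ ((Finset.card_insert_le _ _).trans (by simp)))))
    have h5 : 4 < Nat.card C := card_centralizer_invol hF hn he2 he1
    exact absurd (h5.trans_le hle) (lt_irrefl _)
  refine ⟨Subgroup.zpowers e, d, g, r, Subgroup.zpowers_le.2 he, hd, ?_, ?_, hr, hr2, ?_, Or.inl ?_⟩
  · intro hmem
    have hb : d = 1 ∨ d = e := by
      obtain ⟨k, rfl⟩ := hmem
      rcases Int.even_or_odd k with ⟨i, rfl⟩ | ⟨i, rfl⟩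
      · left; simp only; rw [_root_.zpow_add, ← (Commute.refl e).mul_zpow, he2, _root_.one_zpow]
      · right; simp only; rw [_root_.zpow_add_one, two_mul, _root_.zpow_add, ← (Commute.refl e).mul_zpow, he2, _root_.one_zpow, one_mul]
    exact hb.elim hd1 hde'
  · refine Subgroup.mem_centralizer_iff.2 ?_
    rintro _ ⟨k, rfl⟩
    exact ((show Commute e (g : PSL) from (Subgroup.mem_centralizer_singleton_iff.1 g.2).symm).zpow_left k).eq
  · rw [← Subgroup.orderOf_coe] at hdiv
    exact hdiv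
  · obtain ⟨i, hi⟩ := PGroups.elemAb_card_eq_pow (p := 2) hD
    have h4 := card_le_four hF hD
    have h := ((Subgroup.zpowers e).subgroupOf D).index_mul_card
    rw [Nat.card_congr (Subgroup.subgroupOfEquivOfLe (Subgroup.zpowers_le.2 he)).toEquiv,
      Nat.card_zpowers, hord] at h
    show ((Subgroup.zpowers e).subgroupOf D).index ≤ 2
    omega

omit [Fintype F] in
theorem conjAut_mem_inn {g : GL (Fin 2) F} (hg : IsSquare (GeneralLinearGroup.det g : F)) :
    (conjAut g : MulAut PSL) ∈ (MulAut.conj (G := PSL)).range := by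
  obtain ⟨s, hs⟩ := hg
  have hs0 : s ≠ 0 := fun h => (GeneralLinearGroup.det g).ne_zero (by rw [hs, h, mul_zero])
  have hdet : (((GeneralLinearGroup.scalar (Fin 2) (Units.mk0 s hs0))⁻¹ * g : GL (Fin 2) F) :
      Matrix (Fin 2) (Fin 2) F).det = 1 := by
    rw [← GeneralLinearGroup.val_det_apply, map_mul, map_inv, Units.val_mul, Units.val_inv_eq_inv_val,
      GeneralLinearGroup.val_det_apply, GeneralLinearGroup.coe_scalar]
    rw [hs]
    simp
    field_simp
  let t : SL := ⟨_, hdet⟩
  have e : Matrix.SpecialLinearGroup.toGL t =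
      (GeneralLinearGroup.scalar (Fin 2) (Units.mk0 s hs0))⁻¹ * g := Units.ext rfl
  refine ⟨(QuotientGroup.mk t : PSL), ?_⟩
  have h := conjAut_toGL t
  rw [e, map_mul, map_inv, conjAut_scalar, inv_one, one_mul] at h
  exact h.symm

theorem conjAut_mem_of_nonsquare (h4 : Fintype.card F % 4 = 3) {H : Subgroup (MulAut PSL)}
    (hle : (MulAut.conj (G := PSL)).range ≤ H) {g₀ : GL (Fin 2) F}
    (hns : ¬ IsSquare (GeneralLinearGroup.det g₀ : F)) (h0 : (conjAut g₀ : MulAut PSL) ∈ H)
    (g : GL (Fin 2) F) : (conjAut g : MulAut PSL) ∈ H := by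
  have hsq : ∀ g : GL (Fin 2) F, IsSquare (GeneralLinearGroup.det g : F) → (conjAut g : MulAut PSL) ∈ H := by
    exact fun g hg => hle (conjAut_mem_inn hg)
  by_cases hg : IsSquare (GeneralLinearGroup.det g : F)
  · exact hsq g hg
  · have h2 : ringChar F ≠ 2 := fun hr => by
      have := FiniteField.even_card_iff_char_two.1 hr
      omega
    have hd : IsSquare (GeneralLinearGroup.det (g * g₀) : F) := by
      rw [map_mul, Units.val_mul, FiniteField.isSquare_iff h2 (mul_ne_zero (Units.ne_zero _) (Units.ne_zero _)),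
        mul_pow]
      rcases FiniteField.pow_dichotomy h2 (GeneralLinearGroup.det g).ne_zero with a | a
      · exact absurd ((FiniteField.isSquare_iff h2 (Units.ne_zero _)).2 a) hg
      rcases FiniteField.pow_dichotomy h2 (GeneralLinearGroup.det g₀).ne_zero with b | b
      · exact absurd ((FiniteField.isSquare_iff h2 (Units.ne_zero _)).2 b) hns
      rw [a, b]; norm_num
    have := H.mul_mem (hsq _ hd) (H.inv_mem h0)
    rwa [map_mul, mul_inv_cancel_right] at this

theorem innerTwo_psl (hF : Fintype.card F = 3 ^ (2 * n + 1)) : InnerTwo PSL := by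
  haveI : Fact (Nat.Prime 3) := ⟨Nat.prime_three⟩
  haveI := charP_three hF
  have h8 := q_mod_eight hF
  have h4 : Fintype.card F % 4 = 3 := by omega
  have h2 := two_ne_zero_of_odd (F := F) (by omega)
  have h3 : (3 : F) = 0 := CharP.cast_eq_zero F 3
  intro θ hθ
  obtain ⟨g₀, σ, γ, hγ, rfl⟩ := exists_decomp (n := 2) le_rfl θ
  obtain rfl : γ = 1 := hγ.resolve_right fun h => absurd h.1 (by norm_num)
  simp only [mul_one] at hθ ⊢
  have hσ : σ = 1 := by
    rw [mul_assoc, ← mul_assoc (fieldAut σ), fieldAut_conjAut, mul_assoc, ← map_mul fieldAut, ← mul_assoc,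
      ← map_mul] at hθ
    have h1 := (eq_one_of_conj_field le_rfl hθ).2
    have h5 : orderOf σ ∣ 2 := orderOf_dvd_of_pow_eq_one (by rw [pow_two]; exact h1)
    have h6 : orderOf σ ∣ 2 * n + 1 := card_fieldAuts hF ▸ orderOf_dvd_natCard σ
    exact orderOf_eq_one_iff.1 (Nat.eq_one_of_dvd_coprimes (by simp) h5 h6)
  subst hσ
  simp only [map_one, mul_one] at hθ ⊢
  by_cases hg : IsSquare (GeneralLinearGroup.det g₀ : F)
  · exact Or.inl (conjAut_mem_inn hg)
  refine Or.inr fun H hle hmem => ?_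
  have hall := conjAut_mem_of_nonsquare h4 hle hg hmem
  -- the monomial and unipotent matrices of `PGL₂(3)`
  let mk : ∀ M : Matrix (Fin 2) (Fin 2) F, M.det ≠ 0 → GL (Fin 2) F := fun M h =>
    Matrix.GeneralLinearGroup.mkOfDetNeZero M h
  let E := mk !![0, 1; -1, 0] (by simp [Matrix.det_fin_two_of])
  let P := mk !![1, 1; 1, -1] (by simp [Matrix.det_fin_two_of]; exact fun h => h2 (by linear_combination -h))
  let A := mk !![1, 0; 0, -1] (by simp [Matrix.det_fin_two_of])
  let B := mk !![1, 1; 0, -1] (by simp [Matrix.det_fin_two_of])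
  let φ : GL (Fin 2) F → H := fun g => ⟨conjAut g, hall g⟩
  have heq : ∀ g g' : GL (Fin 2) F, (∃ c : F, c ≠ 0 ∧ (g' : Matrix (Fin 2) (Fin 2) F) = c • (g : Matrix _ _ F)) →
      (conjAut g : MulAut PSL) = conjAut g' := by
    rintro g g' ⟨c, hc, h⟩
    refine (conjAut_eq_iff le_rfl).2 ⟨Units.mk0 c hc, Units.ext ?_⟩
    rw [Units.val_mul, GeneralLinearGroup.coe_scalar, h]
    ext i j
    simp [Matrix.scalar_apply, Matrix.diagonal_mul]
  have hne : ∀ g : GL (Fin 2) F, ((g : Matrix (Fin 2) (Fin 2) F) 0 1 ≠ 0 ∨ (g : Matrix (Fin 2) (Fin 2) F) 1 0 ≠ 0) → φ g ≠ 1 := by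
    intro g hg h
    obtain ⟨c, hc⟩ := exists_scalar_of_conjAut_eq_one le_rfl (congrArg Subtype.val h : conjAut g = 1)
    rw [hc] at hg
    simp [GeneralLinearGroup.coe_scalar, Matrix.scalar_apply] at hg
  have hφ : ∀ g g', φ (g * g') = φ g * φ g' := fun g g' => Subtype.ext (map_mul conjAut g g')
  have hφi : ∀ g, (φ g)⁻¹ = φ g⁻¹ := fun g => Subtype.ext (map_inv conjAut g).symm
  have conj_eq : ∀ a e f : GL (Fin 2) F, (∃ c : F, c ≠ 0 ∧
      ((f * a : GL (Fin 2) F) : Matrix (Fin 2) (Fin 2) F) = c • ((a * e : GL (Fin 2) F) : Matrix _ _ F)) →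
      φ a * φ e * (φ a)⁻¹ = φ f := by
    intro a e f h
    rw [mul_inv_eq_iff_eq_mul, ← hφ, ← hφ]
    exact Subtype.ext (heq _ _ h)
  refine FourFree.Section.involves_s4 (a := φ A) (b := φ B) (e := φ E) (f := φ P) ?_ ?_ ?_
    (hne _ (Or.inl (by simp [E, mk]))) (hne _ (Or.inl (by simp [P, mk]))) ?_ ?_ ?_ ?_ ?_
  · rw [← hφ]
    refine Subtype.ext ((heq _ 1 ⟨-1, by simp, ?_⟩).trans (map_one _))
    ext i j; fin_cases i <;> fin_cases j <;> simp [E, mk, Matrix.mul_apply, Fin.sum_univ_two]
  · rw [← hφ]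
    refine Subtype.ext ((heq _ 1 ⟨-1, by simp, ?_⟩).trans (map_one _))
    ext i j; fin_cases i <;> fin_cases j <;> simp [P, mk, Matrix.mul_apply, Fin.sum_univ_two] <;>
      linear_combination h3
  · rw [← hφ, ← hφ]
    refine Subtype.ext (heq _ _ ⟨-1, by simp, ?_⟩)
    ext i j; fin_cases i <;> fin_cases j <;> simp [E, P, mk, Matrix.mul_apply, Fin.sum_univ_two]
  · intro h
    obtain ⟨c, hc⟩ := (conjAut_eq_iff le_rfl).1 (congrArg Subtype.val h)
    have e00 := congrArg (fun g : GL (Fin 2) F => (g : Matrix (Fin 2) (Fin 2) F) 0 0) hc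
    simp [E, P, mk, GeneralLinearGroup.coe_scalar, Matrix.scalar_apply, Matrix.diagonal_mul] at e00
  · refine conj_eq _ _ _ ⟨-1, by simp, ?_⟩
    ext i j; fin_cases i <;> fin_cases j <;> simp [E, A, mk, Matrix.mul_apply, Fin.sum_univ_two]
  · rw [← hφ E P]
    refine conj_eq _ _ _ ⟨1, one_ne_zero, ?_⟩
    ext i j; fin_cases i <;> fin_cases j <;> simp [E, P, A, mk, Matrix.mul_apply, Fin.sum_univ_two]
  · refine conj_eq _ _ _ ⟨-1, by simp, ?_⟩
    ext i j; fin_cases i <;> fin_cases j <;> simp [P, B, mk, Matrix.mul_apply, Fin.sum_univ_two] <;>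
      linear_combination h3
  · rw [← hφ E P]
    refine conj_eq _ _ _ ⟨-1, by simp, ?_⟩
    ext i j; fin_cases i <;> fin_cases j <;> simp [E, P, B, mk, Matrix.mul_apply, Fin.sum_univ_two] <;>
      linear_combination h3

end Psl

/-- The two families. -/
theorem good_of_simple {X : Type u} [Group X] [Finite X] (hs : IsSimpleGroup X) (hna : ¬ IsMulCommutative X)
    (h : Cfsg.IsSuzukiOrPSL2OddPowerThree X) : InnerTwo X ∧ HasPairs X := by
  rcases h with ⟨F, _, _, m, hm, hF, ⟨e⟩⟩ | ⟨F, _, _, n, hF, ⟨e⟩⟩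
  · have hSz : Cfsg.Agent.Lib.LieTwisted.Suzuki.IsSzField F m := ⟨hF⟩
    let e' : Cfsg.Sz F m ≃* X := (Cfsg.Agent.Lib.LieTwisted.Suzuki.szEquiv hSz hm).trans e.symm
    exact ⟨(innerTwo_sz hSz hm).congr e', (hasPairs_sz hSz hm).congr e'⟩
  · haveI : Fact (Nat.Prime 2) := ⟨Nat.prime_two⟩
    haveI : IsSimpleGroup (Matrix.ProjectiveSpecialLinearGroup (Fin 2) F) := IsSimpleGroup.isSimpleGroup_of_surjective
      e.toMonoidHom e.surjective
    have hna' : ¬ IsMulCommutative (Matrix.ProjectiveSpecialLinearGroup (Fin 2) F) := fun hc =>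
      hna ((KnownSimple.isMulCommutative_congr e).2 hc)
    have hO : ∀ N : Subgroup (Matrix.ProjectiveSpecialLinearGroup (Fin 2) F), N.Normal → IsPGroup 2 N → N = ⊥ := by
      intro N hN hp
      refine (hN.eq_bot_or_eq_top).resolve_right fun htop => ?_
      subst htop
      have hp' : IsPGroup 2 (Matrix.ProjectiveSpecialLinearGroup (Fin 2) F) := hp.of_equiv Subgroup.topEquiv
      haveI := hp'.isNilpotent
      exact KnownSimple.not_isSolvable_of_simple inferInstance hna' inferInstance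
    rcases Nat.eq_zero_or_pos n with rfl | hn
    · exfalso
      have h12 : Nat.card (Matrix.ProjectiveSpecialLinearGroup (Fin 2) F) < 60 := by
        have := Cfsg.Agent.Lib.Linear.two_mul_card_PSL_two_of_odd (F := F) (by rw [hF]; decide)
        rw [hF] at this; norm_num at this; omega
      exact KnownSimple.not_isSolvable_of_simple inferInstance hna'
        (Spectrum.isSolvable_of_card_lt_sixty _ rfl h12)
    · exact ⟨(innerTwo_psl hF).congr e.symm, (hasPairs_psl hF hn hO).congr e.symm⟩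

end Cfsg.Agent.Lib.GlaubermanTwo54
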