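import Cfsg.Agent.Lib.GlaubermanTwo54.Bound
import Cfsg.Agent.Lib.SFourFree.Reduced
import Cfsg.Agent.S2759

/-!
# Sections on which an involution induces a transvection; the two bounds

Owner: helper54.
-/

set_option autoImplicit false
set_option linter.style.haveILetI false
set_option linter.unusedSectionVars false

namespace Cfsg.Agent.Lib.GlaubermanTwo54

open PLocal
open scoped commutatorElement

universe u

variable {L : Type u} [Group L]

/-- A transvection on a section inverting an element of odd order. -/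
theorem section_transvection [Finite L] {N W : Subgroup L} (hW : Cfsg.IsElementaryAbelian 2 W) {a k : L}
    (ha : a ∈ Subgroup.normalizer (W : Set L)) (hk : k ∈ Subgroup.normalizer (W : Set L))
    (haN : a ∈ Subgroup.normalizer (N : Set L)) (hkN : k ∈ Subgroup.normalizer (N : Set L)) (hNW : N ≤ W)
    (ha2 : a * a ∈ Subgroup.centralizer (W : Set L)) (hodd : Odd (orderOf k))
    (hinv : a * k * a⁻¹ * k ∈ Subgroup.centralizer (W : Set L)) (hw : ∃ w ∈ W, ⁅w, k⁆ ∉ N)
    (hle : Nat.card W ≤ 2 * Nat.card (secFix hW N a ha)) :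
    Cfsg.Involves (Equiv.Perm (Fin 4)) L ∧
      ∀ M : Subgroup L, a ∈ M → k ∈ M → Cfsg.Involves (Equiv.Perm (Fin 3)) ↥M := by
  classical
  set H := Subgroup.normalizer (W : Set L) ⊓ Subgroup.normalizer (N : Set L) with hH
  have hWH : W ≤ H := le_inf Subgroup.le_normalizer (fun w hw => Subgroup.centralizer_le_normalizer _
    (Subgroup.mem_centralizer_iff.2 fun n hn => PGroups.elemAb_comm hW (hNW hn) hw))
  haveI : (N.subgroupOf H).Normal :=
    (Subgroup.normal_subgroupOf_iff_le_normalizer (hNW.trans hWH)).2 inf_le_right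
  set π := QuotientGroup.mk' (N.subgroupOf H) with hπ
  set W' := W.subgroupOf H with hW'
  set a' : H := ⟨a, ha, haN⟩
  set k' : H := ⟨k, hk, hkN⟩
  have hW'el : Cfsg.IsElementaryAbelian 2 (W'.map π) :=
    PGroups.elemAb_map _ (PGroups.elemAb_subgroupOf hW H)
  have hn : ∀ g : H, π g ∈ Subgroup.normalizer (W'.map π : Set _) := by
    intro g
    refine Subgroup.le_normalizer_map π ⟨g, ?_, rfl⟩
    rw [hW', ← Subgroup.subgroupOf_normalizer_eq hWH]
    exact g.2.1
  have hC : ∀ g : H, (g : L) ∈ Subgroup.centralizer (W : Set L) →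
      π g ∈ Subgroup.centralizer (W'.map π : Set _) := by
    intro g hg
    refine Subgroup.mem_centralizer_iff.2 ?_
    rintro _ ⟨w, hw, rfl⟩
    rw [← map_mul, ← map_mul]
    exact congrArg π (Subtype.ext (Subgroup.mem_centralizer_iff.1 hg w hw))
  have hmem : ∀ x : H, π x = 1 ↔ (x : L) ∈ N := fun x => QuotientGroup.eq_one_iff x
  have hkC : π k' ∉ Subgroup.centralizer (W'.map π : Set _) := by
    intro hc
    obtain ⟨w, hw, hwN⟩ := hw
    apply hwN
    have h1 := Subgroup.mem_centralizer_iff.1 hc (π ⟨w, hWH hw⟩) ⟨_, hw, rfl⟩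
    have h2 : π ⁅(⟨w, hWH hw⟩ : H), k'⁆ = 1 := by
      rw [map_commutatorElement, commutatorElement_eq_one_iff_mul_comm]
      exact h1
    exact (hmem _).1 h2
  have hodd' : Odd (orderOf (π k')) := by
    refine hodd.of_dvd_nat ?_
    have := orderOf_map_dvd π k'
    rwa [← Subgroup.orderOf_coe k'] at this
  have hidx : Nat.card (W'.map π) ≤ 2 * Nat.card (fixOn (W'.map π) (Subgroup.zpowers (π a'))) := by
    set F := (secFix hW N a ha).map W.subtype with hF
    have hFW : F ≤ W := Subgroup.map_subtype_le _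
    have hFc : Nat.card F = Nat.card (secFix hW N a ha) := Subgroup.card_map_of_injective W.subtype_injective
    have hNF : N ≤ F := fun x hx => ⟨⟨x, hNW hx⟩, commutatorElement_mem haN hx, rfl⟩
    have hcard : ∀ U : Subgroup L, N ≤ U → U ≤ H →
        Nat.card ((U.subgroupOf H).map π) * Nat.card N = Nat.card U := by
      intro U hNU hUH
      rw [← Subgroup.relIndex_ker, QuotientGroup.ker_mk', Subgroup.relIndex_subgroupOf hUH,
        ← Subgroup.relIndex_bot_left N, mul_comm, Subgroup.relIndex_mul_relIndex _ _ _ bot_le hNU,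
        Subgroup.relIndex_bot_left]
    have h3 : (F.subgroupOf H).map π ≤ fixOn (W'.map π) (Subgroup.zpowers (π a')) := by
      rintro _ ⟨x, hx, rfl⟩
      obtain ⟨w, hwF, hwx⟩ := hx
      replace hwx : (w : L) = (x : L) := hwx
      refine SFourFree.mem_fixOn_zpowers.2 ⟨⟨x, ?_, rfl⟩, ?_⟩
      · show (x : L) ∈ W
        rw [← hwx]; exact w.2
      · rw [← map_mul, ← map_mul, QuotientGroup.mk'_eq_mk']
        refine ⟨⁅x⁻¹, a'⁻¹⁆, ?_, by simp only [commutatorElement_def]; group⟩
        show ⁅(x : L)⁻¹, a⁻¹⁆ ∈ N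
        have e : ⁅(x : L)⁻¹, a⁻¹⁆ = (a * x)⁻¹ * ⁅(x : L), a⁆ * (a * x) := by
          simp only [commutatorElement_def]; group
        rw [e, ← hwx]
        refine (Subgroup.mem_normalizer_iff''.1 (mul_mem haN ?_) _).1 hwF
        exact (hWH w.2).2
    have h4 := Subgroup.card_le_of_le h3
    refine (Nat.le_of_mul_le_mul_right ?_ (Nat.card_pos (α := N))).trans (Nat.mul_le_mul_left 2 h4)
    rw [hW', hcard W hNW hWH, mul_assoc, hcard F hNF (hFW.trans hWH), hFc]
    exact hle
  have ha2' : π a' * π a' ∈ Subgroup.centralizer (W'.map π : Set _) := by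
    rw [← map_mul]; exact hC _ ha2
  have hinv' : π a' * π k' * (π a')⁻¹ * π k' ∈ Subgroup.centralizer (W'.map π : Set _) := by
    rw [← map_inv, ← map_mul, ← map_mul, ← map_mul]; exact hC _ hinv
  refine ⟨Transfer.InvolvesS4.involves_of_injective H.subtype H.subtype_injective
    (Transfer.InvolvesS4.involves_of_surjective π (QuotientGroup.mk'_surjective _)
      (SFourFree.involves_four_of_transvection hW'el (hn a') (hn k') ha2' hodd' hkC hinv' hidx)),
    fun M haM hkM => ?_⟩
  obtain ⟨e, f, heV, hfV, he, hf, hne, h1, h2, h3, h4⟩ :=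
    SFourFree.exists_pair_of_transvection hW'el (hn a') (hn k') ha2' hodd' hkC hinv' hidx
  set M' := (M.subgroupOf H).map π
  have hinv3 := SFourFree.involves_three_of_pair (M := M') (a := π a') (b := π k' * π a' * (π k')⁻¹)
    ⟨a', haM, rfl⟩ (mul_mem (mul_mem ⟨k', hkM, rfl⟩ ⟨a', haM, rfl⟩) (inv_mem ⟨k', hkM, rfl⟩))
    (by rw [← pow_two]; exact hW'el.2 e heV) (by rw [← pow_two]; exact hW'el.2 f hfV)
    (PGroups.elemAb_comm hW'el heV hfV) he hf hne h1 h2 h3 h4
  let ι : ↥(M.subgroupOf H) →* ↥M :=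
    { toFun := fun x => ⟨((x : H) : L), x.2⟩
      map_one' := rfl
      map_mul' := fun _ _ => rfl }
  exact Transfer.InvolvesS4.involves_of_injective ι
    (fun x y h => Subtype.ext (Subtype.ext (congrArg (fun t : M => (t : L)) h)))
    (Transfer.InvolvesS4.involves_of_surjective (π.subgroupMap (M.subgroupOf H))
      (π.subgroupMap_surjective _) hinv3)

theorem noT_of_three_free [Finite L] {V G : Subgroup L} (h : ¬ Cfsg.Involves (Equiv.Perm (Fin 3)) ↥G) :
    NoT V G := by
  intro N W hW a k ha hNW _ haG hkG hkW haN hkN ha2 hodd hinv hw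
  by_contra hcon
  push Not at hcon
  refine h ((section_transvection hW ha hkW haN hkN hNW (by rw [ha2]; exact one_mem _) hodd ?_ hw hcon).2 G haG hkG)
  rw [hinv, inv_mul_cancel]; exact one_mem _

theorem four_free_of_three_free {G : Type u} [Group G] (h : ¬ Cfsg.Involves (Equiv.Perm (Fin 3)) G) :
    ¬ Cfsg.Involves (Equiv.Perm (Fin 4)) G := by
  intro h4
  obtain ⟨K, φ, hφ⟩ := Transfer.InvolvesS4.exists_hom_of_involves h4
  refine h (Transfer.InvolvesS4.involves_of_hom K (Cfsg.Agent.S2759.pairHom.comp φ) fun ρ => ?_)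
  obtain ⟨σ, hσ⟩ := Cfsg.Agent.S2759.pairFun_surj ρ
  obtain ⟨x, hx⟩ := hφ σ
  exact ⟨x, by rw [MonoidHom.comp_apply, hx]; exact Equiv.ext hσ⟩

theorem bound_of_three_free [Finite L] {V G : Subgroup L} (hV : Cfsg.IsElementaryAbelian 2 V)
    (hGV : G ≤ Subgroup.normalizer (V : Set L)) (hf : G ⊓ Subgroup.centralizer (V : Set L) = ⊥)
    (hcore : Cfsg.pCore 2 ↥G = ⊥) (h3 : ¬ Cfsg.Involves (Equiv.Perm (Fin 3)) ↥G)
    (hc : Cfsg.IsCompositionKGroupWith Cfsg.IsSuzukiOrPSL2OddPowerThree ↥G)
    (A : Subgroup L) (hAG : A ≤ G) (hA : Cfsg.IsElementaryAbelian 2 A) :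
    Nat.card A ^ 2 * Nat.card (fixOn V A) ≤ Nat.card V ∧ Nat.card A ^ 2 ≤ Nat.card ↥⁅V, A⁆ :=
  bound hV hGV hf (noT_of_three_free h3) (fun _ hB hne => hasPair hcore (four_free_of_three_free h3) hc hB hne)
    A hAG hA

section Reduced

variable {G : Type u} [Group G] (V : Subgroup G) [V.Normal]

/-- The part of `U` inside `V`, seen in `G`. -/
def pull (U : Subgroup (actGroup V)) : Subgroup G := (U.comap (actEmb V)).map V.subtype

theorem mem_pull {U : Subgroup (actGroup V)} {v : V} : (v : G) ∈ pull V U ↔ actEmb V v ∈ U :=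
  Subgroup.mem_map_iff_mem V.subtype_injective

theorem card_pull {U : Subgroup (actGroup V)} (hU : U ≤ actV V) : Nat.card (pull V U) = Nat.card U := by
  rw [pull, Subgroup.card_map_of_injective V.subtype_injective,
    ← Subgroup.card_map_of_injective (actEmb_injective V), Subgroup.map_comap_eq,
    inf_eq_right.mpr (show U ≤ (actEmb V).range from hU)]

theorem mem_normalizer_pull {U : Subgroup (actGroup V)} {g : G}
    (hg : actHom V g ∈ Subgroup.normalizer (U : Set (actGroup V))) :
    g ∈ Subgroup.normalizer (pull V U : Set G) := by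
  have key : ∀ v : V, actEmb V v ∈ U ↔ actEmb V (MulAut.conjNormal g v) ∈ U := fun v => by
    rw [← actHom_conj]; exact Subgroup.mem_normalizer_iff.1 hg _
  refine Subgroup.mem_normalizer_iff.2 fun x => ⟨?_, fun hx => ?_⟩
  · rintro ⟨v, hv, rfl⟩
    exact ⟨_, (key v).1 hv, MulAut.conjNormal_apply ..⟩
  · have hxV : x ∈ V := by
      have := (inferInstance : V.Normal).conj_mem _ (Subgroup.map_subtype_le _ hx) g⁻¹
      simpa [mul_assoc] using this
    refine (mem_pull V (v := ⟨x, hxV⟩)).2 ((key ⟨x, hxV⟩).2 ((mem_pull V).1 ?_))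
    rwa [MulAut.conjNormal_apply]

theorem act_commutator (v : V) (g : G) :
    ⁅actEmb V v, actHom V g⁆ = actEmb V (v * (MulAut.conjNormal g v)⁻¹) := by
  rw [commutatorElement_def, map_mul, map_inv, ← actHom_conj]
  simp only [mul_inv_rev, inv_inv, mul_assoc]

theorem coe_act_commutator (v : V) (g : G) :
    ((v * (MulAut.conjNormal g v)⁻¹ : V) : G) = ⁅(v : G), g⁆ := by
  rw [Subgroup.coe_mul, Subgroup.coe_inv, MulAut.conjNormal_apply, commutatorElement_def]
  group

theorem noT_act [Finite G] (hfree : ¬ Cfsg.Involves (Equiv.Perm (Fin 4)) G)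
    (hV : Cfsg.IsElementaryAbelian 2 V) : NoT (actV V) (actH V) := by
  haveI : Fact (Nat.Prime 2) := ⟨Nat.prime_two⟩
  intro N W hW a k ha hNW hWV haH hkH hkW haN hkN ha2 hodd hinv hw
  by_contra hcon
  push Not at hcon
  rw [← actHom_range] at haH hkH
  obtain ⟨a₀, rfl⟩ := haH
  obtain ⟨g, rfl⟩ := hkH
  obtain ⟨p₀, k₀, -, -, hpk, hcm, ⟨j, hj⟩, hko⟩ :=
    Transfer.PResidual.exists_pPart_mul_pPrimePart (p := 2) g (isOfFinOrder_of_finite g)
  have hp1 : actHom V p₀ = 1 := by
    have h1 : orderOf (actHom V p₀) ∣ 2 ^ j := orderOf_dvd_of_pow_eq_one (by rw [← map_pow, hj, map_one])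
    have h2 : orderOf (actHom V p₀) ∣ orderOf (actHom V g) := by
      have hcop : (orderOf (actHom V k₀)).Coprime (orderOf (actHom V p₀)) := by
        refine Nat.Coprime.coprime_dvd_right h1 (Nat.Coprime.pow_right j ?_)
        exact Nat.Coprime.coprime_dvd_left (orderOf_map_dvd _ k₀) hko
      rw [← hpk, map_mul, (show Commute (actHom V p₀) (actHom V k₀) by
        rw [Commute, SemiconjBy, ← map_mul, hcm, map_mul]).orderOf_mul_eq_mul_orderOf_of_coprime hcop.symm]
      exact dvd_mul_right _ _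
    refine orderOf_eq_one_iff.1 (Nat.eq_one_of_dvd_coprimes ?_ h1 h2)
    exact Nat.Coprime.pow_left j (Nat.coprime_two_left.2 hodd)
  have hk : actHom V g = actHom V k₀ := by rw [← hpk, map_mul, hp1, one_mul]
  rw [hk] at hkW hkN hinv hw
  set W₀ := pull V W
  set N₀ := pull V N
  have hW₀V : W₀ ≤ V := Subgroup.map_subtype_le _
  have hW₀ := PGroups.elemAb_mono hV hW₀V
  have hC : ∀ x : G, actHom V x = 1 → x ∈ Subgroup.centralizer (W₀ : Set G) := fun x hx =>
    Subgroup.centralizer_le hW₀V ((actHom_eq_one_iff V).1 hx)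
  obtain ⟨w, hwW, hwN⟩ := hw
  obtain ⟨v, rfl⟩ := hWV hwW
  have hle : Nat.card W₀ ≤ 2 * Nat.card (secFix hW₀ N₀ a₀ (mem_normalizer_pull V ha)) := by
    rw [card_pull V hWV]
    refine hcon.trans (Nat.mul_le_mul_left 2 ?_)
    have hch : ∀ x : W, ∃ y : W₀, ∃ u : V, (u : G) = (y : G) ∧ actEmb V u = (x : actGroup V) := by
      intro x
      obtain ⟨u, hu⟩ := hWV x.2
      exact ⟨⟨u, (mem_pull V).2 (by show actEmb V u ∈ W; rw [show actEmb V u = x from hu]; exact x.2)⟩,
        u, rfl, hu⟩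
    choose y u hyu hu using hch
    refine Nat.card_le_card_of_injective (fun x => ⟨y x.1, ?_⟩) fun x x' hxx => ?_
    · have hx := x.2
      rw [mem_secFix, ← hu x.1, act_commutator] at hx
      rw [mem_secFix, ← hyu, ← coe_act_commutator]
      exact (mem_pull V).2 hx
    · have h1 : y x.1 = y x'.1 := congrArg Subtype.val hxx
      have h2 : u x.1 = u x'.1 := Subtype.ext (by rw [hyu, hyu, h1])
      exact Subtype.ext (Subtype.ext (by rw [← hu, ← hu, h2]))
  refine hfree (section_transvection hW₀ (mem_normalizer_pull V ha) (mem_normalizer_pull V hkW)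
    (mem_normalizer_pull V haN) (mem_normalizer_pull V hkN) ?_ (hC _ (by rw [map_mul, ha2]))
    (Nat.coprime_two_right.1 hko) (hC _ (by rw [map_mul, map_mul, map_mul, map_inv, hinv, inv_mul_cancel]))
    ⟨v, (mem_pull V).2 hwW, ?_⟩ hle).1
  · exact Subgroup.map_mono (Subgroup.comap_mono hNW)
  · rw [← coe_act_commutator]
    intro hmem
    apply hwN
    show ⁅actEmb V v, actHom V k₀⁆ ∈ N
    rw [act_commutator]
    exact (mem_pull V).1 hmem

/-- The bound for an elementary abelian subgroup of `G / C_G(V)`. -/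
theorem reduced_bound [Finite G] (hfree : ¬ Cfsg.Involves (Equiv.Perm (Fin 4)) G)
    (hc : Cfsg.IsCompositionKGroupWith (fun (X : Type u) [Group X] => TypOdd X) G)
    (hV : Cfsg.IsElementaryAbelian 2 V)
    (hred : Cfsg.pCore 2 (G ⧸ Subgroup.centralizer (V : Set G)) = ⊥) (R : Subgroup G)
    (hRc : ∀ a ∈ R, ∀ b ∈ R, ⁅a, b⁆ ∈ Subgroup.centralizer (V : Set G))
    (hRs : ∀ a ∈ R, a * a ∈ Subgroup.centralizer (V : Set G)) :
    (Subgroup.centralizer (V : Set G)).relIndex R ^ 2 * Nat.card (fixOn V R) ≤ Nat.card V ∧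
      (Subgroup.centralizer (V : Set G)).relIndex R ^ 2 ≤ Nat.card ↥⁅V, R⁆ := by
  haveI : Fact (Nat.Prime 2) := ⟨Nat.prime_two⟩
  let e : (G ⧸ Subgroup.centralizer (V : Set G)) ≃* ↥(actH V) :=
    MonoidHom.ofInjective SemidirectProduct.inr_injective
  have hpair : ∀ A : Subgroup ↥(actH V), Cfsg.IsElementaryAbelian 2 A → A ≠ ⊥ → HasPair A ⊤ := by
    intro A hA hne
    refine hasPair' (by rw [← Cores.map_pCore_equiv e, hred, Subgroup.map_bot]) (fun h => hfree ?_) ?_ hA hne
    · exact Transfer.InvolvesS4.involves_of_surjective (e.toMonoidHom.comp (QuotientGroup.mk' _))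
        (e.surjective.comp (QuotientGroup.mk'_surjective _)) h
    · exact KnownSimple.compKGroup_of_surjective isoInvariant_typOdd hc
        (e.toMonoidHom.comp (QuotientGroup.mk' _)) (e.surjective.comp (QuotientGroup.mk'_surjective _))
  set R' := R.map (actHom V) with hR'
  have hR'e : Cfsg.IsElementaryAbelian 2 R' := by
    refine PGroups.elemAb_mk ?_ ?_
    · rintro _ ⟨a, ha, rfl⟩ _ ⟨b, hb, rfl⟩
      refine commutatorElement_eq_one_iff_mul_comm.mp ?_
      rw [← map_commutatorElement, actHom_eq_one_iff]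
      exact hRc a ha b hb
    · rintro _ ⟨a, ha, rfl⟩
      rw [← map_pow, actHom_eq_one_iff, pow_two]
      exact hRs a ha
  obtain ⟨h1, h2⟩ := bound (actV_elemAb V hV) (actH_le_normalizer V) (actH_faithful V) (noT_act V hfree hV)
    hpair R' (by rw [hR', ← actHom_range]; exact Subgroup.map_le_range _ _) hR'e
  have hk : (actHom V).ker = Subgroup.centralizer (V : Set G) := by
    ext g; rw [MonoidHom.mem_ker, actHom_eq_one_iff]
  have hcR : Nat.card R' = (Subgroup.centralizer (V : Set G)).relIndex R := by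
    rw [hR', ← Subgroup.relIndex_ker, hk]
  have hVc : Nat.card (actV V) = Nat.card V :=
    (Nat.card_congr (MonoidHom.ofInjective (SemidirectProduct.inl_injective)).toEquiv).symm
  rw [hcR] at h1 h2
  rw [hR', card_fixOn_act, hVc] at h1
  refine ⟨h1, h2.trans ?_⟩
  have hle : ⁅actV V, R'⁆ ≤ ((⁅V, R⁆).subgroupOf V).map (actEmb V) := by
    rw [Subgroup.commutator_le]
    rintro _ ⟨v, rfl⟩ _ ⟨r, hr, rfl⟩
    refine ⟨v * (MulAut.conjNormal r v)⁻¹, ?_, (act_commutator V v r).symm⟩
    show ((v * (MulAut.conjNormal r v)⁻¹ : V) : G) ∈ ⁅V, R⁆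
    rw [coe_act_commutator]
    exact Subgroup.commutator_mem_commutator v.2 hr
  refine (Subgroup.card_le_of_le hle).trans (le_of_eq ?_)
  rw [Subgroup.card_map_of_injective (actEmb_injective V)]
  refine Nat.card_congr (Subgroup.subgroupOfEquivOfLe ?_).toEquiv
  exact commutator_le_self (by rw [Subgroup.normalizer_eq_top]; exact le_top)

end Reduced

end Cfsg.Agent.Lib.GlaubermanTwo54
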