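import Cfsg.Agent.Lib.GlaubermanTwo54.Models
import Cfsg.Agent.Lib.Components.GenFitting
import Cfsg.Agent.Lib.Cores.Basic
import Cfsg.Agent.Lib.PLocal.CoprimeGen
import Cfsg.Agent.Lib.KnownSimple.KGroup

/-!
# A hyperplane-like subgroup of an elementary abelian 2-group and an inverted element

In a group with trivial `O₂`, without `Sym(4)` section and with nonabelian composition factors `Sz(q)` or
`PSL₂(3^odd)`, an elementary abelian 2-group `A ≠ 1` has a proper subgroup `B`, an element `a` and a conjugate of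
`a` under `C(B)` generating with `a` an element of odd prime order, whose faithful modules are large compared
with `|A : B|`.

Owner: helper54.
-/

set_option autoImplicit false
set_option linter.style.haveILetI false
set_option linter.unusedSectionVars false

namespace Cfsg.Agent.Lib.GlaubermanTwo54

universe u

variable {G : Type u} [Group G]

/-- A pair for `A`, the conjugating element taken in `M`. -/
def HasPair (A M : Subgroup G) : Prop :=
  ∃ (B : Subgroup G) (a h k : G), B ≤ A ∧ a ∈ A ∧ a ∉ B ∧ h ∈ M ∧ h ∈ Subgroup.centralizer (B : Set G) ∧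
    k ∈ Subgroup.zpowers (a * (h * a * h⁻¹)) ∧ (orderOf k).Prime ∧ orderOf k ≠ 2 ∧
    SizeR (B.relIndex A) (orderOf k)

theorem exists_prime_power_of_dvd [Finite G] {y : G} {r : ℕ} (_hr : r.Prime) (h : r ∣ orderOf y) :
    ∃ k ∈ Subgroup.zpowers y, orderOf k = r := by
  obtain ⟨c, hc⟩ := h
  refine ⟨y ^ c, Subgroup.pow_mem _ (Subgroup.mem_zpowers y) c, ?_⟩
  have hpos := orderOf_pos y
  have hc0 : c ≠ 0 := by rintro rfl; omega
  rw [orderOf_pow_of_dvd hc0 ⟨r, by rw [hc, mul_comm]⟩, hc, Nat.mul_div_cancel _ (Nat.pos_of_ne_zero hc0)]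

theorem exists_odd_prime_dvd {y : G} [Finite G] (hodd : Odd (orderOf y)) (hy : y ≠ 1) :
    ∃ r : ℕ, r.Prime ∧ r ≠ 2 ∧ r ∣ orderOf y := by
  obtain ⟨r, hr, hd⟩ := Nat.exists_prime_and_dvd (fun h => hy (orderOf_eq_one_iff.1 h))
  refine ⟨r, hr, ?_, hd⟩
  rintro rfl
  exact (Nat.not_even_iff_odd.2 hodd) (even_iff_two_dvd.2 hd)

theorem inv_of_elem {A : Subgroup G} (hA : Cfsg.IsElementaryAbelian 2 A) {a : G} (ha : a ∈ A) :
    a * a = 1 ∧ a⁻¹ = a := by
  have h : a * a = 1 := by rw [← pow_two]; exact hA.2 a ha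
  exact ⟨h, inv_eq_of_mul_eq_one_right h⟩

/-- `|⟨B, r⟩| = 2 |B|`. -/
theorem card_sup_zpowers [Finite G] {A B : Subgroup G} (hA : Cfsg.IsElementaryAbelian 2 A) (hB : B ≤ A)
    {r : G} (hr : r ∈ A) (hrB : r ∉ B) : Nat.card ↥(B ⊔ Subgroup.zpowers r) = 2 * Nat.card B := by
  haveI : Fact (Nat.Prime 2) := ⟨Nat.prime_two⟩
  have ho : orderOf r = 2 := orderOf_eq_prime (hA.2 r hr) fun h => hrB (h ▸ one_mem _)
  have hn : Subgroup.zpowers r ≤ Subgroup.normalizer (B : Set G) := (Subgroup.zpowers_le.mpr hr).trans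
    fun t ht => Subgroup.centralizer_le_normalizer _ (Subgroup.mem_centralizer_iff.mpr fun b hb =>
      PGroups.elemAb_comm hA (hB hb) ht)
  have hd : Disjoint (Subgroup.zpowers r) B := by
    rw [disjoint_iff, eq_bot_iff]
    rintro x ⟨hx, hxB⟩
    by_contra hx1
    obtain ⟨i, rfl⟩ := hx
    rcases Int.even_or_odd i with ⟨j, rfl⟩ | ⟨j, rfl⟩
    · apply hx1
      simp only [Subgroup.mem_bot]
      rw [zpow_add, ← (Commute.refl r).mul_zpow, (inv_of_elem hA hr).1, one_zpow]
    · apply hrB
      have : r ^ (2 * j + 1) = r := by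
        rw [zpow_add_one, two_mul, zpow_add, ← (Commute.refl r).mul_zpow, (inv_of_elem hA hr).1, one_zpow,
          one_mul]
      rw [← this]; exact hxB
  rw [sup_comm, Lib.Coprime.card_sup_of_disjoint hn hd, Nat.card_zpowers, ho, mul_comm]

/-- A hyperplane containing `A₀` and avoiding `r`. -/
theorem exists_hyperplane [Finite G] {A A₀ : Subgroup G} (hA : Cfsg.IsElementaryAbelian 2 A) (hle : A₀ ≤ A)
    {r : G} (hr : r ∈ A) (hr₀ : r ∉ A₀) :
    ∃ A₁, A₀ ≤ A₁ ∧ A₁ ≤ A ∧ r ∉ A₁ ∧ A = A₁ ⊔ Subgroup.zpowers r := by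
  obtain ⟨A₁, ⟨h0, h1, h2⟩, hmax⟩ := Set.Finite.exists_maximalFor (fun X : Subgroup G => Nat.card X)
    {X : Subgroup G | A₀ ≤ X ∧ X ≤ A ∧ r ∉ X} (Set.toFinite _) ⟨A₀, le_rfl, hle, hr₀⟩
  refine ⟨A₁, h0, h1, h2, le_antisymm (fun y hy => ?_) (sup_le h1 (Subgroup.zpowers_le.2 hr))⟩
  by_cases hyA : y ∈ A₁
  · exact Subgroup.mem_sup_left hyA
  set Y := A₁ ⊔ Subgroup.zpowers y with hY
  have hrY : r ∈ Y := by
    by_contra hrY
    have hmem : Y ∈ {X : Subgroup G | A₀ ≤ X ∧ X ≤ A ∧ r ∉ X} :=
      ⟨h0.trans le_sup_left, sup_le h1 (Subgroup.zpowers_le.2 hy), hrY⟩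
    have hc := card_sup_zpowers hA h1 hy hyA
    have hpos : 0 < Nat.card A₁ := Nat.card_pos
    have := hmax hmem (show Nat.card A₁ ≤ Nat.card Y by rw [hY, hc]; omega)
    simp only [hY] at this
    rw [hc] at this
    omega
  have e : Y = A₁ ⊔ Subgroup.zpowers r := by
    refine (Subgroup.eq_of_le_of_card_ge (sup_le le_sup_left (Subgroup.zpowers_le.2 hrY)) ?_).symm
    rw [card_sup_zpowers hA h1 hr h2, card_sup_zpowers hA h1 hy hyA]
  exact e ▸ Subgroup.mem_sup_right (Subgroup.mem_zpowers y)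

/-- The data on `L/Z(L)`. -/
def GoodQ (L : Subgroup G) : Prop :=
  InnerTwo (↥L ⧸ Subgroup.center ↥L) ∧ HasPairs (↥L ⧸ Subgroup.center ↥L)

/-- An element normalising a perfect group and acting trivially modulo the centre centralises it. -/
theorem mem_centralizer_of_trivial_mod_center {L : Subgroup G} (hp : Group.IsPerfect ↥L) {g : G}
    (h : ∀ l ∈ L, g * l * g⁻¹ * l⁻¹ ∈ L ∧ ∀ m ∈ L, m * (g * l * g⁻¹ * l⁻¹) = g * l * g⁻¹ * l⁻¹ * m) :
    g ∈ Subgroup.centralizer (L : Set G) := by
  have hz : ∀ l : L, (⟨_, (h l l.2).1⟩ : L) ∈ Subgroup.center L := fun l =>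
    Subgroup.mem_center_iff.2 fun m => Subtype.ext ((h l l.2).2 m m.2)
  let χ : L →* Subgroup.center L :=
    { toFun := fun l => ⟨⟨_, (h l l.2).1⟩, hz l⟩
      map_one' := Subtype.ext (Subtype.ext (by simp))
      map_mul' := fun l m => Subtype.ext (Subtype.ext (by
        have hc := (h m m.2).2 l l.2
        show g * ((l : G) * m) * g⁻¹ * ((l : G) * m)⁻¹ =
          g * l * g⁻¹ * (l : G)⁻¹ * (g * m * g⁻¹ * (m : G)⁻¹)
        calc g * ((l : G) * m) * g⁻¹ * ((l : G) * m)⁻¹
            = g * l * g⁻¹ * ((g * m * g⁻¹ * (m : G)⁻¹) * (l : G)⁻¹) := by group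
          _ = g * l * g⁻¹ * ((l : G)⁻¹ * (l * (g * m * g⁻¹ * (m : G)⁻¹)) * (l : G)⁻¹) := by group
          _ = g * l * g⁻¹ * ((l : G)⁻¹ * ((g * m * g⁻¹ * (m : G)⁻¹) * l) * (l : G)⁻¹) := by rw [hc]
          _ = _ := by group)) }
  refine Subgroup.mem_centralizer_iff.2 fun l hl => ?_
  have h1 : χ ⟨l, hl⟩ = 1 := by
    have hker : (⊤ : Subgroup L) ≤ χ.ker := by
      rw [← Group.IsPerfect.commutator_eq_top (G := L), _root_.commutator_def, Subgroup.commutator_le]
      intro x _ y _
      rw [MonoidHom.mem_ker, map_commutatorElement, commutatorElement_eq_one_iff_mul_comm]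
      exact Subtype.ext (Subgroup.mem_center_iff.1 (χ y).2 _)
    exact hker (Subgroup.mem_top _)
  have h2 : g * l * g⁻¹ * l⁻¹ = 1 := congrArg (fun t : Subgroup.center L => ((t : L) : G)) h1
  exact (mul_inv_eq_iff_eq_mul.1 (mul_inv_eq_one.1 h2)).symm

/-- The action of the normaliser on `L/Z(L)`. -/
noncomputable def quotAct (L : Subgroup G) :
    ↥(Subgroup.normalizer (L : Set G)) →* MulAut (↥L ⧸ Subgroup.center ↥L) where
  toFun g := QuotientGroup.congr _ _ (L.normalizerMonoidHom g)
    (Subgroup.characteristic_iff_map_eq.1 inferInstance _)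
  map_one' := by
    refine MulEquiv.ext fun x => ?_
    obtain ⟨l, rfl⟩ := QuotientGroup.mk_surjective x
    simp
  map_mul' g g' := by
    refine MulEquiv.ext fun x => ?_
    obtain ⟨l, rfl⟩ := QuotientGroup.mk_surjective x
    simp
    rfl

theorem quotAct_mk (L : Subgroup G) (g : ↥(Subgroup.normalizer (L : Set G))) (l : L) :
    quotAct L g (QuotientGroup.mk l) = QuotientGroup.mk (L.normalizerMonoidHom g l) := rfl

theorem coe_normAct (L : Subgroup G) (g : ↥(Subgroup.normalizer (L : Set G))) (l : L) :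
    ((L.normalizerMonoidHom g l : L) : G) = g * l * (g : G)⁻¹ := rfl

theorem mem_centralizer_of_quotAct {L : Subgroup G} (hp : Group.IsPerfect ↥L)
    {g : ↥(Subgroup.normalizer (L : Set G))} (h : quotAct L g = 1) :
    (g : G) ∈ Subgroup.centralizer (L : Set G) := by
  refine mem_centralizer_of_trivial_mod_center hp fun l hl => ?_
  have h1 := MulEquiv.congr_fun h (QuotientGroup.mk (⟨l, hl⟩ : L))
  rw [quotAct_mk, MulAut.one_apply, eq_comm, QuotientGroup.eq] at h1
  have h1' := (Subgroup.center ↥L).mul_mem h1 (one_mem _)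
  rw [mul_one] at h1'
  have h2 : L.normalizerMonoidHom g ⟨l, hl⟩ * (⟨l, hl⟩ : L)⁻¹ ∈ Subgroup.center ↥L :=
    (Subgroup.Normal.mem_comm_iff inferInstance).1 h1'
  refine ⟨(L.normalizerMonoidHom g ⟨l, hl⟩ * (⟨l, hl⟩ : L)⁻¹).2, fun m hm => ?_⟩
  exact congrArg Subtype.val (Subgroup.mem_center_iff.1 h2 ⟨m, hm⟩)

/-- The pair for `A` normalising a quasisimple `L`. -/
theorem hasPair_single [Finite G] (hfree : ¬ Cfsg.Involves (Equiv.Perm (Fin 4)) G) {A L M : Subgroup G}
    (hA : Cfsg.IsElementaryAbelian 2 A) (hL : Cfsg.IsQuasisimple ↥L) (hZ : Odd (Nat.card (Subgroup.center ↥L)))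
    (hg : GoodQ L) (hAL : A ≤ Subgroup.normalizer (L : Set G))
    (hne : ¬ A ≤ Subgroup.centralizer (L : Set G)) (hLM : L ≤ M) : HasPair A M := by
  classical
  haveI := hL.1
  haveI := hL.2
  set X := ↥L ⧸ Subgroup.center ↥L
  let π : ↥L →* X := QuotientGroup.mk' _
  let ΘA : ↥A →* MulAut X := (quotAct L).comp (Subgroup.inclusion hAL)
  let c : X →* MulAut X := MulAut.conj
  have hXc : ∀ x : X, (∀ y, x * y = y * x) → x = 1 := by
    intro x hx
    rcases (inferInstance : (Subgroup.center X).Normal).eq_bot_or_eq_top with hb | ht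
    · exact (Subgroup.mem_bot).1 (hb ▸ Subgroup.mem_center_iff.2 fun y => (hx y).symm)
    · exfalso
      haveI : Group.IsPerfect X := Group.IsPerfect.ofSurjective (QuotientGroup.mk'_surjective (Subgroup.center ↥L))
      have hb := (_root_.commutator_eq_bot_iff_center_eq_top X).mpr ht
      rw [Group.IsPerfect.commutator_eq_top] at hb
      exact top_ne_bot hb
  have hcinj : Function.Injective c := by
    intro x y h
    refine mul_inv_eq_one.1 (hXc _ fun z => ?_)
    have h1 : c (x * y⁻¹) = 1 := by rw [map_mul, map_inv, h, mul_inv_cancel]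
    have := MulEquiv.congr_fun h1 z
    rw [MulAut.one_apply] at this
    exact mul_inv_eq_iff_eq_mul.1 this
  -- every element of `A` induces an inner automorphism
  have hinner : ∀ a : A, ΘA a ∈ c.range := by
    intro a
    refine (hg.1 (ΘA a) (by rw [← map_mul, show a * a = 1 from Subtype.ext (inv_of_elem hA a.2).1,
      map_one])).resolve_right fun h => hfree ?_
    refine Transfer.InvolvesS4.involves_of_injective (Subgroup.normalizer (L : Set G)).subtype
      (Subgroup.subtype_injective _)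
      (Transfer.InvolvesS4.involves_of_surjective (quotAct L).rangeRestrict
        (quotAct L).rangeRestrict_surjective (h _ ?_ ⟨_, rfl⟩))
    rintro _ ⟨x, rfl⟩
    obtain ⟨l, rfl⟩ := QuotientGroup.mk_surjective x
    refine ⟨⟨l, Subgroup.le_normalizer l.2⟩, MulEquiv.ext fun y => ?_⟩
    obtain ⟨m, rfl⟩ := QuotientGroup.mk_surjective y
    rw [quotAct_mk, MulAut.conj_apply, ← QuotientGroup.mk_inv, ← QuotientGroup.mk_mul, ← QuotientGroup.mk_mul]
    exact congrArg _ (Subtype.ext rfl)
  set D : Subgroup X := ΘA.range.comap c with hD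
  have hDmap : D.map c = ΘA.range := Subgroup.map_comap_eq_self (by
    rintro _ ⟨a, rfl⟩; exact hinner a)
  have hDel : Cfsg.IsElementaryAbelian 2 D := by
    refine PGroups.elemAb_mk ?_ ?_
    · rintro x ⟨a, ha⟩ y ⟨b, hb⟩
      refine hcinj ?_
      rw [map_mul, map_mul, ← ha, ← hb, ← map_mul, ← map_mul]
      exact congrArg ΘA (Subtype.ext (PGroups.elemAb_comm hA a.2 b.2))
    · rintro x ⟨a, ha⟩
      refine hcinj ?_
      rw [map_pow, ← ha, ← map_pow, show a ^ 2 = 1 from Subtype.ext (hA.2 a a.2), map_one, map_one]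
  have hDne : D ≠ ⊥ := by
    intro h0
    refine hne fun a ha => mem_centralizer_of_quotAct hL.1 (g := ⟨a, hAL ha⟩) ?_
    have : ΘA ⟨a, ha⟩ ∈ D.map c := hDmap ▸ ⟨_, rfl⟩
    rw [h0, Subgroup.map_bot, Subgroup.mem_bot] at this
    exact this
  obtain ⟨B, d, x, r, hBD, hd, hdB, hx, hr, hr2, hdiv, hsz⟩ := hg.2 D hDel hDne
  obtain ⟨a, ha⟩ := hd
  obtain ⟨l, rfl⟩ := QuotientGroup.mk_surjective x
  set BA : Subgroup G := ((B.map c).comap ΘA).map A.subtype with hBA
  have haB : (a : G) ∉ BA := by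
    rintro ⟨b, hb, hba⟩
    obtain rfl : b = a := Subtype.ext hba
    obtain ⟨z, hz, hze⟩ := hb
    exact hdB (hcinj (hze.trans ha) ▸ hz)
  have hlB : (l : G) ∈ Subgroup.centralizer (BA : Set G) := by
    refine Subgroup.mem_centralizer_iff.2 ?_
    rintro _ ⟨b, ⟨z, hz, hze⟩, rfl⟩
    obtain ⟨hb2, hbi⟩ := inv_of_elem hA b.2
    have hxb : (QuotientGroup.mk (L.normalizerMonoidHom ⟨b, hAL b.2⟩ l) : X) = QuotientGroup.mk l := by
      rw [← quotAct_mk]
      show ΘA b (QuotientGroup.mk l) = _
      rw [← hze]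
      show z * _ * z⁻¹ = _
      rw [Subgroup.mem_centralizer_iff.1 hx z hz, mul_inv_cancel_right]
    obtain ⟨w, hw, hwe⟩ : ∃ w : L, w ∈ Subgroup.center ↥L ∧
        L.normalizerMonoidHom ⟨b, hAL b.2⟩ l = l * w :=
      ⟨l⁻¹ * L.normalizerMonoidHom ⟨b, hAL b.2⟩ l, QuotientGroup.eq.1 hxb.symm, by rw [mul_inv_cancel_left]⟩
    have hwe' : (b : G) * l * (b : G)⁻¹ = l * w := congrArg Subtype.val hwe
    -- `b` centralises the centre
    have hbw : (b : G) * w * (b : G)⁻¹ = w := by
      obtain ⟨m, rfl⟩ := QuotientGroup.mk_surjective z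
      have hm : quotAct L (⟨(m : G)⁻¹ * b, (Subgroup.normalizer (L : Set G)).mul_mem
          (inv_mem (Subgroup.le_normalizer m.2)) (hAL b.2)⟩) = 1 := by
        have e : (⟨(m : G)⁻¹ * b, (Subgroup.normalizer (L : Set G)).mul_mem
            (inv_mem (Subgroup.le_normalizer m.2)) (hAL b.2)⟩ : ↥(Subgroup.normalizer (L : Set G))) =
            (⟨m, Subgroup.le_normalizer m.2⟩)⁻¹ * ⟨b, hAL b.2⟩ := rfl
        rw [e, map_mul, map_inv, inv_mul_eq_one]
        refine (MulEquiv.ext fun y => ?_).trans hze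
        obtain ⟨y, rfl⟩ := QuotientGroup.mk_surjective y
        rw [quotAct_mk]
        exact congrArg _ (Subtype.ext rfl)
      have h1 := Subgroup.mem_centralizer_iff.1 (mem_centralizer_of_quotAct hL.1 hm) (w : G) w.2
      have h2 : (m : G) * w = w * m := congrArg Subtype.val (Subgroup.mem_center_iff.1 hw m)
      calc (b : G) * w * (b : G)⁻¹ = m * ((m : G)⁻¹ * b * w) * (b : G)⁻¹ := by group
        _ = m * w * (m : G)⁻¹ := by rw [← h1]; group
        _ = w := by rw [h2, mul_inv_cancel_right]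
    have hw2 : (w : G) * w = 1 := by
      have : (b : G) * ((b : G) * l * (b : G)⁻¹) * (b : G)⁻¹ = l * w * w := by
        rw [hwe']
        calc (b : G) * (l * w) * (b : G)⁻¹ = ((b : G) * l * (b : G)⁻¹) * ((b : G) * w * (b : G)⁻¹) := by group
          _ = _ := by rw [hwe', hbw]
      rw [← mul_assoc, ← mul_assoc, hb2, one_mul, mul_assoc, ← _root_.mul_inv_rev, hb2, inv_one, mul_one,
        mul_assoc] at this
      exact mul_eq_left.1 this.symm
    have hw1 : w = 1 := by
      have hwo : Odd (orderOf w) := hZ.of_dvd_nat (Subgroup.orderOf_dvd_natCard _ hw)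
      have : orderOf w ∣ 2 := orderOf_dvd_of_pow_eq_one (Subtype.ext (by rw [Subgroup.coe_pow, pow_two]; exact hw2))
      exact orderOf_eq_one_iff.1 (Nat.eq_one_of_dvd_coprimes (Nat.coprime_two_right.2 hwo) dvd_rfl this)
    rw [hw1, Subgroup.coe_one, mul_one] at hwe'
    exact mul_inv_eq_iff_eq_mul.1 hwe'
  obtain ⟨ha2, hai⟩ := inv_of_elem hA a.2
  have hyL : (a : G) * (l * a * (l : G)⁻¹) ∈ L := by
    have : (a : G) * l * (a : G)⁻¹ ∈ L := (Subgroup.mem_normalizer_iff.1 (hAL a.2) _).1 l.2
    have := mul_mem this (inv_mem l.2)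
    rw [hai] at this
    simpa [mul_assoc] using this
  have himg : (QuotientGroup.mk (⟨_, hyL⟩ : L) : X) =
      d * ((QuotientGroup.mk l : X) * d * (QuotientGroup.mk l : X)⁻¹) := by
    have hd2 : d⁻¹ = d := inv_eq_of_mul_eq_one_right (by rw [← pow_two]; exact hDel.2 d ⟨a, ha⟩)
    have e : (⟨_, hyL⟩ : L) = L.normalizerMonoidHom ⟨a, hAL a.2⟩ l * l⁻¹ := Subtype.ext (by
      rw [Subgroup.coe_mul, coe_normAct, Subgroup.coe_inv]
      simp only [hai]
      group)
    rw [e, QuotientGroup.mk_mul, QuotientGroup.mk_inv, ← quotAct_mk]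
    show ΘA a (QuotientGroup.mk l) * _ = _
    rw [ha]
    show d * _ * d⁻¹ * _ = _
    rw [hd2]
    group
  rw [← himg] at hdiv
  have hdiv' : r ∣ orderOf ((a : G) * (l * a * (l : G)⁻¹)) := by
    refine hdiv.trans ?_
    have := orderOf_map_dvd π (⟨_, hyL⟩ : L)
    rwa [Subgroup.orderOf_mk] at this
  obtain ⟨k, hk, hko⟩ := exists_prime_power_of_dvd hr hdiv'
  refine ⟨BA, a, l, k, Subgroup.map_subtype_le _, a.2, haB, hLM l.2, hlB, hk, hko.symm ▸ hr, hko.symm ▸ hr2, ?_⟩
  have hrel : BA.relIndex A = B.relIndex D := by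
    rw [hBA]
    have : (((B.map c).comap ΘA).map A.subtype).subgroupOf A = (B.map c).comap ΘA :=
      Subgroup.comap_map_eq_self_of_injective A.subtype_injective _
    rw [Subgroup.relIndex, this, Subgroup.index_comap, ← hDmap,
      Subgroup.relIndex_map_map_of_injective _ _ hcinj]
  rw [hrel, hko]
  exact hsz

/-- The pair for `A` permuting commuting conjugates of a quasisimple `L`. -/
theorem hasPair_orbit [Finite G] (hfree : ¬ Cfsg.Involves (Equiv.Perm (Fin 4)) G) :
    ∀ (n : ℕ) (A L M : Subgroup G), Nat.card A = n → Cfsg.IsElementaryAbelian 2 A →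
      Cfsg.IsQuasisimple ↥L → Odd (Nat.card (Subgroup.center ↥L)) → GoodQ L →
      (∀ a ∈ A, L.map (MulAut.conj a).toMonoidHom = L ∨ ∀ x ∈ L, ∀ y ∈ L, x * (a * y * a⁻¹) = a * y * a⁻¹ * x) →
      ¬ A ≤ Subgroup.centralizer (L : Set G) →
      (∀ a ∈ A, L.map (MulAut.conj a).toMonoidHom ≤ M) → HasPair A M := by
  intro n
  induction n using Nat.strong_induction_on with
  | _ n ih =>
    intro A L M hn hA hL hZ hg hperm hne hM
    haveI := hL.1
    haveI : Nontrivial ↥L := Components.Quasisimple.nontrivial hL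
    have hLM : L ≤ M := fun x hx => hM 1 (one_mem _) ⟨x, hx, by simp⟩
    by_cases hAL : A ≤ Subgroup.normalizer (L : Set G)
    · exact hasPair_single hfree hA hL hZ hg hAL hne hLM
    set A₀ := A ⊓ Subgroup.normalizer (L : Set G) with hA₀
    obtain ⟨r, hr, hrL⟩ := SetLike.not_le_iff_exists.1 hAL
    have hr₀ : r ∉ A₀ := fun h => hrL h.2
    obtain ⟨hr2, hri⟩ := inv_of_elem hA hr
    have hcomm : ∀ a ∈ A, a ∉ A₀ → ∀ x ∈ L, ∀ y ∈ L, x * (a * y * a⁻¹) = a * y * a⁻¹ * x := by
      intro a ha ha₀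
      refine (hperm a ha).resolve_left fun h => ha₀ ⟨ha, ?_⟩
      exact Subgroup.mem_normalizer_iff_map_conj_eq.2 h
    have hrc := hcomm r hr hr₀
    have hne' : ∀ x ∈ L, ∀ y ∈ L, x = r * y * r⁻¹ → ∀ m ∈ L, m * x = x * m := by
      intro x hx y hy he m hm
      rw [he]; exact hrc m hm y hy
    by_cases hbase : A₀ ≤ Subgroup.centralizer (L : Set G) ∧ A₀.relIndex A ≤ 2
    · -- an element of odd order of `L` outside the centre
      obtain ⟨x, hx, hxo, hxz⟩ : ∃ x ∈ L, Odd (orderOf x) ∧ ¬ ∀ m ∈ L, m * x = x * m := by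
        by_contra hcon
        push Not at hcon
        haveI : Fact (Nat.Prime 2) := ⟨Nat.prime_two⟩
        have hle : Cfsg.pResidual 2 ↥L ≤ Subgroup.center ↥L := by
          refine (Subgroup.closure_le _).2 fun y hy => Subgroup.mem_center_iff.2 fun m => Subtype.ext ?_
          exact hcon y y.2 (Nat.coprime_two_right.1 (by
            rw [Subgroup.orderOf_coe]; exact hy)) m m.2
        have hp : IsPGroup 2 (↥L ⧸ Cfsg.pResidual 2 ↥L) := Lib.Transfer.PResidual.isPGroup_quotient
        haveI := hp.isNilpotent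
        haveI : Group.IsPerfect (↥L ⧸ Cfsg.pResidual 2 ↥L) :=
          Group.IsPerfect.ofSurjective (QuotientGroup.mk'_surjective _)
        rcases subsingleton_or_nontrivial (↥L ⧸ Cfsg.pResidual 2 ↥L) with hs | hs
        · rw [QuotientGroup.subsingleton_iff] at hs
          exact Components.Quasisimple.center_ne_top hL (eq_top_iff.2 (hs ▸ hle))
        · exact Group.IsPerfect.not_isSolvable (↥L ⧸ Cfsg.pResidual 2 ↥L) inferInstance
      have hrx : (r : G) * x * r⁻¹ * x⁻¹ = r * (x * r * x⁻¹) := by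
        rw [hri]; group
      set y := r * x * r⁻¹ * x⁻¹ with hy
      have hc : Commute (r * x * r⁻¹) x⁻¹ := ((show Commute x (r * x * r⁻¹) from hrc x hx x hx).symm).inv_right
      have hyo : Odd (orderOf y) := by
        have h1 := hc.orderOf_mul_dvd_lcm
        rw [← hy] at h1
        refine Odd.of_dvd_nat ?_ (h1.trans (Nat.lcm_dvd_mul _ _))
        rw [orderOf_inv, Involutions.Basic.orderOf_conj_eq]
        exact hxo.mul hxo
      have hy1 : y ≠ 1 := fun h => hxz (hne' x hx x hx (mul_inv_eq_one.1 h).symm)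
      obtain ⟨p, hp, hp2, hpd⟩ := exists_odd_prime_dvd hyo hy1
      obtain ⟨k, hk, hko⟩ := exists_prime_power_of_dvd hp hpd
      refine ⟨A₀, r, x, k, inf_le_left, hr, hr₀, hLM hx, ?_, ?_, hko.symm ▸ hp, hko.symm ▸ hp2, Or.inl hbase.2⟩
      · exact Subgroup.mem_centralizer_iff.2 fun b hb =>
          (Subgroup.mem_centralizer_iff.1 (hbase.1 hb) x hx).symm
      · rwa [← hrx]
    · obtain ⟨A₁, h01, h1A, hr1, hgen⟩ := exists_hyperplane hA inf_le_left hr hr₀
      have hswap : ∀ x ∈ L, ∀ y ∈ L, Commute x (r * y * r⁻¹) := hrc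
      let δ : ↥L →* G :=
        { toFun := fun l => (l : G) * (r * l * r⁻¹)
          map_one' := by simp
          map_mul' := fun l m => by
            show (l : G) * m * (r * (l * m) * r⁻¹) = l * (r * l * r⁻¹) * (m * (r * m * r⁻¹))
            have e := (hswap m m.2 l l.2).eq
            calc (l : G) * m * (r * (l * m) * r⁻¹) = l * (m * (r * l * r⁻¹)) * (r * m * r⁻¹) := by group
              _ = l * ((r * l * r⁻¹) * m) * (r * m * r⁻¹) := by rw [e]
              _ = _ := by group }
      have hker : δ.ker ≤ Subgroup.center ↥L := by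
        intro l hl
        refine Subgroup.mem_center_iff.2 fun m => Subtype.ext ?_
        have hl' : (l : G) * (r * l * r⁻¹) = 1 := hl
        exact hne' l l.2 _ (inv_mem l.2) ((eq_inv_of_mul_eq_one_left hl').trans (by group)) m m.2
      set L' := δ.range with hL'
      haveI : Nontrivial ↥L' := by
        by_contra hn
        rw [not_nontrivial_iff_subsingleton] at hn
        refine Components.Quasisimple.center_ne_top hL (eq_top_iff.2 fun l _ => hker ?_)
        exact congrArg Subtype.val (Subsingleton.elim (⟨δ l, l, rfl⟩ : L') 1)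
      have hL'q : Cfsg.IsQuasisimple ↥L' :=
        Components.Quasisimple.of_surjective hL δ.rangeRestrict_surjective
      -- the centre of the diagonal
      have hcen : (Subgroup.center ↥L').comap δ.rangeRestrict = Subgroup.center ↥L := by
        refine le_antisymm ?_ fun z hz => Subgroup.mem_center_iff.2 fun w => ?_
        · refine (Components.Quasisimple.normal_le_center_or_eq_top hL inferInstance).resolve_right fun ht => ?_
          refine Components.Quasisimple.center_ne_top hL'q (eq_top_iff.2 fun w _ => ?_)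
          obtain ⟨l, rfl⟩ := δ.rangeRestrict_surjective w
          exact (ht ▸ Subgroup.mem_top l : l ∈ (Subgroup.center ↥L').comap δ.rangeRestrict)
        · obtain ⟨l, rfl⟩ := δ.rangeRestrict_surjective w
          rw [← map_mul, ← map_mul, Subgroup.mem_center_iff.1 hz l]
      have hZ' : Odd (Nat.card (Subgroup.center ↥L')) := by
        refine hZ.of_dvd_nat ?_
        rw [← Subgroup.map_comap_eq_self_of_surjective δ.rangeRestrict_surjective (Subgroup.center ↥L'), hcen]
        exact Subgroup.card_map_dvd _ _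
      let ψ : ↥L →* ↥L' ⧸ Subgroup.center ↥L' := (QuotientGroup.mk' _).comp δ.rangeRestrict
      have hψ : Function.Surjective ψ := (QuotientGroup.mk'_surjective _).comp δ.rangeRestrict_surjective
      have hψk : ψ.ker = Subgroup.center ↥L := by rw [← hcen, ← MonoidHom.comap_ker, QuotientGroup.ker_mk']
      let e : ↥L ⧸ Subgroup.center ↥L ≃* ↥L' ⧸ Subgroup.center ↥L' :=
        (QuotientGroup.quotientMulEquivOfEq hψk.symm).trans (QuotientGroup.quotientKerEquivOfSurjective ψ hψ)
      have hg' : GoodQ L' := ⟨hg.1.congr e, hg.2.congr e⟩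
      have hcr : ∀ a ∈ A, ∀ l : L, Commute r (a * δ l * a⁻¹) := by
        intro a ha l
        have har : Commute r a := PGroups.elemAb_comm hA hr ha
        have hrd : Commute r (δ l) := by
          show r * ((l : G) * (r * l * r⁻¹)) = (l : G) * (r * l * r⁻¹) * r
          calc r * ((l : G) * (r * l * r⁻¹)) = (r * l * r⁻¹) * ((r * r) * l * (r * r)⁻¹) * r := by group
            _ = (r * l * r⁻¹) * l * r := by rw [hr2]; group
            _ = _ := by rw [(hswap l l.2 l l.2).eq]
        exact (har.mul_right hrd).mul_right har.inv_right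
      have hdc : ∀ a ∈ A₁, a ∉ A₀ → ∀ l m : L, Commute (δ l) (a * δ m * a⁻¹) := by
        intro a ha ha₀ l m
        have har : a * r = r * a := PGroups.elemAb_comm hA (h1A ha) hr
        have har₀ : a * r ∉ A₀ := by
          intro h
          refine hr1 ?_
          have := mul_mem (inv_mem ha) (h01 h)
          rwa [inv_mul_cancel_left] at this
        have q1 : Commute (l : G) (a * m * a⁻¹) := hcomm a (h1A ha) ha₀ l l.2 m m.2
        have q2 : Commute (l : G) (a * r * m * (a * r)⁻¹) :=
          hcomm (a * r) (mul_mem (h1A ha) hr) har₀ l l.2 m m.2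
        have q3 : Commute (r * l * r⁻¹) (a * m * a⁻¹) := by
          have := Commute.map q2 (MulAut.conj r).toMonoidHom
          simp only [MulEquiv.coe_toMonoidHom, MulAut.conj_apply] at this
          rwa [show r * (a * r * (m : G) * (a * r)⁻¹) * r⁻¹ = ((r * a) * r) * m * ((r * a) * r)⁻¹ by group,
            ← har, show a * r * r = a by rw [mul_assoc, hr2, mul_one]] at this
        have q4 : Commute (r * l * r⁻¹) (a * r * m * (a * r)⁻¹) := by
          have := Commute.map q1 (MulAut.conj r).toMonoidHom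
          simp only [MulEquiv.coe_toMonoidHom, MulAut.conj_apply] at this
          rwa [show r * (a * (m : G) * a⁻¹) * r⁻¹ = (r * a) * m * (r * a)⁻¹ by group, ← har] at this
        have e2 : a * δ m * a⁻¹ = (a * m * a⁻¹) * ((a * r) * m * (a * r)⁻¹) := by
          show a * ((m : G) * (r * m * r⁻¹)) * a⁻¹ = _
          group
        rw [e2]
        exact (q1.mul_right q2).mul_left (q3.mul_right q4)
      have hperm' : ∀ a ∈ A₁, L'.map (MulAut.conj a).toMonoidHom = L' ∨
          ∀ x ∈ L', ∀ y ∈ L', x * (a * y * a⁻¹) = a * y * a⁻¹ * x := by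
        intro a ha
        have har : a * r = r * a := PGroups.elemAb_comm hA (h1A ha) hr
        by_cases ha₀ : a ∈ A₀
        · left
          refine Subgroup.eq_of_le_of_card_ge ?_ (Subgroup.card_map_of_injective
            (MulAut.conj a).injective).ge
          rintro _ ⟨_, ⟨l, rfl⟩, rfl⟩
          refine ⟨⟨a * l * a⁻¹, (Subgroup.mem_normalizer_iff.1 ha₀.2 l).1 l.2⟩, ?_⟩
          show a * l * a⁻¹ * (r * (a * l * a⁻¹) * r⁻¹) = a * ((l : G) * (r * l * r⁻¹)) * a⁻¹
          rw [show r * (a * (l : G) * a⁻¹) * r⁻¹ = (r * a) * l * (r * a)⁻¹ by group, ← har]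
          group
        · right
          rintro _ ⟨l, rfl⟩ _ ⟨m, rfl⟩
          exact (hdc a ha ha₀ l m).eq
      have hne₁ : ¬ A₁ ≤ Subgroup.centralizer (L' : Set G) := by
        intro hle
        by_cases hc0 : A₀ ≤ Subgroup.centralizer (L : Set G)
        · -- some element of `A₁` moves `L`
          obtain ⟨a, ha, ha₀⟩ : ∃ a ∈ A₁, a ∉ A₀ := by
            by_contra hcon
            push Not at hcon
            refine hbase ⟨hc0, ?_⟩
            have heq : A₀ = A₁ := le_antisymm h01 hcon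
            have hc := card_sup_zpowers hA h1A hr hr1
            rw [← hgen] at hc
            have h := (A₀.subgroupOf A).index_mul_card
            rw [Nat.card_congr (Subgroup.subgroupOfEquivOfLe (inf_le_left : A₀ ≤ A)).toEquiv] at h
            refine le_of_eq ?_
            have : Nat.card A₀ = Nat.card A₁ := by rw [heq]
            rw [hc, this] at h
            exact Nat.eq_of_mul_eq_mul_right Nat.card_pos h
          -- then `L'` is abelian
          apply Components.Quasisimple.not_isMulCommutative hL'q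
          refine ⟨⟨fun x y => Subtype.ext ?_⟩⟩
          obtain ⟨l, hl⟩ := x.2
          obtain ⟨m, hm⟩ := y.2
          have hfix : a * (y : G) * a⁻¹ = y := by
            rw [← Subgroup.mem_centralizer_iff.1 (hle ha) (y : G) y.2, mul_inv_cancel_right]
          have := (hdc a ha ha₀ l m).eq
          rw [hl, hm, hfix] at this
          exact this
        · refine hc0 fun a ha => mem_centralizer_of_trivial_mod_center hL.1 fun l hl => ?_
          have haL : a * l * a⁻¹ ∈ L := (Subgroup.mem_normalizer_iff.1 ha.2 l).1 hl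
          have hmem : (⟨a * l * a⁻¹ * l⁻¹, mul_mem haL (inv_mem hl)⟩ : L) ∈ δ.ker := by
            have e : δ ⟨a * l * a⁻¹, haL⟩ = a * δ ⟨l, hl⟩ * a⁻¹ := by
              show a * l * a⁻¹ * (r * (a * l * a⁻¹) * r⁻¹) = a * (l * (r * l * r⁻¹)) * a⁻¹
              rw [show r * (a * l * a⁻¹) * r⁻¹ = (r * a) * l * (r * a)⁻¹ by group,
                ← PGroups.elemAb_comm hA ha.1 hr]
              group
            have h2 := Subgroup.mem_centralizer_iff.1 (hle (h01 ha)) (δ ⟨l, hl⟩) ⟨_, rfl⟩
            rw [MonoidHom.mem_ker, show (⟨a * l * a⁻¹ * l⁻¹, mul_mem haL (inv_mem hl)⟩ : L) =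
              ⟨a * l * a⁻¹, haL⟩ * (⟨l, hl⟩ : L)⁻¹ from rfl, map_mul, map_inv, e, ← h2, mul_inv_cancel_right,
              mul_inv_cancel]
          exact ⟨mul_mem haL (inv_mem hl), fun m hm =>
            congrArg Subtype.val (Subgroup.mem_center_iff.1 (hker hmem) ⟨m, hm⟩)⟩
      have hM' : ∀ a ∈ A₁, L'.map (MulAut.conj a).toMonoidHom ≤ M ⊓ Subgroup.centralizer ({r} : Set G) := by
        rintro a ha _ ⟨_, ⟨l, rfl⟩, rfl⟩
        refine ⟨?_, Subgroup.mem_centralizer_singleton_iff.2 (hcr a (h1A ha) l).symm.eq⟩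
        show a * ((l : G) * (r * l * r⁻¹)) * a⁻¹ ∈ M
        rw [show a * ((l : G) * (r * l * r⁻¹)) * a⁻¹ = (a * l * a⁻¹) * (a * r * l * (a * r)⁻¹) by group]
        exact mul_mem (hM a (h1A ha) ⟨l, l.2, rfl⟩) (hM (a * r) (mul_mem (h1A ha) hr) ⟨l, l.2, rfl⟩)
      have hlt : Nat.card A₁ < n := by
        rw [← hn]
        have hc := card_sup_zpowers hA h1A hr hr1
        rw [← hgen] at hc
        have : 0 < Nat.card A₁ := Nat.card_pos
        omega
      obtain ⟨B, a, h, k, hBA, ha, haB, hh, hhB, hk, hkp, hk2, hsz⟩ :=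
        ih _ hlt A₁ L' _ rfl (PGroups.elemAb_mono hA h1A) hL'q hZ' hg' hperm' hne₁ hM'
      have hrB : r ∉ B := fun h => hr1 (hBA h)
      have hc1 : Nat.card ↥(B ⊔ Subgroup.zpowers r) = 2 * Nat.card B :=
        card_sup_zpowers hA (hBA.trans h1A) hr hrB
      refine ⟨B ⊔ Subgroup.zpowers r, a, h, k, sup_le (hBA.trans h1A) (Subgroup.zpowers_le.2 hr), h1A ha,
        ?_, hh.1, ?_, hk, hkp, hk2, ?_⟩
      · intro hmem
        have hle : B ⊔ Subgroup.zpowers a ≤ (B ⊔ Subgroup.zpowers r) ⊓ A₁ :=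
          le_inf (sup_le le_sup_left (Subgroup.zpowers_le.2 hmem)) (sup_le hBA (Subgroup.zpowers_le.2 ha))
        have h1 : B ⊔ Subgroup.zpowers a = B ⊔ Subgroup.zpowers r := by
          refine Subgroup.eq_of_le_of_card_ge (hle.trans inf_le_left) ?_
          rw [hc1, card_sup_zpowers hA (hBA.trans h1A) (h1A ha) haB]
        exact hr1 ((hle (h1 ▸ Subgroup.mem_sup_right (Subgroup.mem_zpowers r))).2)
      · refine Subgroup.mem_centralizer_iff.2 fun b hb => ?_
        have : B ⊔ Subgroup.zpowers r ≤ Subgroup.centralizer ({h} : Set G) :=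
          sup_le (fun b hb => Subgroup.mem_centralizer_singleton_iff.2 (Subgroup.mem_centralizer_iff.1 hhB b hb))
            (Subgroup.zpowers_le.2 (Subgroup.mem_centralizer_singleton_iff.2
              (Subgroup.mem_centralizer_singleton_iff.1 hh.2).symm))
        exact Subgroup.mem_centralizer_singleton_iff.1 (this hb)
      · have e : (B ⊔ Subgroup.zpowers r).relIndex A = B.relIndex A₁ := by
          have h1 := ((B ⊔ Subgroup.zpowers r).subgroupOf A).index_mul_card
          rw [Nat.card_congr (Subgroup.subgroupOfEquivOfLe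
            (sup_le (hBA.trans h1A) (Subgroup.zpowers_le.2 hr))).toEquiv, hc1] at h1
          have h2 := (B.subgroupOf A₁).index_mul_card
          rw [Nat.card_congr (Subgroup.subgroupOfEquivOfLe hBA).toEquiv] at h2
          have hc := card_sup_zpowers hA h1A hr hr1
          rw [← hgen] at hc
          rw [hc, ← h2] at h1
          refine Nat.eq_of_mul_eq_mul_right (show 0 < 2 * Nat.card B by
            have : 0 < Nat.card B := Nat.card_pos
            omega) ?_
          exact h1.trans (by rw [Subgroup.relIndex]; ring)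
        rwa [e]

theorem isoInvariant_typ : KnownSimple.IsoInvariant
    (fun (X : Type u) [Group X] => Cfsg.IsSuzukiOrPSL2OddPowerThree X) := by
  intro X Y _ _ e h
  rcases h with ⟨F, iF, iFt, m, hm, hF, ⟨f⟩⟩ | ⟨F, iF, iFt, n, hF, ⟨f⟩⟩
  · exact Or.inl ⟨F, iF, iFt, m, hm, hF, ⟨e.symm.trans f⟩⟩
  · exact Or.inr ⟨F, iF, iFt, n, hF, ⟨e.symm.trans f⟩⟩

/-- The allowed composition factors: the two families, and groups of odd order. -/
def TypOdd (X : Type u) [Group X] : Prop := Cfsg.IsSuzukiOrPSL2OddPowerThree X ∨ Odd (Nat.card X)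

theorem isoInvariant_typOdd : KnownSimple.IsoInvariant (fun (X : Type u) [Group X] => TypOdd X) := by
  intro X Y _ _ e h
  rcases h with h | h
  · exact Or.inl (isoInvariant_typ X Y e h)
  · exact Or.inr (Nat.card_congr e.toEquiv ▸ h)

/-- A subnormal subgroup of odd order lies in `O(G)`. -/
theorem subnormal_le_oddCore [Finite G] {H : Subgroup G} (hH : H.IsSubnormal) (ho : Odd (Nat.card H)) :
    H ≤ Cfsg.pPrimeCore 2 G := by
  suffices key : ∀ K : Subgroup G, K.IsSubnormal →
      (Cfsg.pPrimeCore 2 K).map K.subtype ≤ Cfsg.pPrimeCore 2 G by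
    refine le_trans ?_ (key H hH)
    have : (⊤ : Subgroup H) ≤ Cfsg.pPrimeCore 2 H :=
      Cores.le_pPrimeCore (by rw [Subgroup.card_top]; exact Nat.coprime_two_right.2 ho)
    rw [top_le_iff.1 this, ← MonoidHom.range_eq_map, Subgroup.range_subtype]
  intro K hK
  have hcop : ∀ K : Subgroup G, (Nat.card ↥((Cfsg.pPrimeCore 2 K).map K.subtype)).Coprime 2 := fun K => by
    rw [Subgroup.card_map_of_injective K.subtype_injective]; exact Cores.pPrimeCore_coprime 2
  induction hK with
  | top =>
    haveI := Cores.normal_map_subtype (⊤ : Subgroup G) (Cfsg.pPrimeCore 2 (⊤ : Subgroup G))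
    exact Cores.le_pPrimeCore (hcop ⊤)
  | step H K hle _ hN ih =>
    haveI := hN
    refine le_trans ?_ ih
    haveI := Cores.normal_map_subtype (H.subgroupOf K) (Cfsg.pPrimeCore 2 (H.subgroupOf K))
    have h1 : ((Cfsg.pPrimeCore 2 (H.subgroupOf K)).map (H.subgroupOf K).subtype).map K.subtype
        ≤ (Cfsg.pPrimeCore 2 K).map K.subtype :=
      Subgroup.map_mono (Cores.le_pPrimeCore (by
        rw [Subgroup.card_map_of_injective (Subgroup.subtype_injective _)]; exact Cores.pPrimeCore_coprime 2))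
    refine le_trans (le_of_eq ?_) h1
    rw [← Cores.map_pPrimeCore_equiv (Subgroup.subgroupOfEquivOfLe hle), Subgroup.map_map, Subgroup.map_map]
    rfl

/-- Existence of a pair, odd-order composition factors allowed. -/
theorem hasPair' [Finite G] (hcore : Cfsg.pCore 2 G = ⊥) (hfree : ¬ Cfsg.Involves (Equiv.Perm (Fin 4)) G)
    (hc : Cfsg.IsCompositionKGroupWith (fun (X : Type u) [Group X] => TypOdd X) G) {A : Subgroup G}
    (hA : Cfsg.IsElementaryAbelian 2 A) (hne : A ≠ ⊥) : HasPair A ⊤ := by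
  classical
  haveI : Fact (Nat.Prime 2) := ⟨Nat.prime_two⟩
  set K := Cfsg.pPrimeCore 2 G with hKdef
  have hKodd : Odd (Nat.card K) := Nat.coprime_two_right.1 (Cores.pPrimeCore_coprime 2)
  by_cases hK : A ≤ Subgroup.centralizer (K : Set G)
  · -- some component is moved
    obtain ⟨L, hL, hAL⟩ : ∃ L : Subgroup G, Cfsg.IsComponent L ∧ ¬ A ≤ Subgroup.centralizer (L : Set G) := by
      by_contra hcon
      push Not at hcon
      apply hne
      rw [eq_bot_iff]
      intro a ha
      have hF : Cfsg.fittingSubgroup G ≤ K := by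
        rw [Cores.fittingSubgroup_eq_iSup_pCore]
        refine iSup_le fun p => ?_
        haveI : Fact (p : ℕ).Prime := ⟨p.2⟩
        by_cases hp : (p : ℕ) = 2
        · rw [hp, hcore]; exact bot_le
        · refine Cores.le_pPrimeCore (N := Cfsg.pCore (p : ℕ) G) ?_
          obtain ⟨k, hk⟩ := (Cores.pCore_isPGroup (G := G) (p : ℕ)).exists_card_eq
          rw [hk]
          exact Nat.Coprime.pow_left k ((Nat.coprime_primes p.2 Nat.prime_two).2 hp)
      have hcF : Subgroup.centralizer (Cfsg.generalizedFittingSubgroup G : Set G) ≤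
          Cfsg.fittingSubgroup G := by
        haveI : (Subgroup.centralizer (Cfsg.generalizedFittingSubgroup G : Set G)).Normal := inferInstance
        refine Cores.le_fittingSubgroup ?_
        have hab : IsMulCommutative ↥(Subgroup.centralizer (Cfsg.generalizedFittingSubgroup G : Set G)) :=
          ⟨⟨fun x y => Subtype.ext (Subgroup.mem_centralizer_iff.1 y.2 x
            (Components.GenFitting.centralizer_le x.2))⟩⟩
        letI : CommGroup ↥(Subgroup.centralizer (Cfsg.generalizedFittingSubgroup G : Set G)) :=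
          { (inferInstance : Group ↥(Subgroup.centralizer (Cfsg.generalizedFittingSubgroup G : Set G))) with
            mul_comm := hab.is_comm.comm }
        exact CommGroup.isNilpotent
      have hac : a ∈ Subgroup.centralizer (Cfsg.generalizedFittingSubgroup G : Set G) := by
        have h1 : Cfsg.generalizedFittingSubgroup G ≤ Subgroup.centralizer ({a} : Set G) := by
          unfold Cfsg.generalizedFittingSubgroup Cfsg.layer
          refine sup_le (sSup_le fun L hL x hx => ?_) fun x hx => ?_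
          · exact Subgroup.mem_centralizer_singleton_iff.2 (Subgroup.mem_centralizer_iff.1 (show a ∈ Subgroup.centralizer (L : Set G) from (hcon L hL : A ≤ Subgroup.centralizer (L : Set G)) ha) x hx)
          · exact Subgroup.mem_centralizer_singleton_iff.2 (Subgroup.mem_centralizer_iff.1 (show a ∈ Subgroup.centralizer (K : Set G) from hK ha) x (hF hx))
        exact Subgroup.mem_centralizer_iff.2 fun x hx => Subgroup.mem_centralizer_singleton_iff.1 (h1 hx)
      rw [Subgroup.mem_bot, ← orderOf_eq_one_iff]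
      exact Nat.eq_one_of_dvd_coprimes (Nat.coprime_two_right.2 hKodd)
        (Subgroup.orderOf_dvd_natCard K (hF (hcF hac))) (orderOf_dvd_of_pow_eq_one (hA.2 a ha))
    have hq : Cfsg.IsQuasisimple ↥L := hL.2
    have hZ : Odd (Nat.card (Subgroup.center ↥L)) := by
      rw [Nat.odd_iff]
      by_contra hev
      obtain ⟨z, hz⟩ := exists_prime_orderOf_dvd_card' 2 (G := Subgroup.center ↥L) (by omega)
      have hsub : (Subgroup.zpowers ((z : L) : G)).IsSubnormal := by
        have h1 : (Subgroup.zpowers (z : L)).Normal := ⟨fun x hx g => by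
          obtain ⟨i, rfl⟩ := hx
          rw [((show Commute g (z : L) from Subgroup.mem_center_iff.1 z.2 g).zpow_right i).eq,
            mul_inv_cancel_right]
          exact Subgroup.zpow_mem_zpowers _ i⟩
        have h2 := h1.isSubnormal.trans' hL.1
        rwa [MonoidHom.map_zpowers] at h2
      have hp : IsPGroup 2 (Subgroup.zpowers ((z : L) : G)) :=
        IsPGroup.of_card (n := 1) (by rw [Nat.card_zpowers, Subgroup.orderOf_coe, Subgroup.orderOf_coe, hz, pow_one])
      have hz1 := Cores.IsSubnormal.le_pCore hsub hp (Subgroup.mem_zpowers _)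
      rw [hcore, Subgroup.mem_bot, ← orderOf_eq_one_iff, Subgroup.orderOf_coe, Subgroup.orderOf_coe, hz] at hz1
      omega
    haveI := hq.2
    haveI := hq.1
    have hna : ¬ IsMulCommutative (↥L ⧸ Subgroup.center ↥L) := fun hcm => by
      haveI : Group.IsPerfect (↥L ⧸ Subgroup.center ↥L) :=
        Group.IsPerfect.ofSurjective (QuotientGroup.mk'_surjective _)
      have hb := (_root_.commutator_eq_bot_iff _).2 hcm
      rw [Group.IsPerfect.commutator_eq_top] at hb
      exact top_ne_bot hb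
    have htyp : Cfsg.IsSuzukiOrPSL2OddPowerThree (↥L ⧸ Subgroup.center ↥L) := by
      refine (KnownSimple.compKGroup_apply isoInvariant_typOdd hc hL.1 (QuotientGroup.mk' _)
        (QuotientGroup.mk'_surjective _) inferInstance hna).resolve_right fun hodd => hAL ?_
      refine hK.trans (Subgroup.centralizer_le (subnormal_le_oddCore hL.1 ?_))
      rw [Subgroup.card_eq_card_quotient_mul_card_subgroup (Subgroup.center ↥L)]
      exact hodd.mul hZ
    have hg : GoodQ L := good_of_simple inferInstance hna htyp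
    refine hasPair_orbit hfree _ A L ⊤ rfl hA hq hZ hg (fun a _ => ?_) hAL fun a _ => le_top
    rcases Components.Component.eq_or_commutator_eq_bot hL (Components.Component.conj hL a) with h | h
    · exact Or.inl h.symm
    · refine Or.inr fun x hx y hy => ?_
      exact (Subgroup.mem_centralizer_iff.1 (Subgroup.commutator_eq_bot_iff_le_centralizer.1 h hx)
        (a * y * a⁻¹) ⟨y, hy, rfl⟩).symm
  · -- a hyperplane with fixed points in `K` not centralised by `A`
    obtain ⟨x₀, hx₀, hxA⟩ := SetLike.not_le_iff_exists.1 hK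
    have hnK : A ≤ Subgroup.normalizer (K : Set G) := fun a _ => by
      rw [Subgroup.normalizer_eq_top]; trivial
    obtain ⟨B, x, a, hBA, hBi, hxK, hxB, haA, hax⟩ : ∃ (B : Subgroup G) (x a : G), B ≤ A ∧ B.relIndex A ≤ 2 ∧
        x ∈ K ∧ x ∈ Subgroup.centralizer (B : Set G) ∧ a ∈ A ∧ a * x ≠ x * a := by
      by_contra hcon
      push Not at hcon
      apply hxA
      refine Subgroup.mem_centralizer_iff.2 fun y hy => ?_
      have hle := (PLocal.le_iSup_fixOn_hyperplane (p := 2) hA hnK (Nat.coprime_two_right.2 hKodd)).trans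
        (iSup_le fun B => show PLocal.fixOn K (B : Subgroup G) ≤ Subgroup.centralizer ({x₀} : Set G) from
          fun z hz => Subgroup.mem_centralizer_singleton_iff.2
            (hcon B.1 z x₀ B.2.1 B.2.2 hz.1 hz.2 hx₀).symm)
      exact Subgroup.mem_centralizer_singleton_iff.1 (hle hy)
    obtain ⟨ha2, hai⟩ := inv_of_elem hA haA
    have haB : a ∉ B := fun h => hax (Subgroup.mem_centralizer_iff.1 hxB a h)
    have hyK : a * (x * a * x⁻¹) ∈ K := by
      have := mul_mem ((inferInstance : K.Normal).conj_mem x hxK a) (inv_mem hxK)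
      rw [hai] at this
      simpa [mul_assoc] using this
    have hy1 : a * (x * a * x⁻¹) ≠ 1 := fun h => hax (by
      have h1 := inv_eq_of_mul_eq_one_right h
      rw [hai] at h1
      exact mul_inv_eq_iff_eq_mul.1 h1.symm |>.symm)
    obtain ⟨p, hp, hp2, hpd⟩ := exists_odd_prime_dvd (hKodd.of_dvd_nat (Subgroup.orderOf_dvd_natCard K hyK)) hy1
    obtain ⟨k, hk, hko⟩ := exists_prime_power_of_dvd hp hpd
    exact ⟨B, a, x, k, hBA, haA, haB, trivial, hxB, hk, hko.symm ▸ hp, hko.symm ▸ hp2, Or.inl hBi⟩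

theorem hasPair [Finite G] (hcore : Cfsg.pCore 2 G = ⊥) (hfree : ¬ Cfsg.Involves (Equiv.Perm (Fin 4)) G)
    (hc : Cfsg.IsCompositionKGroupWith Cfsg.IsSuzukiOrPSL2OddPowerThree G) {A : Subgroup G}
    (hA : Cfsg.IsElementaryAbelian 2 A) (hne : A ≠ ⊥) : HasPair A ⊤ :=
  hasPair' hcore hfree (fun H hH N _ hs hna => Or.inl (hc H hH N hs hna)) hA hne

end Cfsg.Agent.Lib.GlaubermanTwo54
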