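import Cfsg.Agent.Lib.GlaubermanTwo54.Factor

/-!
# Minimal normal factors inside `O₂(G)`; bounds for sums

Owner: helper54.
-/

set_option autoImplicit false
set_option linter.style.haveILetI false
set_option linter.unusedSectionVars false

namespace Cfsg.Agent.Lib.GlaubermanTwo54

open PLocal
open scoped commutatorElement

variable {G : Type*} [Group G] [Finite G]

/-- A top chief factor of a nontrivial normal subgroup of `O₂(G)`. -/
theorem exists_factor {K : Subgroup G} [hK : K.Normal] (hKQ : K ≤ Cfsg.pCore 2 G) (hne : K ≠ ⊥) :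
    ∃ (N : Subgroup G) (hN : N.Normal), N < K ∧
      (haveI := hN; Cfsg.IsElementaryAbelian 2 (K.map (QuotientGroup.mk' N))) ∧
      ⁅K, Cfsg.pCore 2 G⁆ ≤ N ∧ ∀ M : Subgroup G, M.Normal → N ≤ M → M ≤ K → M = N ∨ M = K := by
  haveI : Fact (Nat.Prime 2) := ⟨Nat.prime_two⟩
  obtain ⟨N, ⟨hN, hNK⟩, hmax⟩ := (Set.toFinite {M : Subgroup G | M.Normal ∧ M < K}).exists_maximal
    ⟨⊥, Subgroup.normal_bot, bot_lt_iff_ne_bot.mpr hne⟩
  haveI := hN
  have hmax' : ∀ M : Subgroup G, M.Normal → N ≤ M → M ≤ K → M = N ∨ M = K := by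
    intro M hM hNM hMK
    rcases eq_or_ne M K with h | h
    · exact Or.inr h
    · exact Or.inl (le_antisymm (hmax ⟨hM, lt_of_le_of_ne hMK h⟩ hNM) hNM)
  set π := QuotientGroup.mk' N with hπ
  have hπs : Function.Surjective π := QuotientGroup.mk'_surjective N
  set K' := K.map π with hK'
  haveI hK'n : K'.Normal := hK.map π hπs
  have hker : π.ker = N := QuotientGroup.ker_mk' N
  have hsimple : ∀ X : Subgroup (G ⧸ N), X.Normal → X ≤ K' → X = ⊥ ∨ X = K' := by
    intro X hX hXK
    rcases hmax' (X.comap π) (hX.comap π) (by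
      intro x hx
      show π x ∈ X
      rw [show π x = 1 from (QuotientGroup.eq_one_iff x).2 hx]
      exact one_mem _) (by
      refine (Subgroup.comap_mono hXK).trans ?_
      rw [hK', Subgroup.comap_map_eq, hker]
      exact sup_le le_rfl hNK.le) with h | h
    · left
      rw [← Subgroup.map_comap_eq_self_of_surjective hπs X, h, Subgroup.map_eq_bot_iff, hker]
    · right
      rw [← Subgroup.map_comap_eq_self_of_surjective hπs X, h]
  have hK'ne : K' ≠ ⊥ := by
    rw [Ne, hK', Subgroup.map_eq_bot_iff, hker]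
    exact not_le_of_gt hNK
  set Q' := (Cfsg.pCore 2 G).map π with hQ'
  haveI hQ'n : Q'.Normal := (inferInstance : (Cfsg.pCore 2 G).Normal).map π hπs
  have hKQ' : K' ≤ Q' := Subgroup.map_mono hKQ
  have hQ'p : IsPGroup 2 Q' := (Cores.pCore_isPGroup 2).map π
  have hcent : K' ≤ Subgroup.centralizer (Q' : Set (G ⧸ N)) := by
    haveI : (Subgroup.centralizer (Q' : Set (G ⧸ N))).Normal := Subgroup.normal_centralizer
    rcases hsimple (K' ⊓ Subgroup.centralizer (Q' : Set (G ⧸ N))) (Subgroup.normal_inf_normal _ _) inf_le_left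
      with h | h
    · exfalso
      have hne' : K'.subgroupOf Q' ≠ ⊥ := by
        rw [Ne, Subgroup.subgroupOf_eq_bot, disjoint_iff, inf_eq_left.2 hKQ']
        exact hK'ne
      refine PGroups.normal_inf_center_ne_bot hQ'p (K'.subgroupOf Q') hne' (eq_bot_iff.2 ?_)
      rintro ⟨x, hx⟩ ⟨hxK, hxc⟩
      have : x ∈ (⊥ : Subgroup (G ⧸ N)) := h.le ⟨hxK, Subgroup.mem_centralizer_iff.2 fun q hq =>
        congrArg Subtype.val (Subgroup.mem_center_iff.1 hxc ⟨q, hq⟩)⟩
      exact Subtype.ext (Subgroup.mem_bot.1 this)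
    · exact inf_eq_left.1 h
  have hcomm : IsMulCommutative ↥K' :=
    Subgroup.le_centralizer_iff_isMulCommutative.mp (hcent.trans (Subgroup.centralizer_le hKQ'))
  refine ⟨N, hN, hNK, ?_, ?_, hmax'⟩
  · haveI : (Cfsg.omegaOne 2 K').Normal := PGroups.omegaOne_normal
    rcases hsimple (Cfsg.omegaOne 2 K') inferInstance (PGroups.omegaOne_le 2 K') with h | h
    · exact absurd h (PGroups.omegaOne_ne_bot (hQ'p.to_le hKQ') hK'ne)
    · have := PGroups.elemAb_omegaOne (p := 2) hcomm
      rw [h] at this; exact this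
  · rw [← hker, ← Subgroup.map_eq_bot_iff, Subgroup.map_commutator]
    exact Subgroup.commutator_eq_bot_iff_le_centralizer.2 hcent

/-- `|A : C_A(V)|³ ≤ |V : C_V(A)|²`. -/
def Cu (V A : Subgroup G) : Prop :=
  (Subgroup.centralizer (V : Set G)).relIndex A ^ 3 ≤ (Subgroup.centralizer (A : Set G)).relIndex V ^ 2

/-- The bound for a group generated by submodules. -/
theorem cu_of_generated {ι : Type*} [Finite ι] (W : ι → Subgroup G) {V A : Subgroup G}
    (hVW : V = ⨆ i, W i) (h : ∀ i, ∀ B ≤ A, Cu (W i) B) : Cu V A := by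
  classical
  cases nonempty_fintype ι
  have key : ∀ s : Finset ι, ∀ B ≤ A, Cu (s.sup W) B := by
    intro s
    induction s using Finset.induction_on with
    | empty =>
      intro B _
      rw [Finset.sup_empty]
      have hb : B ≤ Subgroup.centralizer ((⊥ : Subgroup G) : Set G) := fun b _ =>
        Subgroup.mem_centralizer_iff.mpr fun x hx => by
          rw [SetLike.mem_coe, Subgroup.mem_bot] at hx; subst hx; simp
      rw [Cu, Subgroup.relIndex_eq_one.mpr hb, one_pow]
      exact Nat.one_le_pow _ _ (Nat.pos_of_ne_zero Subgroup.index_ne_zero_of_finite)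
    | insert i s hi ih =>
      intro B hB
      rw [Finset.sup_insert, sup_comm]
      set V₁ := s.sup W
      set V₂ := W i
      set B₂ := B ⊓ Subgroup.centralizer (V₁ : Set G) with hB₂
      have h1 := ih B hB
      have h2 := h i B₂ (inf_le_left.trans hB)
      have hcV : Subgroup.centralizer ((V₁ ⊔ V₂ : Subgroup G) : Set G) =
          Subgroup.centralizer (V₁ : Set G) ⊓ Subgroup.centralizer (V₂ : Set G) := by
        refine le_antisymm (le_inf (Subgroup.centralizer_le (SetLike.coe_subset_coe.mpr le_sup_left))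
          (Subgroup.centralizer_le (SetLike.coe_subset_coe.mpr le_sup_right))) ?_
        exact Subgroup.le_centralizer_iff.mp (sup_le (Subgroup.le_centralizer_iff.mp inf_le_left)
          (Subgroup.le_centralizer_iff.mp inf_le_right))
      set C := Subgroup.centralizer ((B : Subgroup G) : Set G)
      set C₂ := Subgroup.centralizer ((B₂ : Subgroup G) : Set G)
      have hl : (Subgroup.centralizer ((V₁ ⊔ V₂ : Subgroup G) : Set G)).relIndex B =
          (Subgroup.centralizer (V₁ : Set G)).relIndex B *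
            (Subgroup.centralizer (V₂ : Set G)).relIndex B₂ := by
        rw [hcV]
        have h3 := Subgroup.relIndex_mul_relIndex (B ⊓ (Subgroup.centralizer (V₁ : Set G) ⊓
          Subgroup.centralizer (V₂ : Set G))) B₂ B (le_inf inf_le_left (inf_le_right.trans inf_le_left))
          inf_le_left
        rw [Subgroup.inf_relIndex_left, hB₂, Subgroup.inf_relIndex_left] at h3
        rw [← h3, mul_comm]
        congr 1
        have h4 : B ⊓ (Subgroup.centralizer (V₁ : Set G) ⊓ Subgroup.centralizer (V₂ : Set G)) =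
            B₂ ⊓ Subgroup.centralizer (V₂ : Set G) := by rw [hB₂, inf_assoc]
        rw [h4, Subgroup.inf_relIndex_left, hB₂]
      have hr : C.relIndex V₁ * C₂.relIndex V₂ ≤ C.relIndex (V₁ ⊔ V₂) := by
        set X := V₁ ⊔ V₂ with hX
        have hC2V1 : V₁ ≤ C₂ := Subgroup.le_centralizer_iff.mp inf_le_right
        set M := V₁ ⊔ (X ⊓ C) with hM
        have hMC2 : M ≤ X ⊓ C₂ := sup_le (le_inf le_sup_left hC2V1)
          (inf_le_inf_left _ (Subgroup.centralizer_le inf_le_left))
        have h3 := Subgroup.relIndex_mul_relIndex (X ⊓ C) M X le_sup_right (hMC2.trans inf_le_left)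
        rw [Subgroup.inf_relIndex_left] at h3
        rw [← h3]
        refine Nat.mul_le_mul ?_ ?_
        · refine le_trans ?_ (Subgroup.relIndex_le_of_le_right (le_sup_left : V₁ ≤ M)
            Subgroup.index_ne_zero_of_finite)
          exact Subgroup.relIndex_le_of_le_left inf_le_right Subgroup.index_ne_zero_of_finite
        · calc C₂.relIndex V₂ ≤ C₂.relIndex X :=
                Subgroup.relIndex_le_of_le_right le_sup_right Subgroup.index_ne_zero_of_finite
            _ ≤ M.relIndex X := Subgroup.relIndex_le_of_le_left (hMC2.trans inf_le_right)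
                Subgroup.index_ne_zero_of_finite
      rw [Cu, hl, mul_pow]
      calc _ ≤ C.relIndex V₁ ^ 2 * C₂.relIndex V₂ ^ 2 := Nat.mul_le_mul h1 h2
        _ = (C.relIndex V₁ * C₂.relIndex V₂) ^ 2 := (mul_pow _ _ _).symm
        _ ≤ _ := Nat.pow_le_pow_left hr 2
  have := key Finset.univ A le_rfl
  rwa [Finset.sup_univ_eq_iSup, ← hVW] at this

/-- The inequality in the E-property, for an elementary abelian `R`. -/
theorem eprop_ineq {V P R : Subgroup G} (hp : EProp V P) (hR : R ≤ P) (he : Cfsg.IsElementaryAbelian 2 R) :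
    (Subgroup.centralizer (V : Set G)).relIndex R = 1 ∨
      (Subgroup.centralizer (V : Set G)).relIndex R ^ 3 <
        (Subgroup.centralizer (R : Set G)).relIndex V ^ 2 := by
  by_cases hne : R ≤ Subgroup.centralizer (V : Set G)
  · exact Or.inl (Subgroup.relIndex_eq_one.2 hne)
  refine Or.inr ?_
  obtain ⟨h1, -⟩ := hp R hR (by
    rw [Subgroup.commutator_le]
    intro a ha b hb
    rw [commutatorElement_eq_one_iff_mul_comm.2 (PGroups.elemAb_comm he ha hb)]
    exact one_mem _) (fun r hr => by rw [he.2 r hr]; exact one_mem _) hne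
  set i := (Subgroup.centralizer (V : Set G)).relIndex R
  set j := (Subgroup.centralizer (R : Set G)).relIndex V
  set r := Nat.card ↥(R ⊓ Subgroup.centralizer (V : Set G))
  set c := Nat.card ↥(V ⊓ Subgroup.centralizer (R : Set G))
  have hR' : Nat.card R = i * r := by
    have h := Subgroup.relIndex_mul_relIndex (⊥ : Subgroup G) (R ⊓ Subgroup.centralizer (V : Set G)) R
      bot_le inf_le_left
    rw [Subgroup.relIndex_bot_left, Subgroup.relIndex_bot_left, Subgroup.inf_relIndex_left] at h
    rw [← h]; ring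
  have hV' : Nat.card V = j * c := (SFourFree.relIndex_centralizer_mul_card V R).symm
  rw [hR', hV'] at h1
  by_contra hle
  push Not at hle
  apply absurd h1
  push Not
  calc (j * c) ^ 2 * r ^ 3 = j ^ 2 * (c ^ 2 * r ^ 3) := by ring
    _ ≤ i ^ 3 * (c ^ 2 * r ^ 3) := Nat.mul_le_mul_right _ hle
    _ = _ := by ring

theorem eprop_cu {V P R : Subgroup G} (hp : EProp V P) (hR : R ≤ P) (he : Cfsg.IsElementaryAbelian 2 R) :
    Cu V R := by
  rcases eprop_ineq hp hR he with h | h
  · rw [Cu, h, one_pow]
    exact Nat.one_le_pow _ _ (Nat.pos_of_ne_zero Subgroup.index_ne_zero_of_finite)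
  · exact h.le

end Cfsg.Agent.Lib.GlaubermanTwo54
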